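import Groth.Agent.ParaFLib.Gen
import Groth.Agent.PullbackMod.Hom
import Mathlib.AlgebraicGeometry.FunctionField

/-! Stalks of invertible modules; sections of invertible modules on integral schemes. -/

set_option autoImplicit false
set_option linter.style.haveILetI false

universe u

open CategoryTheory AlgebraicGeometry TopologicalSpace Opposite
open Groth.Agent.PullbackMod

noncomputable section

namespace Groth.Agent.ParaFLib

variable {X : Scheme.{u}} {L : X.Modules}

theorem germ_smul' {M : X.Modules} {U : X.Opens} (x : X) (hx : x ∈ U) (r : Γ(X, U)) (m : Γ(M, U)) :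
    M.presheaf.germ U x hx (r • m) = X.presheaf.germ U x hx r • M.presheaf.germ U x hx m :=
  PresheafOfModules.germ_smul (R := X.presheaf) M.val x U hx r m

theorem res_self {M : X.Modules} {U : X.Opens} (h : U ≤ U) (m : Γ(M, U)) :
    M.presheaf.map (homOfLE h).op m = m :=
  ConcreteCategory.congr_hom (M.presheaf.map_id _) m

theorem Gen.bijective_germ {W : X.Opens} {s : Γ(L, W)} (hs : Gen W s) (x : X) (hx : x ∈ W) :
    Function.Bijective fun r : X.presheaf.stalk x => r • L.presheaf.germ W x hx s := by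
  constructor
  · intro r r' h
    obtain ⟨U, hU, a, rfl⟩ := TopCat.Presheaf.exists_germ_eq X.presheaf r
    obtain ⟨U', hU', a', rfl⟩ := TopCat.Presheaf.exists_germ_eq X.presheaf r'
    have hx' : x ∈ U ⊓ U' ⊓ W := ⟨⟨hU, hU'⟩, hx⟩
    change _ • L.presheaf.germ W x hx s = _ • L.presheaf.germ W x hx s at h
    rw [← TopCat.Presheaf.germ_res_apply L.presheaf (homOfLE (inf_le_right : U ⊓ U' ⊓ W ≤ W)) x hx'] at h
    rw [← TopCat.Presheaf.germ_res_apply X.presheaf (homOfLE (inf_le_left.trans inf_le_left : U ⊓ U' ⊓ W ≤ U)) x hx',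
      ← TopCat.Presheaf.germ_res_apply X.presheaf (homOfLE (inf_le_left.trans inf_le_right : U ⊓ U' ⊓ W ≤ U')) x hx'] at h ⊢
    change X.presheaf.germ _ x hx' _ • _ = X.presheaf.germ _ x hx' _ • _ at h
    simp only [← germ_smul'] at h
    obtain ⟨V, hV, i, i', hVeq⟩ := TopCat.Presheaf.germ_eq L.presheaf x hx' hx' _ _ h
    rw [show i = homOfLE (leOfHom i) from rfl, show i' = homOfLE (leOfHom i') from rfl, L.map_smul,
      L.map_smul, res_res] at hVeq
    have := (hs V ((leOfHom i).trans inf_le_right)).1 hVeq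
    rw [← TopCat.Presheaf.germ_res_apply X.presheaf i x hV,
      ← TopCat.Presheaf.germ_res_apply X.presheaf i x hV (X.presheaf.map _ a')]
    exact congrArg (X.presheaf.germ V x hV) this
  · intro z
    obtain ⟨U, hU, m, rfl⟩ := TopCat.Presheaf.exists_germ_eq L.presheaf z
    have hx' : x ∈ U ⊓ W := ⟨hU, hx⟩
    obtain ⟨r, hr⟩ := (hs (U ⊓ W) inf_le_right).2 (L.presheaf.map (homOfLE inf_le_left).op m)
    refine ⟨X.presheaf.germ _ x hx' r, ?_⟩
    show X.presheaf.germ _ x hx' r • L.presheaf.germ W x hx s = _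
    rw [← TopCat.Presheaf.germ_res_apply L.presheaf (homOfLE (inf_le_right : U ⊓ W ≤ W)) x hx',
      ← germ_smul', ← TopCat.Presheaf.germ_res_apply L.presheaf (homOfLE (inf_le_left : U ⊓ W ≤ U)) x hx']
    exact congrArg (L.presheaf.germ _ x hx') hr

theorem exists_gen_nhd (hL : PicF.IsInvertible L) (x : X) :
    ∃ (W : X.Opens) (s : Γ(L, W)), x ∈ W ∧ Gen W s := by
  obtain ⟨W, hx, ⟨e⟩⟩ := hL x
  obtain ⟨s, hs⟩ := exists_gen_of_iso e
  exact ⟨W.ι ''ᵁ ⊤, s, W.ι_image_top.ge hx, hs⟩

theorem exists_stalk_gen (hL : PicF.IsInvertible L) (x : X) :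
    ∃ e : L.presheaf.stalk x, Function.Bijective fun r : X.presheaf.stalk x => r • e := by
  obtain ⟨W, s, hx, hs⟩ := exists_gen_nhd hL x
  exact ⟨_, hs.bijective_germ x hx⟩

/-- A section of an invertible module on an integral scheme is determined by its generic germ. -/
theorem eq_zero_of_germ_generic [IsIntegral X] (hL : PicF.IsInvertible L) {O : X.Opens} (σ : Γ(L, O))
    (h : ∀ hη : genericPoint X ∈ O, L.presheaf.germ O (genericPoint X) hη σ = 0) : σ = 0 := by
  refine TopCat.Presheaf.section_ext (⟨L.presheaf, L.isSheaf⟩ : TopCat.Sheaf Ab X) O σ 0 fun x hx => ?_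
  obtain ⟨W, s, hxW, hs⟩ := exists_gen_nhd hL x
  obtain ⟨r, hr⟩ := (hs (O ⊓ W) inf_le_right).2 (L.presheaf.map (homOfLE inf_le_left).op σ)
  change r • L.presheaf.map (homOfLE inf_le_right).op s = _ at hr
  have hη : genericPoint X ∈ O ⊓ W :=
    ((genericPoint_spec X).mem_open_set_iff (O ⊓ W).isOpen).2 ⟨x, trivial, hx, hxW⟩
  have h1 := congrArg (L.presheaf.germ (O ⊓ W) (genericPoint X) hη) hr
  rw [germ_smul', TopCat.Presheaf.germ_res_apply, TopCat.Presheaf.germ_res_apply, h hη.1] at h1
  have h2 : X.presheaf.germ (O ⊓ W) (genericPoint X) hη r = 0 :=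
    (hs.bijective_germ _ hη.2).1 (show _ • _ = (0 : X.presheaf.stalk (genericPoint X)) • _ by
      rw [zero_smul]; exact h1)
  have h3 : r = 0 := germ_injective_of_isIntegral X _ hη (h2.trans (map_zero _).symm)
  show L.presheaf.germ O x hx σ = L.presheaf.germ O x hx 0
  rw [map_zero, ← TopCat.Presheaf.germ_res_apply L.presheaf (homOfLE (inf_le_left : O ⊓ W ≤ O)) x ⟨hx, hxW⟩ σ,
    ← hr, h3, zero_smul, map_zero]

/-- A nonzero map into an invertible module on an integral scheme is nonzero at the generic point. -/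
theorem stalkLin_generic_ne_zero [IsIntegral X] (hL : PicF.IsInvertible L) {M : X.Modules} {φ : M ⟶ L}
    (hφ : φ ≠ 0) : stalkLin φ (genericPoint X) ≠ 0 := fun h0 => hφ <| by
  refine Scheme.Modules.hom_ext _ _ fun O => AddCommGrpCat.hom_ext (AddMonoidHom.ext fun m => ?_)
  show φ.app O m = _
  rw [Scheme.Modules.Hom.zero_app]
  refine eq_zero_of_germ_generic hL _ fun hη => ?_
  rw [← stalkLin_germ, h0]
  rfl

theorem isInvertible_structureModule : PicF.IsInvertible (Coh.structureModule X) :=
  fun _ => ⟨⊤, trivial, ⟨DCohLib.restrictUnit _⟩⟩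

/-- The germ at `x` of the section `1` of the structure sheaf of modules. -/
def oneG (x : X) : (Coh.structureModule X).presheaf.stalk x :=
  (Coh.structureModule X).presheaf.germ ⊤ x trivial (1 : Γ(X, ⊤))

theorem gen_one (O : X.Opens) : Gen (L := Coh.structureModule X) O (1 : Γ(X, O)) := fun O' h => by
  have : (fun r : Γ(X, O') => r • (Coh.structureModule X).presheaf.map (homOfLE h).op (1 : Γ(X, O)))
      = fun r : Γ(X, O') => (r : Γ(Coh.structureModule X, O')) := funext fun r => by
    show r * (X.presheaf.map (homOfLE h).op).hom 1 = r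
    rw [map_one, mul_one]
  rw [this]
  exact Function.bijective_id

theorem bijective_oneG (x : X) : Function.Bijective fun r : X.presheaf.stalk x => r • oneG x :=
  (gen_one ⊤).bijective_germ x trivial

theorem smul_one_eq {O : X.Opens} (r : Γ(X, O)) :
    r • (1 : Γ(X, O)) = (r : Γ(X, O)) := mul_one r

/-- An endomorphism of the structure sheaf is multiplication by its global function. -/
theorem stalkLin_unit_endo (φ : Coh.structureModule X ⟶ Coh.structureModule X) (x : X) :
    stalkLin φ x (oneG x) = X.presheaf.germ ⊤ x trivial (φ.app ⊤ (1 : Γ(X, ⊤))) • oneG x := by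
  refine (stalkLin_germ φ (U := ⊤) x trivial _).trans (Eq.trans ?_ (germ_smul' (U := ⊤) x trivial _ _))
  exact congrArg _ (smul_one_eq _).symm

/-- Bijectivity at a point of a map from the structure sheaf, in terms of a basis of the stalk. -/
theorem bijective_stalkLin_of_unit (φ : Coh.structureModule X ⟶ L) (x : X) {e : L.presheaf.stalk x}
    (he : Function.Bijective fun r : X.presheaf.stalk x => r • e) {a : X.presheaf.stalk x}
    (ha : a • e = stalkLin φ x (oneG x)) (hu : IsUnit a) :
    Function.Bijective (stalkLin φ x) := by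
  refine (Function.Bijective.of_comp_iff (stalkLin φ x) (bijective_oneG x)).1 ?_
  have : ((stalkLin φ x) ∘ fun r : X.presheaf.stalk x => r • oneG x)
      = (fun r => r • e) ∘ fun r : X.presheaf.stalk x => r * a := funext fun r => by
    show stalkLin φ x (r • oneG x) = (r * a) • e
    rw [map_smul, mul_smul, ha]
  rw [this]
  obtain ⟨v, rfl⟩ := hu
  exact he.comp v.mulRight.bijective

/-- A stalk map out of the structure sheaf vanishes if it kills `1`. -/
theorem stalkLin_eq_zero_of_one (φ : Coh.structureModule X ⟶ L) (x : X) (h : stalkLin φ x (oneG x) = 0) :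
    stalkLin φ x = 0 := LinearMap.ext fun z => by
  obtain ⟨r, rfl⟩ := (bijective_oneG x).2 z
  show stalkLin φ x (r • oneG x) = _
  rw [map_smul, h, smul_zero]
  rfl

/-- A section and a cosection with nonzero composite give an isomorphism, if global functions form a field. -/
theorem isIso_of_section_cosection [IsIntegral X] (hfield : IsField Γ(X, ⊤)) (hL : PicF.IsInvertible L)
    (s : Coh.structureModule X ⟶ L) (hs : s ≠ 0) (t : L ⟶ Coh.structureModule X) (ht : t ≠ 0) :
    IsIso s := by
  let η := genericPoint X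
  let f : Γ(X, ⊤) := (s ≫ t).app ⊤ (1 : Γ(X, ⊤))
  have hcomp : ∀ (x : X), stalkLin t x (stalkLin s x (oneG x))
      = X.presheaf.germ ⊤ x trivial f • oneG x := fun x => by
    rw [← LinearMap.comp_apply, ← stalkLin_comp, stalkLin_unit_endo]
  have hf : f ≠ 0 := fun h => by
    obtain ⟨e, he⟩ := exists_stalk_gen hL η
    obtain ⟨a, ha⟩ := he.2 (stalkLin s η (oneG η))
    change a • e = _ at ha
    have h0 := hcomp η
    rw [h, map_zero, zero_smul, ← ha, map_smul] at h0
    obtain ⟨b, hb⟩ := (bijective_oneG η).2 (stalkLin t η e)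
    change b • oneG η = _ at hb
    rw [← hb, ← mul_smul] at h0
    have hab : a * b = 0 := (bijective_oneG η).1 (h0.trans (zero_smul _ _).symm)
    rcases mul_eq_zero.1 hab with ha0 | hb0
    · refine stalkLin_generic_ne_zero hL hs (stalkLin_eq_zero_of_one s η ?_)
      rw [← ha, ha0, zero_smul]
    · refine stalkLin_generic_ne_zero isInvertible_structureModule ht (LinearMap.ext fun z => ?_)
      obtain ⟨r, rfl⟩ := he.2 z
      show stalkLin t η (r • e) = _
      rw [map_smul, ← hb, hb0, zero_smul, smul_zero]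
      rfl
  have hu : IsUnit f := by
    obtain ⟨g, hg⟩ := hfield.mul_inv_cancel hf
    exact IsUnit.of_mul_eq_one g hg
  rw [isIso_iff_stalk]
  intro x
  obtain ⟨e, he⟩ := exists_stalk_gen hL x
  obtain ⟨a, ha⟩ := he.2 (stalkLin s x (oneG x))
  refine bijective_stalkLin_of_unit s x he ha ?_
  obtain ⟨b, hb⟩ := (bijective_oneG x).2 (stalkLin t x e)
  change b • oneG x = _ at hb
  have h0 := hcomp x
  rw [← show a • e = _ from ha, map_smul, ← hb, ← mul_smul] at h0
  have hab := (bijective_oneG x).1 h0
  exact isUnit_of_mul_isUnit_left (hab ▸ hu.map (X.presheaf.germ ⊤ x trivial).hom : IsUnit (a * b))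

end Groth.Agent.ParaFLib
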