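import Groth.Agent.ParaFLib.Gen
import Groth.Prelude.Def_MeroSh

/-! Invertible modules from cocycles of units. -/

set_option autoImplicit false
set_option linter.style.haveILetI false

universe u

open CategoryTheory AlgebraicGeometry TopologicalSpace Opposite

noncomputable section

namespace Groth.Agent.ParaFLib

variable {X : Scheme.{u}} {ι : Type u} (U : ι → X.Opens) (c : X → ι)
  (η : ∀ i j : ι, (Γ(X, U i ⊓ U j))ˣ)

/-- The functions `x ↦ η_{i, c x}(x)`. -/
def eFun (hc : ∀ x, x ∈ U (c x)) (i : ι) (x : X) (hx : x ∈ U i) : X.presheaf.stalk x :=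
  X.presheaf.germ (U i ⊓ U (c x)) x ⟨hx, hc x⟩ (η i (c x) : Γ(X, U i ⊓ U (c x)))

/-- The predicate: a multiple of one of the local bases. -/
def cocyclePre (hc : ∀ x, x ∈ U (c x)) : TopCat.PrelocalPredicate (fun x : X => (X.presheaf.stalk x : Type u)) where
  pred {V} f := ∃ (i : ι) (h : V ≤ U i) (r : Γ(X, V)),
    ∀ x : V, f x = X.presheaf.germ V x.1 x.2 r * eFun U c η hc i x.1 (h x.2)
  res {V W} j f := fun ⟨i, h, r, hr⟩ => ⟨i, j.le.trans h, X.presheaf.map j.op r, fun x => by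
    rw [TopCat.Presheaf.germ_res_apply]
    exact hr ⟨x.1, j.le x.2⟩⟩

/-- The cocycle condition. -/
def IsCocycle : Prop :=
  ∀ i j k : ι,
    X.presheaf.map (homOfLE (inf_le_inf_right (U k) inf_le_left : U i ⊓ U j ⊓ U k ≤ U i ⊓ U k)).op
        (η i k : Γ(X, U i ⊓ U k)) =
      X.presheaf.map (homOfLE (inf_le_left : U i ⊓ U j ⊓ U k ≤ U i ⊓ U j)).op (η i j : Γ(X, U i ⊓ U j)) *
        X.presheaf.map (homOfLE (inf_le_inf_right (U k) inf_le_right : U i ⊓ U j ⊓ U k ≤ U j ⊓ U k)).op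
          (η j k : Γ(X, U j ⊓ U k))

variable (hc : ∀ x, x ∈ U (c x))

theorem eFun_eq {η} (hη : IsCocycle U η) (i j : ι) (x : X) (hi : x ∈ U i) (hj : x ∈ U j) :
    eFun U c η hc i x hi = X.presheaf.germ (U i ⊓ U j) x ⟨hi, hj⟩ (η i j : Γ(X, U i ⊓ U j)) * eFun U c η hc j x hj := by
  have hx : x ∈ U i ⊓ U j ⊓ U (c x) := ⟨⟨hi, hj⟩, hc x⟩
  have h := congrArg (X.presheaf.germ (U i ⊓ U j ⊓ U (c x)) x hx).hom (hη i j (c x))
  erw [map_mul, TopCat.Presheaf.germ_res_apply, TopCat.Presheaf.germ_res_apply,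
    TopCat.Presheaf.germ_res_apply] at h
  exact h

theorem isModPred_cocycle {η} (hη : IsCocycle U η) : Mero.IsModPred (cocyclePre U c η hc).sheafify where
  zero V := fun x => ⟨V ⊓ U (c x.1), ⟨x.2, hc x.1⟩, homOfLE inf_le_left, c x.1, inf_le_right, 0,
    fun y => by rw [map_zero, zero_mul]; rfl⟩
  add V f g hf hg := fun x => by
    obtain ⟨W, hW, i₁, a, ha, r, hr⟩ := hf x
    obtain ⟨W', hW', i₂, b, hb, r', hr'⟩ := hg x
    refine ⟨W ⊓ W', ⟨hW, hW'⟩, homOfLE inf_le_left ≫ i₁, a, inf_le_left.trans ha,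
      X.presheaf.map (homOfLE inf_le_left).op r + X.presheaf.map (homOfLE inf_le_right).op r' *
        X.presheaf.map (homOfLE (le_inf (inf_le_right.trans hb) (inf_le_left.trans ha))).op (η b a : Γ(X, U b ⊓ U a)),
      fun y => ?_⟩
    show f _ + g _ = _
    have e1 := hr ⟨y.1, y.2.1⟩
    have e2 := hr' ⟨y.1, y.2.2⟩
    rw [map_add, map_mul, TopCat.Presheaf.germ_res_apply, TopCat.Presheaf.germ_res_apply,
      TopCat.Presheaf.germ_res_apply, add_mul, mul_assoc,
      ← eFun_eq U c hc hη b a y.1 (hb y.2.2) (ha y.2.1)]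
    exact congrArg₂ (· + ·) e1 e2
  smul V r f hf := fun x => by
    obtain ⟨W, hW, i₁, a, ha, r', hr'⟩ := hf x
    refine ⟨W, hW, i₁, a, ha, X.presheaf.map i₁.op r * r', fun y => ?_⟩
    have e := hr' y
    show X.presheaf.germ V _ _ r • f _ = _
    rw [map_mul, TopCat.Presheaf.germ_res_apply, mul_assoc, ← e]
    rfl

/-- An invertible module with given transition functions. -/
theorem exists_invertible_of_cocycle (hU : iSup U = ⊤) (hη : IsCocycle U η) :
    ∃ (L : X.Modules) (s : ∀ i : ι, Γ(L, U i)), PicF.IsInvertible L ∧ (∀ i, Gen (U i) (s i)) ∧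
      ∀ i j : ι, L.presheaf.map (homOfLE (inf_le_left : U i ⊓ U j ≤ U i)).op (s i) =
        (η i j : Γ(X, U i ⊓ U j)) • L.presheaf.map (homOfLE (inf_le_right : U i ⊓ U j ≤ U j)).op (s j) := by
  choose c hc using fun x : X => Opens.mem_iSup.1 (hU.ge (Opens.mem_top x))
  haveI := isModPred_cocycle U c hc hη
  let P := (cocyclePre U c η hc).sheafify
  let s : ∀ i, Γ(Mero.modOf P, U i) := fun i =>
    ⟨fun x => eFun U c η hc i x.1 x.2, fun x => ⟨U i, x.2, 𝟙 _, i, le_rfl, 1, fun y => by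
      rw [map_one, one_mul]
      rfl⟩⟩
  have hgen : ∀ i, Gen (U i) (s i) := by
    intro i V hV
    have hu : ∀ (x : X) (hx : x ∈ U i), IsUnit (eFun U c η hc i x hx) := fun x hx =>
      (η i (c x)).isUnit.map _
    constructor
    · intro r r' h
      refine TopCat.Presheaf.section_ext X.sheaf V r r' fun x hx => (hu x (hV hx)).mul_left_injective ?_
      exact congrFun (congrArg Subtype.val h) ⟨x, hx⟩
    · intro f
      choose W hxW ι₁ j hj r hr using f.2
      let ρ : ∀ x : V, Γ(X, W x) := fun x => r x *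
        X.presheaf.map (homOfLE (le_inf (hj x) ((ι₁ x).le.trans hV))).op (η (j x) i : Γ(X, U (j x) ⊓ U i))
      have hρ : ∀ (x : V) (y : X) (hy : y ∈ W x),
          X.presheaf.germ (W x) y hy (ρ x) * eFun U c η hc i y (hV ((ι₁ x).le hy)) = f.1 ⟨y, (ι₁ x).le hy⟩ := by
        intro x y hy
        rw [map_mul, TopCat.Presheaf.germ_res_apply, mul_assoc,
          ← eFun_eq U c hc hη (j x) i y (hj x hy) (hV ((ι₁ x).le hy))]
        exact (hr x ⟨y, hy⟩).symm
      obtain ⟨g, hg, -⟩ := X.sheaf.existsUnique_gluing' W V ι₁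
        (fun x hx => Opens.mem_iSup.2 ⟨⟨x, hx⟩, hxW _⟩) ρ (fun x x' =>
          TopCat.Presheaf.section_ext X.sheaf _ _ _ fun y hy => by
            erw [TopCat.Presheaf.germ_res_apply, TopCat.Presheaf.germ_res_apply]
            exact (hu y (hV ((ι₁ x).le hy.1))).mul_left_injective ((hρ x y hy.1).trans (hρ x' y hy.2).symm))
      refine ⟨g, Subtype.ext (funext fun x => ?_)⟩
      show X.presheaf.germ V x.1 x.2 g * eFun U c η hc i x.1 (hV x.2) = f.1 x
      rw [← hρ x x.1 (hxW x)]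
      exact congrArg (· * _) ((TopCat.Presheaf.germ_res_apply X.presheaf (ι₁ x) x.1 (hxW x) g).symm.trans
        (congrArg _ (hg x)))
  refine ⟨Mero.modOf P, s, fun x => ?_, hgen, fun i j => Subtype.ext (funext fun x => ?_)⟩
  · exact ⟨U (c x), hc x, nonempty_iso_of_gen (hgen (c x))⟩
  · show eFun U c η hc i x.1 x.2.1 = X.presheaf.germ _ x.1 x.2 (η i j : Γ(X, U i ⊓ U j)) * eFun U c η hc j x.1 x.2.2
    exact eFun_eq U c hc hη i j x.1 x.2.1 x.2.2

end Groth.Agent.ParaFLib
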