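import Groth.Agent.ParaFLib.Gen

/-! Maps out of modules with local bases, given on the bases. -/

set_option autoImplicit false
set_option linter.style.haveILetI false

universe u

open CategoryTheory AlgebraicGeometry TopologicalSpace Opposite

noncomputable section

namespace Groth.Agent.ParaFLib

variable {X : Scheme.{u}} {L L' : X.Modules} {ι : Type u} (U : ι → X.Opens) (s : ∀ i, Γ(L, U i))
  (t : ∀ i, Γ(L', U i))

theorem res_self' {M : X.Modules} {O : X.Opens} (h : O ≤ O) (m : Γ(M, O)) :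
    M.presheaf.map (homOfLE h).op m = m :=
  ConcreteCategory.congr_hom (M.presheaf.map_id _) m

/-- `g` is the image of `m` under the map sending `s i` to `t i`. -/
def IsImg {V : X.Opens} (m : Γ(L, V)) (g : Γ(L', V)) : Prop :=
  ∀ (i : ι) (O : X.Opens) (hV : O ≤ V) (hU : O ≤ U i) (r : Γ(X, O)),
    r • L.presheaf.map (homOfLE hU).op (s i) = L.presheaf.map (homOfLE hV).op m →
      L'.presheaf.map (homOfLE hV).op g = r • L'.presheaf.map (homOfLE hU).op (t i)

variable {U s t}

theorem existsUnique_isImg (hU : iSup U = ⊤) (hs : ∀ i, Gen (U i) (s i))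
    (η : ∀ i j, Γ(X, U i ⊓ U j))
    (hη : ∀ i j, L.presheaf.map (homOfLE (inf_le_left : U i ⊓ U j ≤ U i)).op (s i) =
      η i j • L.presheaf.map (homOfLE (inf_le_right : U i ⊓ U j ≤ U j)).op (s j))
    (ht : ∀ i j, L'.presheaf.map (homOfLE (inf_le_left : U i ⊓ U j ≤ U i)).op (t i) =
      η i j • L'.presheaf.map (homOfLE (inf_le_right : U i ⊓ U j ≤ U j)).op (t j))
    {V : X.Opens} (m : Γ(L, V)) : ∃! g, IsImg U s t m g := by
  let F : TopCat.Sheaf Ab.{u} X.carrier := ⟨L'.presheaf, L'.isSheaf⟩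
  choose r hr using fun i => (hs i (V ⊓ U i) inf_le_right).2 (L.presheaf.map (homOfLE inf_le_left).op m)
  change ∀ i, r i • L.presheaf.map (homOfLE inf_le_right).op (s i) = _ at hr
  -- the local images agree
  have key : ∀ (i j : ι) (O : X.Opens) (hV : O ≤ V) (hi : O ≤ U i) (hj : O ≤ U j) (a b : Γ(X, O)),
      a • L.presheaf.map (homOfLE hi).op (s i) = L.presheaf.map (homOfLE hV).op m →
      b • L.presheaf.map (homOfLE hj).op (s j) = L.presheaf.map (homOfLE hV).op m →
      a • L'.presheaf.map (homOfLE hi).op (t i) = b • L'.presheaf.map (homOfLE hj).op (t j) := by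
    intro i j O hV hi hj a b ha hb
    have hij : O ≤ U i ⊓ U j := le_inf hi hj
    have e1 := congrArg (L.presheaf.map (homOfLE hij).op) (hη i j)
    have e2 := congrArg (L'.presheaf.map (homOfLE hij).op) (ht i j)
    rw [L.map_smul, res_res, res_res] at e1
    rw [L'.map_smul, res_res, res_res] at e2
    rw [e1, ← mul_smul] at ha
    have := (hs j O hj).1 (ha.trans hb.symm)
    rw [e2, ← mul_smul, this]
  obtain ⟨g, hg, hguniq⟩ := F.existsUnique_gluing' (fun i => V ⊓ U i) V (fun i => homOfLE inf_le_left)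
    (fun x hx => by
      obtain ⟨i, hi⟩ := Opens.mem_iSup.1 (hU.ge (Opens.mem_top x))
      exact Opens.mem_iSup.2 ⟨i, hx, hi⟩)
    (fun i => r i • L'.presheaf.map (homOfLE inf_le_right).op (t i)) (by
      intro i j
      show L'.presheaf.map (homOfLE (inf_le_left : (V ⊓ U i) ⊓ (V ⊓ U j) ≤ V ⊓ U i)).op _ =
        L'.presheaf.map (homOfLE (inf_le_right : (V ⊓ U i) ⊓ (V ⊓ U j) ≤ V ⊓ U j)).op _
      rw [L'.map_smul, L'.map_smul, res_res, res_res]
      have ei := congrArg (L.presheaf.map (homOfLE (inf_le_left : (V ⊓ U i) ⊓ (V ⊓ U j) ≤ V ⊓ U i)).op) (hr i)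
      have ej := congrArg (L.presheaf.map (homOfLE (inf_le_right : (V ⊓ U i) ⊓ (V ⊓ U j) ≤ V ⊓ U j)).op) (hr j)
      rw [L.map_smul, res_res, res_res] at ei ej
      exact key i j _ _ _ _ _ _ ei ej)
  refine ⟨g, ?_, fun g' hg' => hguniq g' fun i => hg' i _ _ _ _ (hr i)⟩
  intro i O hV hi a ha
  refine F.eq_of_locally_eq' (fun j => O ⊓ U j) O (fun j => homOfLE inf_le_left)
    (fun x hx => by
      obtain ⟨j, hj⟩ := Opens.mem_iSup.1 (hU.ge (Opens.mem_top x))
      exact Opens.mem_iSup.2 ⟨j, hx, hj⟩) _ _ fun j => ?_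
  show L'.presheaf.map (homOfLE (inf_le_left : O ⊓ U j ≤ O)).op _ = L'.presheaf.map (homOfLE (inf_le_left : O ⊓ U j ≤ O)).op _
  have h1 : O ⊓ U j ≤ V ⊓ U j := inf_le_inf_right _ hV
  have e1 := congrArg (L'.presheaf.map (homOfLE h1).op) (hg j)
  have ea := congrArg (L.presheaf.map (homOfLE (inf_le_left : O ⊓ U j ≤ O)).op) ha
  have ej := congrArg (L.presheaf.map (homOfLE h1).op) (hr j)
  rw [L.map_smul, res_res, res_res] at ea ej
  change L'.presheaf.map (homOfLE h1).op (L'.presheaf.map (homOfLE inf_le_left).op g) = _ at e1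
  rw [L'.map_smul, res_res, res_res] at e1
  rw [L'.map_smul, res_res, res_res, e1]
  exact (key i j _ _ _ _ _ _ ea ej).symm

theorem exists_hom_of_bases (hU : iSup U = ⊤) (hs : ∀ i, Gen (U i) (s i))
    (η : ∀ i j, Γ(X, U i ⊓ U j))
    (hη : ∀ i j, L.presheaf.map (homOfLE (inf_le_left : U i ⊓ U j ≤ U i)).op (s i) =
      η i j • L.presheaf.map (homOfLE (inf_le_right : U i ⊓ U j ≤ U j)).op (s j))
    (ht : ∀ i j, L'.presheaf.map (homOfLE (inf_le_left : U i ⊓ U j ≤ U i)).op (t i) =
      η i j • L'.presheaf.map (homOfLE (inf_le_right : U i ⊓ U j ≤ U j)).op (t j)) :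
    ∃ φ : L ⟶ L', ∀ i, φ.app (U i) (s i) = t i := by
  have h := fun (V : X.Opens) (m : Γ(L, V)) => existsUnique_isImg hU hs η hη ht m
  choose f hf huniq using h
  have hsmul : ∀ (V : X.Opens) (a : Γ(X, V)) (m : Γ(L, V)), f V (a • m) = a • f V m := fun V a m =>
    (huniq V _ _ fun i O hV hi r hr => by
      rw [L'.map_smul]
      rw [L.map_smul] at hr
      obtain ⟨q, hq⟩ := (hs i O hi).2 (L.presheaf.map (homOfLE hV).op m)
      change q • _ = _ at hq
      rw [hf V m i O hV hi q hq, ← mul_smul]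
      rw [← hq, ← mul_smul] at hr
      rw [(hs i O hi).1 hr]).symm
  have hres : ∀ (V W : X.Opens) (hWV : W ≤ V) (m : Γ(L, V)),
      f W (L.presheaf.map (homOfLE hWV).op m) = L'.presheaf.map (homOfLE hWV).op (f V m) := fun V W hWV m =>
    (huniq W _ _ fun i O hW hi r hr => by
      rw [res_res] at hr ⊢
      exact hf V m i O (hW.trans hWV) hi r hr).symm
  have hadd : ∀ (V : X.Opens) (m m' : Γ(L, V)), f V (m + m') = f V m + f V m' := fun V m m' =>
    (huniq V _ _ fun i O hV hi r hr => by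
      rw [map_add] at hr ⊢
      obtain ⟨q, hq⟩ := (hs i O hi).2 (L.presheaf.map (homOfLE hV).op m)
      obtain ⟨q', hq'⟩ := (hs i O hi).2 (L.presheaf.map (homOfLE hV).op m')
      change q • _ = _ at hq
      change q' • _ = _ at hq'
      rw [hf V m i O hV hi q hq, hf V m' i O hV hi q' hq', ← add_smul]
      rw [← hq, ← hq', ← add_smul] at hr
      rw [(hs i O hi).1 hr]).symm
  refine ⟨⟨PresheafOfModules.homMk
    { app := fun V => AddCommGrpCat.ofHom (AddMonoidHom.mk' (f V.unop) (hadd V.unop))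
      naturality := fun {V W} g => by
        refine AddCommGrpCat.hom_ext (AddMonoidHom.ext fun m => ?_)
        exact hres V.unop W.unop g.unop.le m }
    fun V a m => hsmul V.unop a m⟩, fun i => ?_⟩
  have h1 := hf (U i) (s i) i (U i) le_rfl le_rfl 1 (one_smul _ _)
  rw [one_smul, res_self' _ (f (U i) (s i)), res_self' _ (t i)] at h1
  exact h1

/-- Modules with local bases and the same transition functions are isomorphic. -/
theorem nonempty_iso_of_bases (hU : iSup U = ⊤) (hs : ∀ i, Gen (U i) (s i)) (hgt : ∀ i, Gen (U i) (t i))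
    (η : ∀ i j, Γ(X, U i ⊓ U j))
    (hη : ∀ i j, L.presheaf.map (homOfLE (inf_le_left : U i ⊓ U j ≤ U i)).op (s i) =
      η i j • L.presheaf.map (homOfLE (inf_le_right : U i ⊓ U j ≤ U j)).op (s j))
    (ht : ∀ i j, L'.presheaf.map (homOfLE (inf_le_left : U i ⊓ U j ≤ U i)).op (t i) =
      η i j • L'.presheaf.map (homOfLE (inf_le_right : U i ⊓ U j ≤ U j)).op (t j)) :
    Nonempty (L ≅ L') := by
  obtain ⟨φ, hφ⟩ := exists_hom_of_bases hU hs η hη ht
  have : IsIso φ := isIso_of_locally_app φ fun x => by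
    obtain ⟨i, hi⟩ := Opens.mem_iSup.1 (hU.ge (Opens.mem_top x))
    refine ⟨U i, hi, fun O hO => ?_⟩
    refine (Function.Bijective.of_comp_iff (φ.app O) (hs i O hO)).1 ?_
    have : (φ.app O : Γ(L, O) → Γ(L', O)) ∘ (fun r : Γ(X, O) => r • L.presheaf.map (homOfLE hO).op (s i))
        = fun r : Γ(X, O) => r • L'.presheaf.map (homOfLE hO).op (t i) := funext fun r => by
      show φ.app O (r • _) = _
      refine (Scheme.Modules.Hom.app_smul φ r (L.presheaf.map (homOfLE hO).op (s i))).trans ?_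
      refine congrArg (fun v : Γ(L', O) => r • v) ?_
      exact (DCohLib.app_natural φ hO (s i)).trans (congrArg _ (hφ i))
    rw [this]
    exact hgt i O hO
  exact ⟨asIso φ⟩

end Groth.Agent.ParaFLib
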