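import Groth.Agent.ParaFLib.UFD
import Mathlib.AlgebraicGeometry.Modules.Tilde
import Mathlib.RingTheory.Ideal.MinimalPrime.Noetherian

/-! Ideals that are locally principal on an open of an affine scheme, and unique factorisation. -/

set_option autoImplicit false
set_option linter.style.haveILetI false

universe u

open CategoryTheory AlgebraicGeometry TopologicalSpace Opposite

noncomputable section

namespace Groth.Agent.ParaFLib

variable {R : CommRingCat.{u}}

theorem exists_D_le {O : (Spec R).Opens} {x : PrimeSpectrum R} (hx : x ∈ O) :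
    ∃ h : R, x ∈ D h ∧ D h ≤ O := by
  obtain ⟨_, ⟨h, rfl⟩, hxh, hle⟩ := PrimeSpectrum.isTopologicalBasis_basic_opens.exists_subset_of_mem_open hx O.isOpen
  exact ⟨h, hxh, hle⟩

/-- A section which is a basis on all basic opens inside `W` is a basis on `W`. -/
theorem gen_of_basicOpen {M : (Spec R).Modules} {W : (Spec R).Opens} {s : Γ(M, W)}
    (h : ∀ (g : R) (hg : D g ≤ W),
      Function.Bijective fun r : Γ(Spec R, D g) => r • M.presheaf.map (homOfLE hg).op s) : Gen W s := by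
  intro O hO
  let F : TopCat.Sheaf Ab.{u} (Spec R).carrier := ⟨M.presheaf, M.isSheaf⟩
  let ι := {g : R // D g ≤ O}
  have hcov : O ≤ ⨆ g : ι, D g.1 := fun x hx => by
    obtain ⟨g, hxg, hg⟩ := exists_D_le hx
    exact Opens.mem_iSup.2 ⟨⟨g, hg⟩, hxg⟩
  constructor
  · intro a b hab
    refine (Spec R).sheaf.eq_of_locally_eq' (fun g : ι => D g.1) O (fun g => homOfLE g.2) hcov a b fun g => ?_
    refine (h g.1 (g.2.trans hO)).1 ?_
    have := congrArg (M.presheaf.map (homOfLE g.2).op) hab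
    simp only [M.map_smul, res_res] at this
    exact this
  · intro v
    choose r hr using fun g : ι => (h g.1 (g.2.trans hO)).2 (M.presheaf.map (homOfLE g.2).op v)
    obtain ⟨a, ha, -⟩ := (Spec R).sheaf.existsUnique_gluing' (fun g : ι => D g.1) O (fun g => homOfLE g.2) hcov r (by
      intro g g'
      have e : D (g.1 * g'.1) = D g.1 ⊓ D g'.1 := PrimeSpectrum.basicOpen_mul _ _
      show (Spec R).presheaf.map (homOfLE (inf_le_left : D g.1 ⊓ D g'.1 ≤ D g.1)).op (r g)
        = (Spec R).presheaf.map (homOfLE (inf_le_right : D g.1 ⊓ D g'.1 ≤ D g'.1)).op (r g')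
      have key : ∀ (O' : (Spec R).Opens) (_ : O' = D (g.1 * g'.1)) (h₁ : O' ≤ D g.1) (h₂ : O' ≤ D g'.1),
          (Spec R).presheaf.map (homOfLE h₁).op (r g) = (Spec R).presheaf.map (homOfLE h₂).op (r g') := by
        rintro O' rfl h₁ h₂
        refine (h _ (h₁.trans (g.2.trans hO))).1 ?_
        have e₁ := congrArg (M.presheaf.map (homOfLE h₁).op) (hr g)
        have e₂ := congrArg (M.presheaf.map (homOfLE h₂).op) (hr g')
        simp only [M.map_smul, res_res] at e₁ e₂
        exact e₁.trans e₂.symm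
      exact key _ e.symm _ _)
    refine ⟨a, F.eq_of_locally_eq' (fun g : ι => D g.1) O (fun g => homOfLE g.2) hcov _ _ fun g => ?_⟩
    show M.presheaf.map (homOfLE g.2).op ((show Γ(Spec R, O) from a) • M.presheaf.map (homOfLE hO).op s) = _
    rw [M.map_smul, show (Spec R).presheaf.map (homOfLE g.2).op a = r g from ha g, res_res]
    exact hr g

variable (Q : ModuleCat.{u} R)

/-- The section of the associated module given by an element. -/
def eltSec (U : (Spec R).Opens) (z : Q) : Γ(tilde Q, U) := (tilde.toOpen Q U).hom z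

theorem eltSec_res {U V : (Spec R).Opens} (h : V ≤ U) (z : Q) :
    (tilde Q).presheaf.map (homOfLE h).op (eltSec Q U z) = eltSec Q V z :=
  congr(($(tilde.toOpen_res Q U V (homOfLE h))).hom z)

theorem eltSec_smul (U : (Spec R).Opens) (r : R) (z : Q) :
    eltSec Q U (r • z) = algebraMap R Γ(Spec R, U) r • eltSec Q U z := by
  rw [algebraMap_smul]
  exact (tilde.toOpen Q U).hom.map_smul r z

theorem eltSec_map {Q' : ModuleCat.{u} R} (φ : Q ⟶ Q') (U : (Spec R).Opens) (z : Q) :
    (tilde.map φ).app U (eltSec Q U z) = eltSec Q' U (φ.hom z) :=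
  congr(($(tilde.toOpen_map_app φ U)).hom z)

/-- An element generating up to powers of `g` gives a basis over `D g`. -/
theorem gen_eltSec (g : R) (f : Q) (hgen : ∀ z : Q, ∃ a : R, g • z = a • f)
    (htors : ∀ a : R, a • f = 0 → a = 0) : Gen (D g) (eltSec Q (D g) f) := by
  refine gen_of_basicOpen fun h hh => ?_
  have e : (tilde Q).presheaf.map (homOfLE hh).op (eltSec Q (D g) f) = eltSec Q (D h) f := eltSec_res Q hh f
  rw [e]
  haveI : IsLocalizedModule.Away h (tilde.toOpen Q (D h)).hom :=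
    inferInstanceAs (IsLocalizedModule.Away h (tilde.toOpen Q (PrimeSpectrum.basicOpen h)).hom)
  have hgu : IsUnit (algebraMap R Γ(Spec R, D h) g) := isUnit_algebraMap_of_le hh
  have hpow : ∀ m : Submonoid.powers h, IsUnit (algebraMap R Γ(Spec R, D h) m.1) := fun m =>
    IsLocalization.map_units (M := Submonoid.powers h) Γ(Spec R, D h) m
  constructor
  · intro a b hab
    obtain ⟨⟨c, m⟩, hc⟩ := IsLocalization.surj (Submonoid.powers h) (a - b : Γ(Spec R, D h))
    have h0 : eltSec Q (D h) (c • f) = 0 := by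
      rw [eltSec_smul, ← show _ = algebraMap R Γ(Spec R, D h) c from hc, mul_comm, mul_smul, sub_smul]
      rw [show a • eltSec Q (D h) f = b • eltSec Q (D h) f from hab, sub_self, smul_zero]
    obtain ⟨n, hn⟩ := (IsLocalizedModule.eq_zero_iff (Submonoid.powers h) (tilde.toOpen Q (D h)).hom).1 h0
    rw [Submonoid.smul_def, ← mul_smul] at hn
    have h1 := congrArg (algebraMap R Γ(Spec R, D h)) (htors _ hn)
    rw [map_mul, map_zero, (hpow n).mul_right_eq_zero, ← show _ = algebraMap R Γ(Spec R, D h) c from hc,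
      (hpow m).mul_left_eq_zero] at h1
    exact sub_eq_zero.1 h1
  · intro v
    obtain ⟨⟨z, m⟩, hz⟩ := IsLocalizedModule.surj (Submonoid.powers h) (tilde.toOpen Q (D h)).hom v
    obtain ⟨a, ha⟩ := hgen z
    obtain ⟨u, hu⟩ := (hpow m).mul hgu
    refine ⟨(↑u⁻¹ : Γ(Spec R, D h)) * algebraMap R _ a, ?_⟩
    show ((↑u⁻¹ : Γ(Spec R, D h)) * algebraMap R _ a) • eltSec Q (D h) f = v
    rw [mul_smul, ← eltSec_smul, ← ha, eltSec_smul,
      show eltSec Q (D h) z = algebraMap R Γ(Spec R, D h) m.1 • v by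
        rw [algebraMap_smul]; exact hz.symm,
      ← mul_smul, ← mul_smul, mul_assoc, mul_comm (algebraMap R Γ(Spec R, D h) g), ← hu, Units.inv_mul, one_smul]

/-- A module with local trivialisations on `U` restricts to an invertible module on `U`. -/
theorem isInvertible_restrict_of_cover {X : Scheme.{u}} (M : X.Modules) (U : X.Opens)
    (h : ∀ x ∈ U, ∃ W : X.Opens, x ∈ W ∧ Nonempty (M.restrict W.ι ≅ Coh.structureModule (W : Scheme.{u}))) :
    PicF.IsInvertible (M.restrict U.ι) := fun y => by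
  obtain ⟨W, hx, ⟨i⟩⟩ := h y.1 y.2
  refine ⟨U.ι ⁻¹ᵁ W, hx, ⟨(restrictComp (U.ι ⁻¹ᵁ W).ι U.ι M).symm ≪≫
    restrictCongr (morphismRestrict_ι U.ι W).symm M ≪≫ restrictComp (U.ι ∣_ W) W.ι M ≪≫
    (Scheme.Modules.restrictFunctor (U.ι ∣_ W)).mapIso i ≪≫ DCohLib.restrictUnit (U.ι ∣_ W)⟩⟩

theorem injective_algebraMap_sections [IsDomain R] (U : (Spec R).Opens) [Nonempty U] :
    Function.Injective (algebraMap R Γ(Spec R, U)) := by
  haveI : Nonempty (⊤ : (Spec R).Opens) := ⟨⟨(‹Nonempty U›.some).1, trivial⟩⟩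
  intro a b hab
  rw [← res_algebraMap (le_top : U ≤ ⊤) a, ← res_algebraMap (le_top : U ≤ ⊤) b] at hab
  have h := map_injective_of_isIntegral (Spec R) (homOfLE (le_top : U ≤ ⊤)) hab
  have h' := congrArg ((Spec R).presheaf.map (homOfLE (le_top : D (1 : R) ≤ ⊤)).op).hom h
  exact IsLocalization.injective Γ(Spec R, D (1 : R))
    (powers_le_nonZeroDivisors_of_noZeroDivisors (one_ne_zero : (1 : R) ≠ 0)) h'

theorem exists_algebraMap_eq (U : (Spec R).Opens)
    (hres : Function.Surjective ((Spec R).presheaf.map (homOfLE (le_top : U ≤ ⊤)).op))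
    (c : Γ(Spec R, U)) : ∃ r : R, algebraMap R Γ(Spec R, U) r = c := by
  obtain ⟨c', rfl⟩ := hres c
  refine ⟨(Scheme.ΓSpecIso R).hom c', ?_⟩
  rw [← res_algebraMap (le_top : U ≤ ⊤)]
  refine congrArg _ ?_
  exact (Scheme.ΓSpecIso R).hom_inv_id_apply c'

/-- A prime ideal which is locally principal on an open `U` with the ring's functions is principal,
if invertible modules on `U` are trivial. -/
theorem exists_eq_span_singleton [IsDomain R] (U : (Spec R).Opens)
    (hres : Function.Surjective ((Spec R).presheaf.map (homOfLE (le_top : U ≤ ⊤)).op))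
    (hpic : ParaF.PicTrivial (U : Scheme.{u})) (Q : Ideal R) (hQ : Q.IsPrime) (hQU : (⟨Q, hQ⟩ : PrimeSpectrum R) ∈ U)
    (hloc : ∀ x ∈ U, ∃ g f : R, g ∉ x.asIdeal ∧ f ∈ Q ∧ f ≠ 0 ∧ ∀ z ∈ Q, f ∣ g * z) :
    ∃ a, Q = Ideal.span {a} := by
  haveI : Nonempty U := ⟨⟨_, hQU⟩⟩
  let M : ModuleCat.{u} R := ModuleCat.of R Q
  have hgen : ∀ x ∈ U, ∃ (g f : R) (hf : f ∈ Q), x ∈ D g ∧ Gen (L := tilde M) (D g) (eltSec M (D g) ⟨f, hf⟩) := by
    intro x hx
    obtain ⟨g, f, hg, hf, hf0, hdvd⟩ := hloc x hx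
    refine ⟨g, f, hf, hg, gen_eltSec M g _ (fun z => ?_) fun a ha => ?_⟩
    · obtain ⟨a, ha⟩ := hdvd z.1 z.2
      exact ⟨a, Subtype.ext (show g * z.1 = a * f by rw [ha, mul_comm])⟩
    · exact (mul_eq_zero.1 (show a * f = 0 from congrArg Subtype.val ha)).resolve_right hf0
  obtain ⟨e⟩ := hpic _ (isInvertible_restrict_of_cover (tilde M) U fun x hx => by
    obtain ⟨g, f, hf, hxg, hG⟩ := hgen x hx
    exact ⟨D g, hxg, nonempty_iso_of_gen hG⟩)
  obtain ⟨s₀, hs₀⟩ := exists_gen_of_iso e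
  obtain ⟨s, hs⟩ : ∃ s : Γ(tilde M, U), Gen U s := U.ι_image_top ▸ (⟨s₀, hs₀⟩ : ∃ v, Gen _ v)
  let N : ModuleCat.{u} R := ModuleCat.of R R
  let ι : M ⟶ N := ModuleCat.ofHom (Submodule.subtype Q)
  -- sections of the structure sheaf
  have hN : ∀ (O : (Spec R).Opens) (r : R), (eltSec N O r : Γ(Spec R, O)) = algebraMap R Γ(Spec R, O) r :=
    fun O r => rfl
  obtain ⟨a, ha⟩ := exists_algebraMap_eq U hres ((tilde.map ι).app U s : Γ(Spec R, U))
  have hinj := injective_algebraMap_sections (R := R) U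
  refine ⟨a, le_antisymm (fun z hz => ?_) ((Ideal.span_singleton_le_iff_mem Q).2 ?_)⟩
  · obtain ⟨c, hc⟩ := (hs U le_rfl).2 (eltSec M U ⟨z, hz⟩)
    obtain ⟨r, rfl⟩ := exists_algebraMap_eq U hres c
    have h1 := congrArg ((tilde.map ι).app U) hc
    rw [eltSec_map] at h1
    refine Ideal.mem_span_singleton.2 ⟨r, hinj ?_⟩
    rw [map_mul, ha]
    refine h1.symm.trans ?_
    refine (Scheme.Modules.Hom.app_smul (tilde.map ι) _ _).trans ?_
    refine (congrArg (fun v : Γ(tilde M, U) => algebraMap R Γ(Spec R, U) r • (tilde.map ι).app U v)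
      (ConcreteCategory.congr_hom ((tilde M).presheaf.map_id _) s)).trans ?_
    exact mul_comm (algebraMap R Γ(Spec R, U) r) _
  · obtain ⟨g, f, hf, hg, hG⟩ := hgen _ hQU
    obtain ⟨h, hh, hle⟩ := exists_D_le (show (⟨Q, hQ⟩ : PrimeSpectrum R) ∈ U ⊓ D g from ⟨hQU, hg⟩)
    obtain ⟨c, hc⟩ := (hG (D h) (hle.trans inf_le_right)).2 ((tilde M).presheaf.map (homOfLE (hle.trans inf_le_left)).op s)
    have h1 := congrArg ((tilde.map ι).app (D h)) hc
    rw [DCohLib.app_natural, show (tilde.map ι).app U s = algebraMap R Γ(Spec R, U) a from ha.symm] at h1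
    rw [eltSec_res] at h1
    rw [show (tilde.map ι).app (D h) (c • eltSec M (D h) ⟨f, hf⟩) = c * algebraMap R Γ(Spec R, D h) f from
      (Scheme.Modules.Hom.app_smul (tilde.map ι) _ _).trans (congrArg (fun v : Γ(tilde N, D h) => c • v) (eltSec_map M ι _ _))] at h1
    obtain ⟨⟨b, m⟩, hb⟩ := IsLocalization.surj (Submonoid.powers h) (c : Γ(Spec R, D h))
    have h2 : algebraMap R Γ(Spec R, D h) (a * m.1) = algebraMap R Γ(Spec R, D h) (b * f) := by
      rw [map_mul, map_mul, ← hb, ← show _ = algebraMap R Γ(Spec R, D h) a from h1]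
      ring
    haveI : Nonempty (D h : (Spec R).Opens) := ⟨⟨⟨Q, hQ⟩, hh⟩⟩
    have h3 : a * m.1 ∈ Q := injective_algebraMap_sections (R := R) (D h) h2 ▸ Q.mul_mem_left b hf
    refine (hQ.mem_or_mem h3).resolve_right fun hm => ?_
    obtain ⟨n, hn⟩ := m.2
    exact hh (hQ.mem_of_pow_mem n ((show h ^ n = m.1 from hn).symm ▸ hm))

/-- A minimal prime of a principal ideal is principal near a point with factorial local ring. -/
theorem exists_local_generator [IsDomain R] [IsNoetherianRing R] (x : R) (hx0 : x ≠ 0) (Q : Ideal R)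
    (hQ : Q ∈ (Ideal.span {x}).minimalPrimes) (y : PrimeSpectrum R)
    (hy : UniqueFactorizationMonoid ((Spec.structureSheaf R).presheaf.stalk y)) :
    ∃ g f : R, g ∉ y.asIdeal ∧ f ∈ Q ∧ f ≠ 0 ∧ ∀ z ∈ Q, f ∣ g * z := by
  classical
  have hxQ : x ∈ Q := hQ.1.2 (Ideal.subset_span rfl)
  let S := (Spec.structureSheaf R).presheaf.stalk y
  haveI : IsDomain S := IsLocalization.isDomain_of_le_nonZeroDivisors S (M := y.asIdeal.primeCompl)
    y.asIdeal.primeCompl_le_nonZeroDivisors
  obtain ⟨gens, hgens⟩ := (IsNoetherian.noetherian Q : Q.FG)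
  by_cases hQy : Q ≤ y.asIdeal
  swap
  · obtain ⟨g, hgQ, hgy⟩ := SetLike.not_le_iff_exists.1 hQy
    have hg0 : g ≠ 0 := fun h => hgy (h ▸ y.asIdeal.zero_mem)
    exact ⟨g, g, hgy, hgQ, hg0, fun z _ => dvd_mul_right g z⟩
  have hdisj : Disjoint (y.asIdeal.primeCompl : Set R) Q := Set.disjoint_left.2 fun r hr hrQ => hr (hQy hrQ)
  have hQS := IsLocalization.isPrime_of_isPrime_disjoint y.asIdeal.primeCompl S Q hQ.1.1 hdisj
  have hcomap := IsLocalization.comap_map_of_isPrime_disjoint y.asIdeal.primeCompl S hQ.1.1 hdisj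
  have hinjS : Function.Injective (algebraMap R S) :=
    IsLocalization.injective S y.asIdeal.primeCompl_le_nonZeroDivisors
  obtain ⟨π, hπQ, hπ, hxπ⟩ : ∃ π ∈ Q.map (algebraMap R S), Prime π ∧ π ∣ algebraMap R S x := by
    have hx' : algebraMap R S x ≠ 0 := (map_ne_zero_iff _ hinjS).2 hx0
    have hmem : algebraMap R S x ∈ Q.map (algebraMap R S) := Ideal.mem_map_of_mem _ hxQ
    revert hmem
    suffices H : ∀ w : S, w ≠ 0 → w ∈ Q.map (algebraMap R S) → ∃ π ∈ Q.map (algebraMap R S), Prime π ∧ π ∣ w from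
      H _ hx'
    intro w
    induction w using UniqueFactorizationMonoid.induction_on_prime with
    | h₁ => exact fun h => absurd rfl h
    | h₂ v hv => exact fun _ h => absurd (Ideal.eq_top_of_isUnit_mem _ h hv) hQS.ne_top
    | h₃ b q hb hq ih =>
      intro hne h
      rcases hQS.mem_or_mem h with h' | h'
      · exact ⟨q, h', hq, dvd_mul_right q b⟩
      · obtain ⟨π, h1, h2, h3⟩ := ih hb h'
        exact ⟨π, h1, h2, h3.mul_left q⟩
  have hπc : (Ideal.span {π}).comap (algebraMap R S) = Q := by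
    haveI := (Ideal.span_singleton_prime hπ.ne_zero).2 hπ
    have hle : (Ideal.span {π}).comap (algebraMap R S) ≤ Q :=
      (Ideal.comap_mono ((Ideal.span_singleton_le_iff_mem _).2 hπQ)).trans hcomap.le
    exact le_antisymm hle (hQ.2 ⟨Ideal.IsPrime.comap _, (Ideal.span_singleton_le_iff_mem _).2
      (Ideal.mem_span_singleton.2 hxπ)⟩ hle)
  obtain ⟨⟨f, m⟩, hfm⟩ := IsLocalization.surj y.asIdeal.primeCompl π
  have hfQ : f ∈ Q := by
    rw [← hπc, Ideal.mem_comap, ← show _ = algebraMap R S f from hfm]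
    exact Ideal.mem_span_singleton.2 (dvd_mul_right π _)
  have hf0 : f ≠ 0 := fun h => by
    rw [h, map_zero, (IsLocalization.map_units S m).mul_left_eq_zero] at hfm
    exact hπ.ne_zero hfm
  have hdiv : ∀ z ∈ Q, ∃ g ∉ y.asIdeal, f ∣ g * z := by
    intro z hz
    have h1 : π ∣ algebraMap R S z := Ideal.mem_span_singleton.1 (hπc.ge hz)
    have h2 : algebraMap R S f ∣ algebraMap R S z := by
      refine dvd_trans ?_ h1
      rw [← show _ = algebraMap R S f from hfm]
      exact ((IsLocalization.map_units S m).mul_right_dvd).2 dvd_rfl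
    obtain ⟨c, hc⟩ := h2
    obtain ⟨⟨c', t⟩, hc'⟩ := IsLocalization.surj y.asIdeal.primeCompl c
    refine ⟨t.1, t.2, c', hinjS ?_⟩
    rw [map_mul, map_mul, hc, ← hc']
    ring
  choose! g hgy hgd using hdiv
  have hprod : ∀ z ∈ Q, f ∣ (∏ w ∈ gens, g w) * z := by
    intro z hz
    rw [← hgens] at hz
    induction hz using Submodule.span_induction with
    | mem w hw =>
      obtain ⟨d, hd⟩ := Finset.dvd_prod_of_mem g hw
      rw [hd, mul_assoc, mul_left_comm]
      exact (hgd w (hgens ▸ Submodule.subset_span hw)).mul_left _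
    | zero => rw [mul_zero]; exact dvd_zero f
    | add u v _ _ hu hv => rw [mul_add]; exact dvd_add hu hv
    | smul r u _ hu => rw [smul_eq_mul, mul_left_comm]; exact hu.mul_left r
  refine ⟨∏ w ∈ gens, g w, f, ?_, hfQ, hf0, hprod⟩
  exact (Submonoid.prod_mem y.asIdeal.primeCompl fun w hw => hgy w (hgens ▸ Submodule.subset_span hw) :)

/-- Unique factorisation from an open with the same functions, trivial Picard group and factorial local rings. -/
theorem ufd_of_opens [IsDomain R] [IsNoetherianRing R] (U : (Spec R).Opens)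
    (hres : Function.Surjective ((Spec R).presheaf.map (homOfLE (le_top : U ≤ ⊤)).op))
    (hpic : ParaF.PicTrivial (U : Scheme.{u}))
    (hmin : ∀ (x : R) (Q : Ideal R) (hQ : Q ∈ (Ideal.span {x}).minimalPrimes), x ≠ 0 → (⟨Q, hQ.1.1⟩ : PrimeSpectrum R) ∈ U)
    (hufd : ∀ x ∈ U, UniqueFactorizationMonoid ((Spec.structureSheaf R).presheaf.stalk x)) :
    UniqueFactorizationMonoid R := by
  classical
  rw [UniqueFactorizationMonoid.iff_exists_prime_mem_of_isPrime]
  intro P hP0 hP
  obtain ⟨x, hx, hx0⟩ := Submodule.exists_mem_ne_zero_of_ne_bot hP0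
  haveI := hP
  obtain ⟨Q, hQ, hQP⟩ := Ideal.exists_minimalPrimes_le (J := P) ((Ideal.span_singleton_le_iff_mem P).2 hx)
  have hQU := hmin x Q hQ hx0
  have hxQ : x ∈ Q := hQ.1.2 (Ideal.subset_span rfl)
  have hQ0 : Q ≠ ⊥ := fun h => hx0 (by simpa [h] using hxQ)
  obtain ⟨a, ha⟩ := exists_eq_span_singleton U hres hpic Q hQ.1.1 hQU fun (y : PrimeSpectrum R) hy =>
    exists_local_generator x hx0 Q hQ y (hufd y hy)
  have ha0 : a ≠ 0 := fun h => hQ0 (ha.trans (by simp [h]))
  exact ⟨a, hQP (ha.ge (Ideal.subset_span rfl)), (Ideal.span_singleton_prime ha0).1 (ha ▸ hQ.1.1)⟩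

end Groth.Agent.ParaFLib
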