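import Groth.Agent.ParaFLib.UFD
import Groth.Agent.ParaFLib.Ideal
import Mathlib.RingTheory.UniqueFactorizationDomain.Multiplicity

/-! Extending bases of invertible modules across prime elements. -/

set_option autoImplicit false
set_option linter.style.haveILetI false

universe u

open CategoryTheory AlgebraicGeometry TopologicalSpace Opposite

noncomputable section

namespace Groth.Agent.ParaFLib

/-- Being a basis is local. -/
theorem gen_of_cover {X : Scheme.{u}} {L : X.Modules} {W : X.Opens} {s : Γ(L, W)} {κ : Type u}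
    (Ws : κ → X.Opens) (hle : ∀ k, Ws k ≤ W) (hcov : W ≤ iSup Ws)
    (h : ∀ k, Gen (Ws k) (L.presheaf.map (homOfLE (hle k)).op s)) : Gen W s := by
  intro O hO
  let F : TopCat.Sheaf Ab.{u} X.carrier := ⟨L.presheaf, L.isSheaf⟩
  have hcov' : O ≤ ⨆ k, O ⊓ Ws k := fun x hx => by
    obtain ⟨k, hk⟩ := Opens.mem_iSup.1 (hcov (hO hx))
    exact Opens.mem_iSup.2 ⟨k, hx, hk⟩
  constructor
  · intro r r' hr
    refine (X.sheaf).eq_of_locally_eq' (fun k => O ⊓ Ws k) O (fun k => homOfLE inf_le_left) hcov' r r' fun k => ?_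
    refine (h k (O ⊓ Ws k) inf_le_right).1 ?_
    have e2 := congrArg (L.presheaf.map (homOfLE (inf_le_left : O ⊓ Ws k ≤ O)).op) hr
    rw [L.map_smul, L.map_smul, res_res] at e2
    simp only [res_res]
    exact e2
  · intro v
    choose r hr using fun k => (h k (O ⊓ Ws k) inf_le_right).2 (L.presheaf.map (homOfLE inf_le_left).op v)
    obtain ⟨g, hg, -⟩ := X.sheaf.existsUnique_gluing' (fun k => O ⊓ Ws k) O (fun k => homOfLE inf_le_left) hcov' r (by
      intro b c
      refine (h b _ (inf_le_left.trans inf_le_right)).1 ?_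
      have eb := congrArg (L.presheaf.map (homOfLE (inf_le_left : (O ⊓ Ws b) ⊓ (O ⊓ Ws c) ≤ O ⊓ Ws b)).op) (hr b)
      have ec := congrArg (L.presheaf.map (homOfLE (inf_le_right : (O ⊓ Ws b) ⊓ (O ⊓ Ws c) ≤ O ⊓ Ws c)).op) (hr c)
      simp only [L.map_smul, res_res] at eb ec ⊢
      exact eb.trans ec.symm)
    refine ⟨g, F.eq_of_locally_eq' (fun k => O ⊓ Ws k) O (fun k => homOfLE inf_le_left) hcov' _ _ fun k => ?_⟩
    have eg : X.presheaf.map (homOfLE (inf_le_left : O ⊓ Ws k ≤ O)).op g = r k := hg k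
    show L.presheaf.map (homOfLE (inf_le_left : O ⊓ Ws k ≤ O)).op ((show Γ(X, O) from g) • L.presheaf.map (homOfLE hO).op s) = _
    rw [L.map_smul, eg, res_res]
    refine Eq.trans ?_ (hr k)
    simp only [res_res]

/-- Restriction of sections of a module with a basis on `W` to a dense open is injective. -/
theorem res_injective_of_gen {X : Scheme.{u}} [IsIntegral X] {L : X.Modules} {W : X.Opens} {e : Γ(L, W)}
    (he : Gen W e) {O O' : X.Opens} (hO : O ≤ W) (h' : O' ≤ O) (hne : (O : Set X).Nonempty → (O' : Set X).Nonempty) :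
    Function.Injective (L.presheaf.map (homOfLE h').op) := by
  intro a b hab
  obtain ⟨r, rfl⟩ := (he O hO).2 a
  obtain ⟨r', rfl⟩ := (he O hO).2 b
  simp only [L.map_smul, res_res] at hab
  have h1 := (he O' (h'.trans hO)).1 hab
  refine congrArg (· • _) ?_
  by_cases hO' : (O' : Set X).Nonempty
  · obtain ⟨x, hx⟩ := hO'
    haveI : Nonempty O' := ⟨⟨x, hx⟩⟩
    haveI : Nonempty O := ⟨⟨x, h' hx⟩⟩
    exact map_injective_of_isIntegral X (homOfLE h') h1
  · have : O = ⊥ := SetLike.coe_injective (Set.not_nonempty_iff_eq_empty.1 fun h => hO' (hne h))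
    subst this
    haveI : Subsingleton Γ(X, (⊥ : X.Opens)) := CommRingCat.subsingleton_of_isTerminal X.sheaf.isTerminalOfEmpty
    exact Subsingleton.elim _ _

variable {R : CommRingCat.{u}} [IsDomain R]

/-- A nonempty open meets every nonempty basic open. -/
theorem nonempty_inf_D {O : (Spec R).Opens} {q : R} (hq : q ≠ 0) (h : (O : Set (Spec R)).Nonempty) :
    ((O ⊓ D q : (Spec R).Opens) : Set (Spec R)).Nonempty := by
  obtain ⟨x, hx⟩ := h
  refine ⟨(⟨⊥, Ideal.isPrime_bot⟩ : PrimeSpectrum R), ?_, ?_⟩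
  · exact Specializes.mem_open ((PrimeSpectrum.le_iff_specializes (⟨⊥, Ideal.isPrime_bot⟩ : PrimeSpectrum R) x).1 bot_le)
      O.isOpen hx
  · exact fun h => hq (Ideal.mem_bot.1 h)

omit [IsDomain R] in
theorem D_mul_le_left (g q : R) : (D (g * q) : (Spec R).Opens) ≤ D g := PrimeSpectrum.basicOpen_mul_le_left g q

omit [IsDomain R] in
theorem D_mul_le_right (g q : R) : (D (g * q) : (Spec R).Opens) ≤ D q := PrimeSpectrum.basicOpen_mul_le_right g q

variable [IsNoetherianRing R]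

/-- Exponents of an element of a prime are determined in the local ring. -/
theorem pow_exponent_eq (Q : PrimeSpectrum R) {q : R} (hqQ : q ∈ Q.asIdeal) (hq0 : q ≠ 0)
    {u : (Spec.structureSheaf R).presheaf.stalk Q} (hu : IsUnit u) (a b : ℕ)
    (h : algebraMap R ((Spec.structureSheaf R).presheaf.stalk Q) (q ^ a) * u =
      algebraMap R ((Spec.structureSheaf R).presheaf.stalk Q) (q ^ b)) : a = b := by
  let S := (Spec.structureSheaf R).presheaf.stalk Q
  haveI : IsDomain S := IsLocalization.isDomain_of_le_nonZeroDivisors S (M := Q.asIdeal.primeCompl)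
    Q.asIdeal.primeCompl_le_nonZeroDivisors
  have hqS : ¬ IsUnit (algebraMap R S q) := fun h => (isUnit_stalk_iff Q q).1 h hqQ
  have hqS0 : algebraMap R S q ≠ 0 := (map_ne_zero_iff _
    (IsLocalization.injective S Q.asIdeal.primeCompl_le_nonZeroDivisors)).2 hq0
  rw [map_pow, map_pow] at h
  rcases le_total a b with hle | hle
  · obtain ⟨d, rfl⟩ := Nat.exists_eq_add_of_le hle
    rw [pow_add] at h
    have h' := mul_left_cancel₀ (pow_ne_zero _ hqS0) h
    by_contra hne
    exact hqS (isUnit_of_dvd_unit (dvd_pow_self _ (by omega : d ≠ 0)) (h' ▸ hu))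
  · obtain ⟨d, rfl⟩ := Nat.exists_eq_add_of_le hle
    rw [pow_add, mul_assoc] at h
    have h' := mul_left_cancel₀ (pow_ne_zero _ hqS0) (h.trans (mul_one _).symm)
    by_contra hne
    exact hqS (isUnit_of_dvd_unit (dvd_pow_self _ (by omega : d ≠ 0)) (IsUnit.of_mul_eq_one _ h'))

/-- A unit over `D (g q)` is a power of `q` times a unit over `D g`. -/
theorem exists_pow_of_isUnit {q g : R} (hq : Prime q) (hg : ¬ q ∣ g)
    {c : Γ(Spec R, D (g * q))} (hc : IsUnit c) :
    ∃ (i k : ℕ) (w : Γ(Spec R, D g)), IsUnit w ∧ c * algebraMap R _ (q ^ k) =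
      algebraMap R _ (q ^ i) * (Spec R).presheaf.map (homOfLE (D_mul_le_left g q)).op w := by
  have hg0 : g ≠ 0 := fun h => hg (h ▸ dvd_zero q)
  have hinj : Function.Injective (algebraMap R Γ(Spec R, D (g * q))) :=
    IsLocalization.injective Γ(Spec R, D (g * q))
      (powers_le_nonZeroDivisors_of_noZeroDivisors (mul_ne_zero hg0 hq.ne_zero))
  obtain ⟨⟨a, _, k, rfl⟩, ha⟩ := IsLocalization.surj (Submonoid.powers (g * q)) c
  obtain ⟨u, rfl⟩ := hc
  obtain ⟨⟨b, _, k', rfl⟩, hb⟩ := IsLocalization.surj (Submonoid.powers (g * q)) (↑u⁻¹ : Γ(Spec R, D (g * q)))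
  change (↑u : Γ(Spec R, D (g * q))) * algebraMap R _ ((g * q) ^ k) = algebraMap R _ a at ha
  change (↑u⁻¹ : Γ(Spec R, D (g * q))) * algebraMap R _ ((g * q) ^ k') = algebraMap R _ b at hb
  have hab : a * b = (g * q) ^ (k + k') := hinj <| by
    rw [map_mul, ← ha, ← hb, mul_mul_mul_comm, Units.mul_inv, one_mul, ← map_mul, ← pow_add]
  have ha0 : a ≠ 0 := fun h => pow_ne_zero (k + k') (mul_ne_zero hg0 hq.ne_zero) (by rw [← hab, h, zero_mul])
  obtain ⟨i, a', ha', rfl⟩ := WfDvdMonoid.max_power_factor ha0 hq.irreducible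
  -- `a'` is a unit on `D g`
  have hD : D g ≤ D a' := fun (z : PrimeSpectrum R) hz hza => by
    have h1 : (g * q) ^ (k + k') ∈ z.asIdeal := by
      rw [← hab]
      exact z.asIdeal.mul_mem_right _ (z.asIdeal.mul_mem_left _ hza)
    have h2 : q ∈ z.asIdeal := (z.isPrime.mem_or_mem (z.isPrime.mem_of_pow_mem _ h1)).resolve_left hz
    -- the product of `a'` and the prime-to-`q` part of `b` is a power of `g`
    have hb0 : b ≠ 0 := fun h => pow_ne_zero (k + k') (mul_ne_zero hg0 hq.ne_zero) (by rw [← hab, h, mul_zero])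
    obtain ⟨j, b', hb', rfl⟩ := WfDvdMonoid.max_power_factor hb0 hq.irreducible
    have h3 : q ^ (i + j) * (a' * b') = q ^ (k + k') * g ^ (k + k') := by
      rw [← mul_pow, mul_comm q g, ← hab, pow_add]
      ring
    have hnd : ¬ q ∣ a' * b' := fun h => (hq.dvd_mul.1 h).elim ha' hb'
    have hnd' : ¬ q ∣ g ^ (k + k') := fun h => hg (hq.dvd_of_dvd_pow h)
    have h4 : a' * b' = g ^ (k + k') := by
      rcases le_total (i + j) (k + k') with hle | hle
      · obtain ⟨d, hd⟩ := Nat.exists_eq_add_of_le hle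
        have h5 : a' * b' = q ^ d * g ^ (k + k') :=
          mul_left_cancel₀ (pow_ne_zero (i + j) hq.ne_zero) (h3.trans (by rw [hd, pow_add, mul_assoc]))
        rcases Nat.eq_zero_or_pos d with rfl | hd0
        · rw [h5, pow_zero, one_mul]
        · exact absurd (h5 ▸ (dvd_pow_self q hd0.ne').mul_right _) hnd
      · obtain ⟨d, hd⟩ := Nat.exists_eq_add_of_le hle
        have h5 : q ^ d * (a' * b') = g ^ (k + k') :=
          mul_left_cancel₀ (pow_ne_zero (k + k') hq.ne_zero) (by rw [← h3, hd, pow_add]; ring)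
        rcases Nat.eq_zero_or_pos d with rfl | hd0
        · rw [← h5, pow_zero, one_mul]
        · exact absurd (h5 ▸ (dvd_pow_self q hd0.ne').mul_right _) hnd'
    exact hz (z.isPrime.mem_of_pow_mem _ (h4 ▸ z.asIdeal.mul_mem_right _ hza))
  obtain ⟨v, hv⟩ := (isUnit_algebraMap_of_le (W := D g) (a := g) le_rfl).pow k
  refine ⟨i, k, algebraMap R _ a' * (↑v⁻¹ : Γ(Spec R, D g)), (isUnit_algebraMap_of_le hD).mul v⁻¹.isUnit, ?_⟩
  let ρ := ((Spec R).presheaf.map (homOfLE (D_mul_le_left g q)).op).hom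
  show (↑u : Γ(Spec R, D (g * q))) * algebraMap R _ (q ^ k) = algebraMap R _ (q ^ i) * ρ (algebraMap R _ a' * ↑v⁻¹)
  have hρv : ρ (↑v⁻¹ : Γ(Spec R, D g)) * algebraMap R _ (g ^ k) = 1 := by
    have : algebraMap R Γ(Spec R, D (g * q)) (g ^ k) = ρ (↑v : Γ(Spec R, D g)) := by
      rw [hv, ← map_pow]
      exact (res_algebraMap _ _).symm
    rw [this, ← map_mul, Units.inv_mul, map_one]
  rw [map_mul ρ, show ρ (algebraMap R Γ(Spec R, D g) a') = algebraMap R _ a' from res_algebraMap _ _,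
    ← mul_assoc, ← map_mul (algebraMap R _) (q ^ i) a', ← ha, mul_pow, map_mul (algebraMap R _) (g ^ k)]
  calc (↑u : Γ(Spec R, D (g * q))) * algebraMap R _ (q ^ k)
      = ↑u * algebraMap R _ (q ^ k) * (ρ (↑v⁻¹ : Γ(Spec R, D g)) * algebraMap R _ (g ^ k)) := by rw [hρv, mul_one]
    _ = _ := by ring

/-- Extend a basis across a prime element. -/
theorem exists_gen_of_prime {L : (Spec R).Modules} {q : R} (hq : Prime q) (W : (Spec R).Opens)
    (hL : ∀ z : PrimeSpectrum R, z ∈ W → ∃ (V : (Spec R).Opens) (e : Γ(L, V)), z ∈ V ∧ Gen V e)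
    (h : ∃ s : Γ(L, W ⊓ D q), Gen (W ⊓ D q) s) : ∃ s : Γ(L, W), Gen W s := by
  let Q : PrimeSpectrum R := ⟨Ideal.span {q}, (Ideal.span_singleton_prime hq.ne_zero).2 hq⟩
  by_cases hQW : Q ∈ W
  swap
  · have hle : W ≤ D q := fun (z : PrimeSpectrum R) hz hzq => hQW (Specializes.mem_open
      ((PrimeSpectrum.le_iff_specializes Q z).1 ((Ideal.span_singleton_le_iff_mem z.asIdeal).2 hzq)) W.isOpen hz)
    rwa [inf_eq_left.2 hle] at h
  obtain ⟨s, hs⟩ := h
  have hchart : ∀ z : PrimeSpectrum R, z ∈ W → ∃ (g : R) (e : Γ(L, D g)), z ∈ D g ∧ D g ≤ W ∧ Gen (D g) e := by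
    intro z hz
    obtain ⟨V, e, hzV, he⟩ := hL z hz
    obtain ⟨g, hzg, hle⟩ := exists_D_le (show z ∈ W ⊓ V from ⟨hz, hzV⟩)
    exact ⟨g, _, hzg, hle.trans inf_le_left, he.res (hle.trans inf_le_right)⟩
  -- on a chart containing `Q` the section is a power of `q` times a basis
  have hpow : ∀ (g : R) (e : Γ(L, D g)), D g ≤ W → Gen (D g) e → ¬ q ∣ g →
      ∃ (i k : ℕ) (σ : Γ(L, D g)), Gen (D g) σ ∧ ∀ (O : (Spec R).Opens) (hO : O ≤ D g) (hO' : O ≤ W ⊓ D q),
        algebraMap R Γ(Spec R, O) (q ^ k) • L.presheaf.map (homOfLE hO').op s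
          = algebraMap R Γ(Spec R, O) (q ^ i) • L.presheaf.map (homOfLE hO).op σ := by
    intro g e hgW he hgq
    have hl : D (g * q) ≤ D g := D_mul_le_left g q
    have hl' : D (g * q) ≤ W ⊓ D q := le_inf (hl.trans hgW) (D_mul_le_right g q)
    obtain ⟨c, hc, hcs⟩ := (hs.res hl').exists_unit (he.res hl)
    obtain ⟨i, k, w, hw, hwc⟩ := exists_pow_of_isUnit hq hgq hc
    refine ⟨i, k, w • e, he.smul hw, fun O hO hO' => ?_⟩
    have hOm : O ≤ D (g * q) := fun (z : PrimeSpectrum R) hz hmem => (z.isPrime.mem_or_mem hmem).elim (hO hz) (hO' hz).2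
    have := congrArg (L.presheaf.map (homOfLE hOm).op)
      (congrArg (algebraMap R Γ(Spec R, D (g * q)) (q ^ k) • ·) hcs)
    simp only [← mul_smul, mul_comm (algebraMap R _ (q ^ k)) c, hwc, L.map_smul, res_res, map_mul, res_algebraMap,
      ← ConcreteCategory.comp_apply, ← Functor.map_comp] at this
    rw [L.map_smul, ← mul_smul]
    exact this.symm
  choose g e hzg hgW he using hchart
  obtain ⟨i₀, k₀, σ₀, hσ₀, hs₀⟩ := hpow (g Q hQW) (e Q hQW) (hgW Q hQW) (he Q hQW)
    (fun h => hzg Q hQW (Ideal.mem_span_singleton.2 h))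
  -- the corrected section on the complement of `q`
  obtain ⟨qu, hqu⟩ := isUnit_algebraMap_of_le (W := W ⊓ D q) (a := q) inf_le_right
  obtain ⟨t, htG, hts⟩ : ∃ t : Γ(L, W ⊓ D q), Gen (W ⊓ D q) t ∧
      algebraMap R Γ(Spec R, W ⊓ D q) (q ^ i₀) • t = algebraMap R Γ(Spec R, W ⊓ D q) (q ^ k₀) • s := by
    refine ⟨((↑(qu⁻¹ ^ i₀) : Γ(Spec R, W ⊓ D q)) * algebraMap R _ (q ^ k₀)) • s,
      hs.smul (((qu⁻¹ ^ i₀).isUnit).mul (by rw [map_pow]; exact (hqu ▸ qu.isUnit).pow k₀)), ?_⟩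
    rw [← mul_smul, ← mul_assoc, map_pow, ← hqu, ← Units.val_pow_eq_pow_val, ← Units.val_mul, ← mul_pow,
      mul_inv_cancel, one_pow, Units.val_one, one_mul]
  have key : ∀ (z : PrimeSpectrum R) (hz : z ∈ W), ∃ σ : Γ(L, D (g z hz)), Gen (D (g z hz)) σ ∧
      ∀ (O : (Spec R).Opens) (hO : O ≤ D (g z hz)) (hO' : O ≤ W ⊓ D q),
        L.presheaf.map (homOfLE hO').op t = L.presheaf.map (homOfLE hO).op σ := by
    intro z hz
    by_cases hgq : q ∣ g z hz
    · have hle : D (g z hz) ≤ W ⊓ D q := le_inf (hgW z hz) fun (w : PrimeSpectrum R) hw hwq =>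
        hw (Ideal.mem_of_dvd _ hgq hwq)
      exact ⟨_, htG.res hle, fun O hO hO' => (res_res hle hO t).symm⟩
    obtain ⟨i, k, σ, hσ, hsσ⟩ := hpow (g z hz) (e z hz) (hgW z hz) (he z hz) hgq
    -- the exponents agree
    have hexp : i₀ + k = i + k₀ := by
      let O := D (g z hz) ⊓ D (g Q hQW)
      have hQO : Q ∈ O := ⟨fun h => hgq (Ideal.mem_span_singleton.1 h), hzg Q hQW⟩
      obtain ⟨v, hv, hvσ⟩ := (hσ.res (inf_le_left : O ≤ _)).exists_unit (hσ₀.res (inf_le_right : O ≤ _))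
      have h1 := hsσ (O ⊓ D q) (inf_le_left.trans inf_le_left) (le_inf (inf_le_left.trans (inf_le_left.trans (hgW z hz))) inf_le_right)
      have h2 := hs₀ (O ⊓ D q) (inf_le_left.trans inf_le_right) (le_inf (inf_le_left.trans (inf_le_left.trans (hgW z hz))) inf_le_right)
      have h3 := congrArg (L.presheaf.map (homOfLE (inf_le_left : O ⊓ D q ≤ O)).op) hvσ
      rw [L.map_smul, res_res, res_res] at h3
      have h4 := congrArg (algebraMap R Γ(Spec R, O ⊓ D q) (q ^ k₀) • ·) h1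
      have h5 := congrArg (algebraMap R Γ(Spec R, O ⊓ D q) (q ^ k) • ·) h2
      simp only [← mul_smul, ← map_mul, ← pow_add] at h4 h5
      rw [add_comm k k₀] at h5
      have h6 := h4.symm.trans h5
      rw [← h3, ← mul_smul] at h6
      have h7 := (hσ₀ (O ⊓ D q) (inf_le_left.trans inf_le_right)).1 h6
      haveI : Nonempty O := ⟨⟨Q, hQO⟩⟩
      obtain ⟨w, hw⟩ := nonempty_inf_D (O := O) hq.ne_zero ⟨Q, hQO⟩
      haveI : Nonempty (O ⊓ D q : (Spec R).Opens) := ⟨⟨w, hw⟩⟩
      have h8 : algebraMap R Γ(Spec R, O) (q ^ (k₀ + i)) * v = algebraMap R Γ(Spec R, O) (q ^ (k + i₀)) := by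
        refine map_injective_of_isIntegral (Spec R) (homOfLE (inf_le_left : O ⊓ D q ≤ O)) ?_
        show ((Spec R).presheaf.map (homOfLE (inf_le_left : O ⊓ D q ≤ O)).op).hom (_ * v) = _
        rw [map_mul]
        exact (congrArg (· * _) (res_algebraMap _ _)).trans (h7.trans (res_algebraMap _ _).symm)
      have h9 := congrArg (germR O Q hQO) h8
      rw [map_mul, germ_algebraMap, germ_algebraMap] at h9
      have := pow_exponent_eq Q (Ideal.subset_span (Set.mem_singleton q)) hq.ne_zero (hv.map (germR O Q hQO)) _ _ h9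
      omega
    refine ⟨σ, hσ, fun O hO hO' => ?_⟩
    have h1 := congrArg (algebraMap R Γ(Spec R, O) (q ^ k₀) • ·) (hsσ O hO hO')
    have h2 := congrArg (L.presheaf.map (homOfLE hO').op) hts
    rw [L.map_smul, L.map_smul, res_algebraMap, res_algebraMap] at h2
    have h2' := congrArg (algebraMap R Γ(Spec R, O) (q ^ k) • ·) h2
    simp only [← mul_smul, ← map_mul, ← pow_add] at h1 h2'
    rw [add_comm k₀ k] at h1
    rw [h1, add_comm k i₀, hexp, add_comm k₀ i] at h2'
    obtain ⟨x, hx⟩ := (isUnit_algebraMap_of_le (W := O) (a := q) (hO'.trans inf_le_right)).pow (i + k₀)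
    rw [map_pow, ← hx] at h2'
    exact (smul_left_cancel x (show x • _ = x • _ from h2') : _)
  choose σ hσ htσ using key
  let F : TopCat.Sheaf Ab.{u} (Spec R).carrier := ⟨L.presheaf, L.isSheaf⟩
  let κ := {z : PrimeSpectrum R // z ∈ W}
  obtain ⟨s', hs', -⟩ := F.existsUnique_gluing' (fun z : κ => D (g z.1 z.2)) W (fun z => homOfLE (hgW z.1 z.2))
    (fun (z : PrimeSpectrum R) hz => Opens.mem_iSup.2 ⟨⟨z, hz⟩, hzg z hz⟩) (fun z => σ z.1 z.2) (by
      intro a b
      refine res_injective_of_gen (hσ a.1 a.2) (inf_le_left : D (g a.1 a.2) ⊓ D (g b.1 b.2) ≤ _)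
        (inf_le_left : D (g a.1 a.2) ⊓ D (g b.1 b.2) ⊓ D q ≤ _) (nonempty_inf_D hq.ne_zero) ?_
      rw [show (Opens.infLELeft (D (g a.1 a.2)) (D (g b.1 b.2))) = homOfLE inf_le_left from rfl,
        show (Opens.infLERight (D (g a.1 a.2)) (D (g b.1 b.2))) = homOfLE inf_le_right from rfl]
      refine (res_res _ _ _).trans (Eq.trans ?_ (res_res _ _ _).symm)
      have hO' : D (g a.1 a.2) ⊓ D (g b.1 b.2) ⊓ D q ≤ W ⊓ D q :=
        le_inf (inf_le_left.trans (inf_le_left.trans (hgW a.1 a.2))) inf_le_right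
      exact (htσ a.1 a.2 _ _ hO').symm.trans (htσ b.1 b.2 _ _ hO'))
  refine ⟨s', gen_of_cover (fun z : κ => D (g z.1 z.2)) (fun z => hgW z.1 z.2)
    (fun (z : PrimeSpectrum R) hz => Opens.mem_iSup.2 ⟨⟨z, hz⟩, hzg z hz⟩) fun z => ?_⟩
  rw [show L.presheaf.map (homOfLE (hgW z.1 z.2)).op s' = σ z.1 z.2 from hs' z]
  exact hσ z.1 z.2

end Groth.Agent.ParaFLib
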