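import Groth.Agent.ParaFLib.Extend

/-! Surjectivity of restriction of invertible modules for schemes with factorial local rings. -/

set_option autoImplicit false
set_option linter.style.haveILetI false

universe u

open CategoryTheory AlgebraicGeometry TopologicalSpace Opposite

noncomputable section

namespace Groth.Agent.ParaFLib

variable {X : Scheme.{u}}

theorem gen_of_modIso {L L' : X.Modules} (φ : L ≅ L') {W : X.Opens} {s : Γ(L, W)} (hs : Gen W s) :
    Gen (L := L') W (φ.hom.app W s) := fun V h => by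
  have : (fun r : Γ(X, V) => r • L'.presheaf.map (homOfLE h).op (φ.hom.app W s))
      = (φ.hom.app V : Γ(L, V) → Γ(L', V)) ∘ fun r : Γ(X, V) => r • L.presheaf.map (homOfLE h).op s :=
    funext fun r => by
      show _ = φ.hom.app V (r • _)
      refine Eq.trans ?_ (Scheme.Modules.Hom.app_smul φ.hom r (L.presheaf.map (homOfLE h).op s)).symm
      exact congrArg (fun v : Γ(L', V) => r • v) (DCohLib.app_natural φ.hom h s).symm
  rw [this]
  exact (ConcreteCategory.bijective_of_isIso (φ.hom.app V)).comp (hs V h)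

/-- The direct image of an invertible module has bases on the open. -/
theorem locGen_pushforward (W : X.Opens) {M : (W : Scheme.{u}).Modules} (hM : PicF.IsInvertible M) :
    LocGen ((Scheme.Modules.pushforward W.ι).obj M) W := fun x hx => by
  obtain ⟨A, s, hxA, hs⟩ := exists_gen_nhd hM ⟨x, hx⟩
  exact ⟨W.ι ''ᵁ A, _, ⟨⟨x, hx⟩, hxA, rfl⟩,
    (gen_restrict_iff W.ι _).1 (gen_of_modIso (asIso ((Scheme.Modules.restrictAdjunction W.ι).counit.app M)).symm hs)⟩

theorem exists_invertible_extension [IsIntegral X] [IsLocallyNoetherian X] [NoetherianSpace X]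
    (hufd : ∀ x : X, UniqueFactorizationMonoid (X.presheaf.stalk x)) (U : X.Opens)
    (M : (U : Scheme.{u}).Modules) (hM : PicF.IsInvertible M) :
    ∃ L : X.Modules, PicF.IsInvertible L ∧ Nonempty (L.restrict U.ι ≅ M) := by
  let S : Set X.Opens := {V | U ≤ V ∧ ∃ L : X.Modules, LocGen L V ∧ Nonempty (L.restrict U.ι ≅ M)}
  have hne : S.Nonempty := ⟨U, le_rfl, _, locGen_pushforward U hM,
    ⟨asIso ((Scheme.Modules.restrictAdjunction U.ι).counit.app M)⟩⟩
  obtain ⟨V, ⟨hUV, L, hL, ⟨φ⟩⟩, hmax⟩ := wellFounded_gt.has_min S hne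
  have hV : V = ⊤ := by
    by_contra hV
    obtain ⟨x, -, hx⟩ := SetLike.not_le_iff_exists.1 (fun h => hV (top_le_iff.1 h))
    obtain ⟨D, hxD, s, hs⟩ := exists_gen_nhd_inf hufd hL x
    refine hmax (V ⊔ D) ?_ (lt_of_le_of_ne le_sup_left fun e => hx (e.symm ▸ Or.inr hxD))
    let W : X.Opens := V ⊔ D
    let V' : (W : Scheme.{u}).Opens := W.ι ⁻¹ᵁ V
    have e₁ : ∀ A : X.Opens, A ≤ W → W.ι ''ᵁ (W.ι ⁻¹ᵁ A) = A := fun A hA => by
      rw [Scheme.Hom.image_preimage_eq_opensRange_inf, Scheme.Opens.opensRange_ι, inf_eq_right.2 hA]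
    have hVD : V' ⊔ W.ι ⁻¹ᵁ D = ⊤ := top_le_iff.1 fun z _ => (z.2 : z.1 ∈ V ⊔ D)
    have hL' : LocGen (L.restrict W.ι) V' := fun z hz => by
      obtain ⟨A, e, hzA, he⟩ := hL z.1 hz
      exact ⟨W.ι ⁻¹ᵁ A, _, hzA, (gen_restrict_iff W.ι _).2 (he.res (W.ι.image_preimage_le A))⟩
    have hle : W.ι ''ᵁ (V' ⊓ W.ι ⁻¹ᵁ D) ≤ V ⊓ D := by
      rintro _ ⟨z, hz, rfl⟩
      exact hz
    obtain ⟨L₁, hL₁, ⟨ψ⟩⟩ := exists_glue_basis V' (W.ι ⁻¹ᵁ D) hVD hL' ⟨_, (gen_restrict_iff W.ι _).2 (hs.res hle)⟩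
    refine ⟨hUV.trans le_sup_left, (Scheme.Modules.pushforward W.ι).obj L₁, locGen_pushforward W hL₁, ⟨?_⟩⟩
    let j := X.homOfLE (hUV.trans le_sup_left : U ≤ W)
    have hrange : Set.range j ⊆ Set.range V'.ι := by
      rw [Scheme.Opens.range_ι]
      rintro _ ⟨z, rfl⟩
      show W.ι (j z) ∈ V
      rw [← Scheme.Hom.comp_apply, Scheme.homOfLE_ι]
      exact hUV z.2
    let k := IsOpenImmersion.lift V'.ι j hrange
    have hk : k ≫ V'.ι = j := IsOpenImmersion.lift_fac _ _ _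
    haveI : IsOpenImmersion (k ≫ V'.ι) := hk.symm ▸ (inferInstance : IsOpenImmersion j)
    haveI : IsOpenImmersion k := IsOpenImmersion.of_comp k V'.ι
    let c := asIso ((Scheme.Modules.restrictAdjunction W.ι).counit.app L₁)
    exact (restrictCongr (Scheme.homOfLE_ι X (hUV.trans le_sup_left : U ≤ W)) _).symm ≪≫
      restrictComp j W.ι _ ≪≫ (Scheme.Modules.restrictFunctor j).mapIso c ≪≫
      (restrictCongr hk L₁).symm ≪≫ restrictComp k V'.ι L₁ ≪≫ (Scheme.Modules.restrictFunctor k).mapIso ψ ≪≫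
      (restrictComp k V'.ι (L.restrict W.ι)).symm ≪≫ restrictCongr hk (L.restrict W.ι) ≪≫
      (restrictComp j W.ι L).symm ≪≫ restrictCongr (Scheme.homOfLE_ι X (hUV.trans le_sup_left : U ≤ W)) L ≪≫ φ
  subst hV
  refine ⟨L, fun x => ?_, ⟨φ⟩⟩
  obtain ⟨A, e, hxA, he⟩ := hL x trivial
  exact ⟨A, hxA, nonempty_iso_of_gen he⟩

end Groth.Agent.ParaFLib
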