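import Groth.Agent.ParaFLib.Basic

/-! Generating sections of modules. -/

set_option autoImplicit false
set_option linter.style.haveILetI false

universe u

open CategoryTheory AlgebraicGeometry TopologicalSpace Opposite

noncomputable section

namespace Groth.Agent.ParaFLib

variable {X : Scheme.{u}} {L : X.Modules}

/-- `s` is a basis of `L` on `W`. -/
def Gen (W : X.Opens) (s : Γ(L, W)) : Prop :=
  ∀ (O : X.Opens) (h : O ≤ W),
    Function.Bijective fun r : Γ(X, O) => r • L.presheaf.map (homOfLE h).op s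

theorem res_res {a b c : X.Opens} (h₁ : b ≤ a) (h₂ : c ≤ b) (s : Γ(L, a)) :
    L.presheaf.map (homOfLE h₂).op (L.presheaf.map (homOfLE h₁).op s)
      = L.presheaf.map (homOfLE (h₂.trans h₁)).op s := by
  rw [← ConcreteCategory.comp_apply, ← Functor.map_comp]
  rfl

theorem Gen.res {W W' : X.Opens} {s : Γ(L, W)} (hs : Gen W s) (h : W' ≤ W) :
    Gen W' (L.presheaf.map (homOfLE h).op s) := fun O hO => by
  simp only [res_res h hO]
  exact hs O (hO.trans h)

theorem Gen.smul {W : X.Opens} {s : Γ(L, W)} (hs : Gen W s) {a : Γ(X, W)} (ha : IsUnit a) :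
    Gen W (a • s) := fun O hO => by
  have e : (fun r : Γ(X, O) => r • L.presheaf.map (homOfLE hO).op (a • s))
      = (fun r => r • L.presheaf.map (homOfLE hO).op s) ∘ fun r : Γ(X, O) => r * X.presheaf.map (homOfLE hO).op a :=
    funext fun r => by
      show r • _ = (r * _) • _
      rw [L.map_smul, mul_smul]
  rw [e]
  obtain ⟨v, hv⟩ : IsUnit ((X.presheaf.map (homOfLE hO).op).hom a) := IsUnit.map _ ha
  refine (hs O hO).comp ?_
  show Function.Bijective fun r : Γ(X, O) => r * (X.presheaf.map (homOfLE hO).op).hom a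
  rw [← hv]
  exact v.mulRight.bijective

theorem Gen.exists_unit {W : X.Opens} {s t : Γ(L, W)} (hs : Gen W s) (ht : Gen W t) :
    ∃ a : Γ(X, W), IsUnit a ∧ a • t = s := by
  have e : ∀ v : Γ(L, W), L.presheaf.map (homOfLE le_rfl).op v = v := fun v =>
    ConcreteCategory.congr_hom (L.presheaf.map_id _) v
  obtain ⟨a, ha⟩ := (ht W le_rfl).2 s
  obtain ⟨b, hb⟩ := (hs W le_rfl).2 t
  simp only [e] at ha hb
  refine ⟨a, IsUnit.of_mul_eq_one b ((hs W le_rfl).1 ?_), ha⟩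
  simp only [e, one_smul]
  rw [mul_smul, hb, ha]

theorem exists_gen_bot : ∃ s : Γ(L, (⊥ : X.Opens)), Gen ⊥ s := by
  refine ⟨0, fun O hO => ?_⟩
  have : O = ⊥ := le_bot_iff.1 hO
  subst this
  haveI : Subsingleton Γ(L, (⊥ : X.Opens)) := by
    exact ModuleCat.subsingleton_of_isZero (R := Γ(X, (⊥ : X.Opens)))
      (M := L.val.obj (op ⊥)) (by
        refine @ModuleCat.isZero_of_subsingleton _ _ _ ⟨fun a b => ?_⟩
        exact TopCat.Sheaf.eq_of_locally_eq' (⟨L.presheaf, L.isSheaf⟩ : TopCat.Sheaf Ab.{u} X.carrier)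
          (fun i : PEmpty.{u+1} => i.elim) ⊥ (fun i => i.elim) bot_le a b fun i => i.elim)
  haveI : Subsingleton Γ(X, (⊥ : X.Opens)) := CommRingCat.subsingleton_of_isTerminal X.sheaf.isTerminalOfEmpty
  exact ⟨fun _ _ _ => Subsingleton.elim _ _, fun b => ⟨0, Subsingleton.elim _ _⟩⟩

theorem exists_gen_of_iso {W : X.Opens} (e : L.restrict W.ι ≅ Coh.structureModule (W : Scheme.{u})) :
    ∃ s : Γ(L, W.ι ''ᵁ ⊤), Gen (W.ι ''ᵁ ⊤) s := by
  refine ⟨e.inv.app ⊤ (1 : Γ(W, ⊤)), fun O hO => ?_⟩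
  have hOW : O ≤ W := hO.trans W.ι_image_top.le
  obtain ⟨a, rfl⟩ : ∃ a : (W : Scheme.{u}).Opens, W.ι ''ᵁ a = O :=
    ⟨W.ι ⁻¹ᵁ O, by rw [Scheme.Hom.image_preimage_eq_opensRange_inf, Scheme.Opens.opensRange_ι, inf_eq_right.2 hOW]⟩
  have hb : Function.Bijective (fun r : Γ(W, a) => e.inv.app a r) := (ConcreteCategory.bijective_of_isIso (e.inv.app a) :)
  have key : ∀ r : Γ(W, a),
      e.inv.app a r = ((W.ι.appIso a).inv r) • L.presheaf.map (homOfLE hO).op (e.inv.app ⊤ (1 : Γ(W, ⊤))) := by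
    intro r
    have h1 : e.inv.app a r = e.inv.app a (r • (1 : Γ(W, a))) := congrArg (e.inv.app a) (mul_one r).symm
    refine h1.trans ((Scheme.Modules.Hom.app_smul e.inv r (1 : Γ(W, a))).trans ?_)
    refine congrArg (fun v : Γ(L, W.ι ''ᵁ a) => ((W.ι.appIso a).inv r) • v) ?_
    exact (DCohLib.app_one_natural e.inv (le_top : a ≤ ⊤)).symm
  rw [funext key] at hb
  exact (Function.Bijective.of_comp_iff (fun r : Γ(X, W.ι ''ᵁ a) => r • L.presheaf.map (homOfLE hO).op (e.inv.app ⊤ (1 : Γ(W, ⊤))))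
    (ConcreteCategory.bijective_of_isIso (W.ι.appIso a).inv)).1 hb

theorem nonempty_iso_of_gen {W : X.Opens} {s : Γ(L, W)} (hs : Gen W s) :
    Nonempty (L.restrict W.ι ≅ Coh.structureModule (W : Scheme.{u})) := by
  let φ := DCohLib.secHom (L.restrict W.ι) (L.presheaf.map (homOfLE W.ι_image_top.le).op s)
  haveI : IsIso φ := by
    refine isIso_of_locally_app φ fun x => ⟨⊤, trivial, fun a _ => ?_⟩
    have key : ∀ r : Γ(W, a), φ.app a r = ((W.ι.appIso a).inv r) •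
        L.presheaf.map (homOfLE ((W.ι.image_mono le_top).trans W.ι_image_top.le : W.ι ''ᵁ a ≤ W)).op s := by
      intro r
      have h1 : φ.app a r = φ.app a (r • (1 : Γ(W, a))) := congrArg (φ.app a) (mul_one r).symm
      refine h1.trans ((Scheme.Modules.Hom.app_smul φ r (1 : Γ(W, a))).trans ?_)
      refine congrArg (fun v : Γ(L, W.ι ''ᵁ a) => ((W.ι.appIso a).inv r) • v) ?_
      refine (DCohLib.secHom_app_one (L.restrict W.ι) _ a).trans ?_
      rw [Scheme.Modules.restrict_map]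
      exact res_res W.ι_image_top.le (W.ι.image_mono le_top) s
    show Function.Bijective fun r : Γ(W, a) => φ.app a r
    rw [funext key]
    exact Function.Bijective.comp
      (g := fun r : Γ(X, W.ι ''ᵁ a) => r • L.presheaf.map
        (homOfLE ((W.ι.image_mono le_top).trans W.ι_image_top.le : W.ι ''ᵁ a ≤ W)).op s)
      (f := fun r : Γ(W, a) => (W.ι.appIso a).inv r)
      (hs (W.ι ''ᵁ a) ((W.ι.image_mono le_top).trans W.ι_image_top.le))
      (ConcreteCategory.bijective_of_isIso (W.ι.appIso a).inv)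
  exact ⟨(asIso φ).symm⟩

theorem exists_gen_sup {W₁ W₂ : X.Opens} {s₁ : Γ(L, W₁)} {s₂ : Γ(L, W₂)} (h₁ : Gen W₁ s₁) (h₂ : Gen W₂ s₂)
    (he : L.presheaf.map (homOfLE (inf_le_left : W₁ ⊓ W₂ ≤ W₁)).op s₁
      = L.presheaf.map (homOfLE (inf_le_right : W₁ ⊓ W₂ ≤ W₂)).op s₂) :
    ∃ s : Γ(L, W₁ ⊔ W₂), Gen (W₁ ⊔ W₂) s := by
  let F : TopCat.Sheaf Ab.{u} X.carrier := ⟨L.presheaf, L.isSheaf⟩
  let Ws : ULift.{u} Bool → X.Opens := fun b => if b.down then W₁ else W₂
  have hWs : ∀ b, Ws b ≤ W₁ ⊔ W₂ := by rintro ⟨_ | _⟩ <;> simp [Ws]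
  let sf : ∀ b, Γ(L, Ws b) := fun
    | ⟨true⟩ => s₁
    | ⟨false⟩ => s₂
  have hcov : W₁ ⊔ W₂ ≤ iSup Ws := sup_le (le_iSup Ws ⟨true⟩) (le_iSup Ws ⟨false⟩)
  obtain ⟨s, hs, -⟩ := F.existsUnique_gluing' Ws (W₁ ⊔ W₂) (fun b => homOfLE (hWs b)) hcov sf (by
    rintro ⟨_ | _⟩ ⟨_ | _⟩
    · rfl
    · have hle : W₂ ⊓ W₁ ≤ W₁ ⊓ W₂ := (inf_comm W₂ W₁).le
      have := congrArg (L.presheaf.map (homOfLE hle).op) he
      rw [res_res, res_res] at this
      exact this.symm
    · exact he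
    · rfl)
  refine ⟨s, fun O hO => ?_⟩
  constructor
  · intro r r' hr
    refine (X.sheaf).eq_of_locally_eq' (fun b => O ⊓ Ws b) O (fun b => homOfLE inf_le_left)
      (fun x hx => by
        obtain ⟨b, hb⟩ := Opens.mem_iSup.1 (hcov (hO hx))
        exact Opens.mem_iSup.2 ⟨b, hx, hb⟩) r r' fun b => ?_
    have hb : Gen (Ws b) (L.presheaf.map (homOfLE (hWs b)).op s) := by
      rw [show L.presheaf.map (homOfLE (hWs b)).op s = sf b from hs b]
      obtain ⟨_ | _⟩ := b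
      exacts [h₂, h₁]
    refine (hb (O ⊓ Ws b) inf_le_right).1 ?_
    have e2 := congrArg (L.presheaf.map (homOfLE (inf_le_left : O ⊓ Ws b ≤ O)).op) hr
    rw [L.map_smul, L.map_smul, res_res] at e2
    simp only [res_res]
    exact e2
  · intro v
    have hb : ∀ b, Gen (Ws b) (L.presheaf.map (homOfLE (hWs b)).op s) := fun b => by
      rw [show L.presheaf.map (homOfLE (hWs b)).op s = sf b from hs b]
      obtain ⟨_ | _⟩ := b
      exacts [h₂, h₁]
    choose r hr using fun b => (hb b (O ⊓ Ws b) inf_le_right).2 (L.presheaf.map (homOfLE inf_le_left).op v)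
    have hcov' : O ≤ ⨆ b, O ⊓ Ws b := fun x hx => by
      obtain ⟨b, hb'⟩ := Opens.mem_iSup.1 (hcov (hO hx))
      exact Opens.mem_iSup.2 ⟨b, hx, hb'⟩
    obtain ⟨g, hg, -⟩ := X.sheaf.existsUnique_gluing' (fun b => O ⊓ Ws b) O (fun b => homOfLE inf_le_left) hcov' r (by
      intro b c
      refine (hb b _ (inf_le_left.trans inf_le_right)).1 ?_
      have eb := congrArg (L.presheaf.map (homOfLE (inf_le_left : (O ⊓ Ws b) ⊓ (O ⊓ Ws c) ≤ O ⊓ Ws b)).op) (hr b)
      have ec := congrArg (L.presheaf.map (homOfLE (inf_le_right : (O ⊓ Ws b) ⊓ (O ⊓ Ws c) ≤ O ⊓ Ws c)).op) (hr c)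
      simp only [L.map_smul, res_res] at eb ec ⊢
      exact eb.trans ec.symm)
    refine ⟨g, F.eq_of_locally_eq' (fun b => O ⊓ Ws b) O (fun b => homOfLE inf_le_left) hcov' _ _ fun b => ?_⟩
    have eg : X.presheaf.map (homOfLE (inf_le_left : O ⊓ Ws b ≤ O)).op g = r b := hg b
    show L.presheaf.map (homOfLE (inf_le_left : O ⊓ Ws b ≤ O)).op ((show Γ(X, O) from g) • L.presheaf.map (homOfLE hO).op s) = _
    rw [L.map_smul, eg, res_res]
    refine Eq.trans ?_ (hr b)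
    simp only [res_res]

end Groth.Agent.ParaFLib
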