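import Groth.Agent.ParaFLib.Ideal
import Mathlib.RingTheory.Ideal.UFD
import Mathlib.AlgebraicGeometry.Morphisms.OpenImmersion

/-! Parafactorial pairs and factoriality. -/

set_option autoImplicit false
set_option linter.style.haveILetI false

universe u

open CategoryTheory AlgebraicGeometry TopologicalSpace Opposite

noncomputable section

namespace Groth.Agent.ParaFLib

variable {R : CommRingCat.{u}}

/-- The complement of `V(I)`. -/
def nonV (I : Ideal R) : (Spec R).Opens :=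
  ⟨(PrimeSpectrum.zeroLocus (I : Set R))ᶜ, (PrimeSpectrum.isClosed_zeroLocus _).isOpen_compl⟩

theorem mem_nonV {I : Ideal R} {x : PrimeSpectrum R} : x ∈ nonV I ↔ ¬ I ≤ x.asIdeal := Iff.rfl

theorem mem_of_le {U : (Spec R).Opens} {p z : PrimeSpectrum R} (h : p.asIdeal ≤ z.asIdeal) (hz : z ∈ U) : p ∈ U :=
  Specializes.mem_open ((PrimeSpectrum.le_iff_specializes p z).1 h) U.isOpen hz

theorem injective_algebraMap_top : Function.Injective (algebraMap R Γ(Spec R, (⊤ : (Spec R).Opens))) :=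
  fun _ _ h => (ConcreteCategory.bijective_of_isIso (Scheme.ΓSpecIso R).inv).1 h

/-- Membership in a prime is seen on a neighbourhood. -/
theorem isUnit_germR_iff {W : (Spec R).Opens} {z : PrimeSpectrum R} (hz : z ∈ W) (a : R) :
    IsUnit (germR W z hz (algebraMap R Γ(Spec R, W) a)) ↔ a ∉ z.asIdeal := by
  rw [germ_algebraMap]
  exact isUnit_stalk_iff z a

variable [IsNoetherianRing R] (U : (Spec R).Opens)
  (hRC : ∀ O : (Spec R).Opens, Bij (Coh.structureModule (Spec R)) O (O ⊓ U))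

include hRC in
theorem isReduced_of_ringClosed
    (hst : ∀ z : PrimeSpectrum R, z ∈ U → IsDomain ((Spec.structureSheaf R).presheaf.stalk z)) : IsReduced R := by
  refine ⟨fun r ⟨n, hn⟩ => ?_⟩
  have h0 : algebraMap R Γ(Spec R, ⊤ ⊓ U) r = 0 := by
    refine TopCat.Presheaf.section_ext (Spec R).sheaf (⊤ ⊓ U) _ _ fun (z : PrimeSpectrum R) hz => ?_
    haveI := hst z hz.2
    show germR (⊤ ⊓ U) z hz (algebraMap R _ r) = germR (⊤ ⊓ U) z hz 0
    rw [map_zero, germ_algebraMap]
    refine IsNilpotent.eq_zero ⟨n, ?_⟩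
    rw [← map_pow, hn, map_zero]
  refine injective_algebraMap_top ((hRC ⊤ inf_le_left).1 ?_)
  show (Spec R).presheaf.map (homOfLE inf_le_left).op (algebraMap R Γ(Spec R, (⊤ : (Spec R).Opens)) r) =
    (Spec R).presheaf.map (homOfLE inf_le_left).op (algebraMap R Γ(Spec R, (⊤ : (Spec R).Opens)) 0)
  rw [res_algebraMap, res_algebraMap, h0, map_zero]

include hRC in
theorem mem_of_mem_minimalPrimes (x : R) (hx : x ≠ 0) [IsDomain R] (Q : Ideal R)
    (hQ : Q ∈ (Ideal.span {x}).minimalPrimes) : (⟨Q, hQ.1.1⟩ : PrimeSpectrum R) ∈ U := by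
  classical
  by_contra hQU
  haveI := hQ.1.1
  have hfin := Ideal.finite_minimalPrimes_of_isNoetherianRing R (Ideal.span {x})
  let J := (hfin.toFinset.erase Q).inf id
  have hJ : ¬ J ≤ Q := fun h => by
    obtain ⟨q, hq, hqQ⟩ := (hQ.1.1.inf_le' (s := hfin.toFinset.erase Q) (f := id)).1 h
    rw [Finset.mem_erase, Set.Finite.mem_toFinset] at hq
    exact hq.1 (le_antisymm hqQ (hQ.2 hq.2.1 hqQ))
  obtain ⟨h, hhJ, hhQ⟩ := SetLike.not_le_iff_exists.1 hJ
  have hle : D h ⊓ U ≤ D (h * x) := fun (z : PrimeSpectrum R) hz => by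
    refine fun hmem => ?_
    rcases z.isPrime.mem_or_mem hmem with hh | hxz
    · exact hz.1 hh
    · obtain ⟨q, hq, hqz⟩ := Ideal.exists_minimalPrimes_le (J := z.asIdeal) ((Ideal.span_singleton_le_iff_mem _).2 hxz)
      by_cases hqQ : q = Q
      · subst hqQ
        exact hQU (mem_of_le (p := ⟨q, hQ.1.1⟩) hqz hz.2)
      · have hJq : J ≤ q :=
          Finset.inf_le (f := id) (Finset.mem_erase.2 ⟨hqQ, hfin.mem_toFinset.2 hq⟩)
        exact hz.1 (hqz (hJq hhJ))
  have hsub : D (h * x) ≤ D h := PrimeSpectrum.basicOpen_mul_le_left h x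
  have hbij : Bij (Coh.structureModule (Spec R)) (D h) (D (h * x)) := by
    refine Bij.left hsub (le_inf hle le_rfl |>.trans inf_le_left : D h ⊓ U ≤ D (h * x)) (hRC (D h)) ?_
    have := hRC (D (h * x))
    have e : D (h * x) ⊓ U = D h ⊓ U := le_antisymm (inf_le_inf_right _ hsub) (le_inf hle inf_le_right)
    rwa [e] at this
  obtain ⟨v, hv⟩ := isUnit_algebraMap_of_le (R := R) (W := D (h * x)) (a := x) (PrimeSpectrum.basicOpen_mul_le_right h x)
  obtain ⟨w, hw⟩ := (hbij hsub).2 (↑v⁻¹ : Γ(Spec R, D (h * x)))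
  change Γ(Spec R, D h) at w
  change (Spec R).presheaf.map (homOfLE hsub).op w = _ at hw
  have h1 : w * algebraMap R Γ(Spec R, D h) x = 1 := by
    apply (hbij hsub).1
    show ((Spec R).presheaf.map (homOfLE hsub).op).hom (w * _) = ((Spec R).presheaf.map (homOfLE hsub).op).hom 1
    rw [map_mul, map_one]
    exact ((congrArg₂ (· * ·) hw (res_algebraMap hsub x)).trans (by rw [← hv, Units.inv_mul]) :)
  exact (isUnit_germR_iff (z := ⟨Q, hQ.1.1⟩) (W := D h) hhQ x).1
    ((IsUnit.of_mul_eq_one_right w h1).map _) (hQ.1.2 (Ideal.subset_span rfl))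

include hRC in
theorem mem_of_isMinimalPrime (p : Ideal R) (hp : p ∈ minimalPrimes R) :
    (⟨p, hp.1.1⟩ : PrimeSpectrum R) ∈ U := by
  classical
  by_contra hpU
  have hfin := minimalPrimes.finite_of_isNoetherianRing R
  let J := (hfin.toFinset.erase p).inf id
  have hJ : ¬ J ≤ p := fun h => by
    obtain ⟨q, hq, hqp⟩ := (hp.1.1.inf_le' (s := hfin.toFinset.erase p) (f := id)).1 h
    rw [Finset.mem_erase, Set.Finite.mem_toFinset] at hq
    exact hq.1 (le_antisymm hqp (hp.2 hq.2.1 hqp))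
  obtain ⟨h, hhJ, hhp⟩ := SetLike.not_le_iff_exists.1 hJ
  have hbot : D h ⊓ U ≤ ⊥ := fun (z : PrimeSpectrum R) hz => by
    obtain ⟨q, hq, hqz⟩ := Ideal.exists_minimalPrimes_le (I := (⊥ : Ideal R)) (J := z.asIdeal) bot_le
    by_cases hqp : q = p
    · subst hqp
      exact hpU (mem_of_le (p := ⟨q, hp.1.1⟩) hqz hz.2)
    · have hJq : J ≤ q := Finset.inf_le (f := id) (Finset.mem_erase.2 ⟨hqp, hfin.mem_toFinset.2 hq⟩)
      exact absurd (hqz (hJq hhJ)) hz.1
  haveI : Subsingleton Γ(Spec R, D h ⊓ U) := by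
    rw [le_bot_iff.1 hbot]
    exact CommRingCat.subsingleton_of_isTerminal (Spec R).sheaf.isTerminalOfEmpty
  have h1 : (1 : Γ(Spec R, D h)) = 0 := (hRC (D h) inf_le_left).1 (Subsingleton.elim (α := Γ(Spec R, D h ⊓ U)) _ _)
  have := congrArg (germR (D h) ⟨p, hp.1.1⟩ hhp) h1
  rw [map_one, map_zero] at this
  refine (isUnit_stalk_iff (R := R) ⟨p, hp.1.1⟩ 0).1 ?_ p.zero_mem
  rw [map_zero]
  exact this ▸ isUnit_one

include hRC in
/-- Near any point, the ring is a domain. -/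
theorem exists_isDomain_away
    (hst : ∀ z : PrimeSpectrum R, z ∈ U → IsDomain ((Spec.structureSheaf R).presheaf.stalk z)) (y : PrimeSpectrum R) :
    ∃ h : R, h ∉ y.asIdeal ∧ IsDomain (Localization.Away h) := by
  classical
  haveI := isReduced_of_ringClosed U hRC hst
  obtain ⟨p, hp, hpy⟩ := Ideal.exists_minimalPrimes_le (I := (⊥ : Ideal R)) (J := y.asIdeal) bot_le
  have hfin := minimalPrimes.finite_of_isNoetherianRing R
  let J := (hfin.toFinset.erase p).inf id
  haveI := hp.1.1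
  have hJmem : ∀ q ∈ minimalPrimes R, q ≠ p → J ≤ q := fun q hq hqp =>
    Finset.inf_le (f := id) (Finset.mem_erase.2 ⟨hqp, hfin.mem_toFinset.2 hq⟩)
  -- two minimal primes do not meet in `U`
  have huniq : ∀ z : PrimeSpectrum R, z ∈ U → ∀ q ∈ minimalPrimes R, ∀ q' ∈ minimalPrimes R,
      q ≤ z.asIdeal → q' ≤ z.asIdeal → q = q' := by
    intro (z : PrimeSpectrum R) hz q hq q' hq' hqz hqz'
    haveI := hst z hz
    let k : Ideal R := (⊥ : Ideal ((Spec.structureSheaf R).presheaf.stalk z)).comap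
      (algebraMap R ((Spec.structureSheaf R).presheaf.stalk z))
    haveI hk : k.IsPrime := by
      haveI : (⊥ : Ideal ((Spec.structureSheaf R).presheaf.stalk z)).IsPrime := Ideal.isPrime_bot
      exact Ideal.IsPrime.comap _
    have key : ∀ w ∈ minimalPrimes R, w ≤ z.asIdeal → w = k := fun w hw hwz => by
      have hle : k ≤ w := fun r hr => by
        obtain ⟨t, ht⟩ := (IsLocalization.map_eq_zero_iff z.asIdeal.primeCompl
          ((Spec.structureSheaf R).presheaf.stalk z) r).1 hr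
        exact (hw.1.1.mem_or_mem (ht.symm ▸ w.zero_mem : (t : R) * r ∈ w)).resolve_left fun h => t.2 (hwz h)
      exact le_antisymm (hw.2 ⟨hk, bot_le⟩ hle) hle
    exact (key q hq hqz).trans (key q' hq' hqz').symm
  have hothers : ∀ q ∈ minimalPrimes R, q ≠ p → ¬ q ≤ y.asIdeal := by
    intro q hq hqp hqy
    -- the idempotent
    let Ws : ULift.{u} Bool → (Spec R).Opens := fun b => if b.down then U ⊓ nonV J else U ⊓ nonV p
    have hdisj : U ⊓ nonV J ⊓ (U ⊓ nonV p) ≤ ⊥ := fun (z : PrimeSpectrum R) hz => by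
      obtain ⟨w, hw, hwz⟩ := Ideal.exists_minimalPrimes_le (I := (⊥ : Ideal R)) (J := z.asIdeal) bot_le
      by_cases hwp : w = p
      · exact absurd (hwp ▸ hwz) hz.2.2
      · exact absurd ((hJmem w hw hwp).trans hwz) hz.1.2
    have hcov : ⊤ ⊓ U ≤ iSup Ws := fun (z : PrimeSpectrum R) hz => by
      by_cases h1 : p ≤ z.asIdeal
      · refine Opens.mem_iSup.2 ⟨⟨true⟩, hz.2, fun h2 => ?_⟩
        obtain ⟨w, hw, hwz⟩ := (z.isPrime.inf_le' (s := hfin.toFinset.erase p) (f := id)).1 h2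
        rw [Finset.mem_erase, Set.Finite.mem_toFinset] at hw
        exact hw.1 (huniq z hz.2 w hw.2 p hp hwz h1)
      · exact Opens.mem_iSup.2 ⟨⟨false⟩, hz.2, h1⟩
    have hWs : ∀ b, Ws b ≤ ⊤ ⊓ U := by rintro ⟨_ | _⟩ <;> simp [Ws]
    let sf : ∀ b, Γ(Spec R, Ws b) := fun b => if b.down then 1 else 0
    obtain ⟨e₀, he₀, -⟩ := (Spec R).sheaf.existsUnique_gluing' Ws (⊤ ⊓ U) (fun b => homOfLE (hWs b)) hcov sf (by
      intro a b
      by_cases hab : a = b
      · subst hab
        rfl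
      · refine TopCat.Presheaf.section_ext (Spec R).sheaf _ _ _ fun (z : PrimeSpectrum R) hz => ?_
        have h2 : z ∈ U ⊓ nonV J ⊓ (U ⊓ nonV p) := by
          obtain ⟨_ | _⟩ := a <;> obtain ⟨_ | _⟩ := b <;> first | exact absurd rfl hab | skip
          · exact ⟨hz.2, hz.1⟩
          · exact ⟨hz.1, hz.2⟩
        exact (hdisj h2 : z ∈ (∅ : Set (PrimeSpectrum R))).elim)
    obtain ⟨e₁, he₁⟩ := (hRC ⊤ inf_le_left).2 (show Γ(Spec R, ⊤ ⊓ U) from e₀)
    obtain ⟨e, rfl⟩ : ∃ e : R, algebraMap R Γ(Spec R, (⊤ : (Spec R).Opens)) e = e₁ :=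
      (ConcreteCategory.bijective_of_isIso (Scheme.ΓSpecIso R).inv).2 e₁
    change (Spec R).presheaf.map _ (algebraMap R Γ(Spec R, (⊤ : (Spec R).Opens)) e) = e₀ at he₁
    rw [res_algebraMap] at he₁
    have hval : ∀ (b : ULift.{u} Bool) (z : PrimeSpectrum R) (hz : z ∈ Ws b),
        algebraMap R ((Spec.structureSheaf R).presheaf.stalk z) e = if b.down then 1 else 0 := by
      intro b z hz
      rw [← germ_algebraMap (Ws b) z hz, ← res_algebraMap (hWs b) e, he₁]
      refine (congrArg (germR (Ws b) z hz) (he₀ b)).trans ?_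
      rcases b with ⟨_ | _⟩
      · exact map_zero _
      · exact map_one _
    have hidem : e * (1 - e) = 0 := by
      refine injective_algebraMap_top ((hRC ⊤ inf_le_left).1 ?_)
      show (Spec R).presheaf.map (homOfLE inf_le_left).op (algebraMap R Γ(Spec R, (⊤ : (Spec R).Opens)) _) =
        (Spec R).presheaf.map (homOfLE inf_le_left).op (algebraMap R Γ(Spec R, (⊤ : (Spec R).Opens)) 0)
      rw [res_algebraMap, res_algebraMap]
      refine TopCat.Presheaf.section_ext (Spec R).sheaf (⊤ ⊓ U) _ _ fun (z : PrimeSpectrum R) hz => ?_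
      show germR (⊤ ⊓ U) z hz (algebraMap R _ _) = germR (⊤ ⊓ U) z hz (algebraMap R _ _)
      rw [germ_algebraMap, germ_algebraMap, map_zero, map_mul, map_sub, map_one]
      obtain ⟨b, hb⟩ := Opens.mem_iSup.1 (hcov hz)
      rw [hval b z hb]
      rcases b with ⟨_ | _⟩ <;> simp
    have hpU := mem_of_isMinimalPrime U hRC p hp
    have hqU := mem_of_isMinimalPrime U hRC q hq
    have hep : e ∉ p := by
      rw [← isUnit_stalk_iff (R := R) ⟨p, hp.1.1⟩, hval ⟨true⟩ ⟨p, hp.1.1⟩ ⟨hpU, fun h => ?_⟩]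
      · exact isUnit_one
      · obtain ⟨w, hw, hwp⟩ := (hp.1.1.inf_le' (s := hfin.toFinset.erase p) (f := id)).1 h
        rw [Finset.mem_erase, Set.Finite.mem_toFinset] at hw
        exact hw.1 (le_antisymm hwp (hp.2 hw.2.1 hwp))
    have heq : e ∈ q := by
      by_contra h
      rw [← isUnit_stalk_iff (R := R) ⟨q, hq.1.1⟩, hval ⟨false⟩ ⟨q, hq.1.1⟩
        ⟨hqU, fun h' => hqp (le_antisymm (hq.2 hp.1 h') h')⟩] at h
      refine (isUnit_stalk_iff (R := R) ⟨q, hq.1.1⟩ 0).1 ?_ q.zero_mem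
      rw [map_zero]
      exact h
    have h1e : 1 - e ∈ p := (hp.1.1.mem_or_mem (hidem.symm ▸ p.zero_mem : e * (1 - e) ∈ p)).resolve_left hep
    exact y.isPrime.one_notMem (by simpa using y.asIdeal.add_mem (hqy heq) (hpy h1e))
  obtain ⟨h, hhJ, hhy⟩ := SetLike.not_le_iff_exists.1 (fun hle : J ≤ y.asIdeal => by
    obtain ⟨w, hw, hwy⟩ := (y.isPrime.inf_le' (s := hfin.toFinset.erase p) (f := id)).1 hle
    rw [Finset.mem_erase, Set.Finite.mem_toFinset] at hw
    exact hothers w hw.2 hw.1 hwy)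
  have hann : ∀ r ∈ p, h * r = 0 := fun r hr => by
    have : h * r ∈ sInf (minimalPrimes R) := Ideal.mem_sInf.2 fun {w} hw => by
      by_cases hwp : w = p
      · exact hwp ▸ p.mul_mem_left h hr
      · exact w.mul_mem_right r (hJmem w hw hwp hhJ)
    rw [show sInf (minimalPrimes R) = (⊥ : Ideal R).radical from Ideal.sInf_minimalPrimes] at this
    exact IsNilpotent.eq_zero this
  refine ⟨h, hhy, ?_⟩
  let S := Localization.Away h
  haveI : Nontrivial S := by
    refine ⟨⟨1, 0, fun h10 => hhy ?_⟩⟩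
    rw [← map_one (algebraMap R S), IsLocalization.map_eq_zero_iff (Submonoid.powers h)] at h10
    obtain ⟨⟨_, n, rfl⟩, hn⟩ := h10
    refine y.isPrime.mem_of_pow_mem n ?_
    rw [show h ^ n = 0 by simpa using hn]
    exact y.asIdeal.zero_mem
  haveI : NoZeroDivisors S := ⟨fun {a b} hab => by
    obtain ⟨⟨a₀, s⟩, ha⟩ := IsLocalization.surj (Submonoid.powers h) a
    obtain ⟨⟨b₀, t⟩, hb⟩ := IsLocalization.surj (Submonoid.powers h) b
    have h0 : algebraMap R S (a₀ * b₀) = 0 := by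
      rw [map_mul, ← ha, ← hb, mul_mul_mul_comm, hab, zero_mul]
    obtain ⟨k, hk⟩ := (IsLocalization.map_eq_zero_iff (Submonoid.powers h) S _).1 h0
    have hkp : k.1 ∉ p := by
      obtain ⟨n, hn⟩ := k.2
      exact fun hkp => hhy (hpy (hp.1.1.mem_of_pow_mem n ((show h ^ n = k.1 from hn).symm ▸ hkp)))
    have hunit : IsUnit (algebraMap R S h) := IsLocalization.Away.algebraMap_isUnit h
    have key : ∀ c : R, c ∈ p → algebraMap R S c = 0 := fun c hc => by
      rw [← hunit.mul_right_eq_zero, ← map_mul, hann c hc, map_zero]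
    rcases hp.1.1.mem_or_mem ((hp.1.1.mem_or_mem (hk.symm ▸ p.zero_mem : k.1 * (a₀ * b₀) ∈ p)).resolve_left hkp) with ha' | hb'
    · exact Or.inl ((IsLocalization.map_units S s).mul_left_eq_zero.1 (ha.trans (key _ ha')))
    · exact Or.inr ((IsLocalization.map_units S t).mul_left_eq_zero.1 (hb.trans (key _ hb')))⟩
  exact NoZeroDivisors.to_isDomain S

omit [IsNoetherianRing R] in
/-- A basis of the associated module of a prime ideal gives a generator near the points of `D h`. -/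
theorem exists_generator_of_gen [IsDomain R] (h : R) (U' : (Spec R).Opens) (hle : U' ≤ D h)
    (hres : Function.Surjective ((Spec R).presheaf.map (homOfLE hle).op))
    (Q : Ideal R) (hQ : Q.IsPrime) (hQU : (⟨Q, hQ⟩ : PrimeSpectrum R) ∈ U')
    (hloc : ∃ g f : R, g ∉ Q ∧ f ∈ Q ∧ f ≠ 0 ∧ ∀ z ∈ Q, f ∣ g * z)
    (s : Γ(tilde (ModuleCat.of R Q), U')) (hs : Gen U' s) :
    ∃ a ∈ Q, ∀ z ∈ Q, ∃ n : ℕ, a ∣ h ^ n * z := by
  haveI : Nonempty U' := ⟨⟨_, hQU⟩⟩
  let M : ModuleCat.{u} R := ModuleCat.of R Q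
  let N : ModuleCat.{u} R := ModuleCat.of R R
  let ι : M ⟶ N := ModuleCat.ofHom (Submodule.subtype Q)
  have hinj := injective_algebraMap_sections (R := R) U'
  -- functions on `U'` are fractions with denominator a power of `h`
  have hfrac : ∀ c : Γ(Spec R, U'), ∃ (r : R) (n : ℕ), c * algebraMap R _ (h ^ n) = algebraMap R _ r := by
    intro c
    obtain ⟨c', rfl⟩ := hres c
    obtain ⟨⟨r, _, n, rfl⟩, hr⟩ := IsLocalization.surj (Submonoid.powers h) (c' : Γ(Spec R, D h))
    refine ⟨r, n, ?_⟩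
    rw [← res_algebraMap hle, ← res_algebraMap hle, ← show _ = algebraMap R Γ(Spec R, D h) r from hr]
    exact (map_mul ((Spec R).presheaf.map (homOfLE hle).op).hom _ _).symm
  obtain ⟨σ, hσ⟩ : ∃ σ : Γ(Spec R, U'), σ = (tilde.map ι).app U' s := ⟨_, rfl⟩
  obtain ⟨a, n, ha⟩ := hfrac σ
  have hh : h ∉ Q := hle hQU
  refine ⟨a, ?_, fun z hz => ?_⟩
  · obtain ⟨g, f, hg, hf, hf0, hdvd⟩ := hloc
    obtain ⟨k, hk, hle'⟩ := exists_D_le (show (⟨Q, hQ⟩ : PrimeSpectrum R) ∈ U' ⊓ D g from ⟨hQU, hg⟩)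
    have hG : Gen (L := tilde M) (D g) (eltSec M (D g) ⟨f, hf⟩) := gen_eltSec M g _
      (fun w => by
        obtain ⟨b, hb⟩ := hdvd w.1 w.2
        exact ⟨b, Subtype.ext (show g * w.1 = b * f by rw [hb, mul_comm])⟩)
      fun b hb => (mul_eq_zero.1 (show b * f = 0 from congrArg Subtype.val hb)).resolve_right hf0
    obtain ⟨c, hc⟩ := (hG (D k) (hle'.trans inf_le_right)).2 ((tilde M).presheaf.map (homOfLE (hle'.trans inf_le_left)).op s)
    have h1 := congrArg ((tilde.map ι).app (D k)) hc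
    rw [DCohLib.app_natural (tilde.map ι) (hle'.trans inf_le_left) s, eltSec_res] at h1
    rw [show (tilde.map ι).app (D k) (c • eltSec M (D k) ⟨f, hf⟩) = c * algebraMap R Γ(Spec R, D k) f from
      (Scheme.Modules.Hom.app_smul (tilde.map ι) _ _).trans (congrArg (fun v : Γ(tilde N, D k) => c • v) (eltSec_map M ι _ _))] at h1
    obtain ⟨⟨b, m⟩, hb⟩ := IsLocalization.surj (Submonoid.powers k) (c : Γ(Spec R, D k))
    have h2 : algebraMap R Γ(Spec R, D k) (a * m.1) = algebraMap R Γ(Spec R, D k) (b * f * h ^ n) := by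
      have e := (map_mul ((Spec R).presheaf.map (homOfLE (hle'.trans inf_le_left)).op).hom _ _).symm.trans
        (congrArg ((Spec R).presheaf.map (homOfLE (hle'.trans inf_le_left)).op).hom ha)
      rw [map_mul, map_mul, map_mul, ← hb, ← show _ = algebraMap R Γ(Spec R, D k) a from e]
      rw [show ((Spec R).presheaf.map (homOfLE (hle'.trans inf_le_left)).op).hom σ =
        c * algebraMap R Γ(Spec R, D k) f from hσ ▸ h1.symm]
      rw [show ((Spec R).presheaf.map (homOfLE (hle'.trans inf_le_left)).op).hom (algebraMap R Γ(Spec R, U') (h ^ n)) =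
        algebraMap R Γ(Spec R, D k) (h ^ n) from res_algebraMap _ _]
      ring
    haveI : Nonempty (D k : (Spec R).Opens) := ⟨⟨⟨Q, hQ⟩, hk⟩⟩
    have h3 : a * m.1 ∈ Q := injective_algebraMap_sections (R := R) (D k) h2 ▸ Q.mul_mem_right _ (Q.mul_mem_left b hf)
    refine (hQ.mem_or_mem h3).resolve_right fun hm => ?_
    obtain ⟨j, hj⟩ := m.2
    exact hk (hQ.mem_of_pow_mem j ((show k ^ j = m.1 from hj).symm ▸ hm))
  · obtain ⟨c, hc⟩ := (hs U' le_rfl).2 (eltSec M U' ⟨z, hz⟩)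
    obtain ⟨r, m, hr⟩ := hfrac c
    have h1 := congrArg ((tilde.map ι).app U') hc
    rw [eltSec_map] at h1
    have h1' : algebraMap R Γ(Spec R, U') z = c * σ :=
      hσ ▸ h1.symm.trans ((Scheme.Modules.Hom.app_smul (tilde.map ι) _ _).trans
        (congrArg (fun v : Γ(tilde M, U') => c • (tilde.map ι).app U' v)
          (ConcreteCategory.congr_hom ((tilde M).presheaf.map_id _) s)))
    refine ⟨n + m, r, hinj ?_⟩
    rw [map_mul, map_mul, pow_add, map_mul, h1', ← hr, ← ha]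
    ring

end Groth.Agent.ParaFLib
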