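import Groth.Agent.ParaFLib.Spread
import Groth.Agent.ParaFLib.Factorial
import Groth.Agent.ParaFLib.ExtendMain

/-! Invertible modules on a neighbourhood minus a point, and on punctured spectra of local rings. -/

set_option autoImplicit false
set_option linter.style.haveILetI false

universe u

open CategoryTheory AlgebraicGeometry TopologicalSpace Opposite

noncomputable section

namespace Groth.Agent.ParaFLib

/-- Compatible bases glue to a basis. -/
theorem exists_gen_of_compatible {X : Scheme.{u}} {L : X.Modules} {κ : Type u} (O : κ → X.Opens) (t : ∀ i, Γ(L, O i))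
    (ht : ∀ i, Gen (O i) (t i))
    (hc : ∀ i j, L.presheaf.map (homOfLE (inf_le_left : O i ⊓ O j ≤ O i)).op (t i) =
      L.presheaf.map (homOfLE (inf_le_right : O i ⊓ O j ≤ O j)).op (t j))
    (W : X.Opens) (hle : ∀ i, O i ≤ W) (hW : W ≤ iSup O) : ∃ s : Γ(L, W), Gen W s := by
  let F : TopCat.Sheaf Ab.{u} X.carrier := ⟨L.presheaf, L.isSheaf⟩
  obtain ⟨s, hs, -⟩ := F.existsUnique_gluing' O W (fun i => homOfLE (hle i)) hW t hc
  exact ⟨s, gen_of_cover O hle hW fun i => by rw [show L.presheaf.map (homOfLE (hle i)).op s = t i from hs i]; exact ht i⟩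

variable {R : CommRingCat.{u}} (y : PrimeSpectrum R)

theorem mem_punctured_iff (z : PrimeSpectrum (locR y)) :
    z ∈ (FEt.puncturedSpec (locR y) : (Spec (locR y)).Opens) ↔ ¬ y.asIdeal ≤ z.asIdeal.comap (algebraMap R (locR y)) := by
  constructor
  · intro hz hle
    refine hz (PrimeSpectrum.ext (le_antisymm (IsLocalRing.le_maximalIdeal z.isPrime.ne_top) ?_))
    rw [show (IsLocalRing.closedPoint (locR y)).asIdeal = IsLocalRing.maximalIdeal (locR y) from rfl,
      ← IsLocalization.AtPrime.map_eq_maximalIdeal y.asIdeal (locR y), Ideal.map_le_iff_le_comap]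
    exact hle
  · intro h hz
    refine h ?_
    rw [hz, ← Ideal.map_le_iff_le_comap, IsLocalization.AtPrime.map_eq_maximalIdeal y.asIdeal (locR y)]
    rfl

theorem comap_le_prime (z : PrimeSpectrum (locR y)) : z.asIdeal.comap (algebraMap R (locR y)) ≤ y.asIdeal :=
  fun r hr => by
    by_contra hry
    exact z.isPrime.ne_top (Ideal.eq_top_of_isUnit_mem _ hr
      ((preimage_D_eq_top.isUnit_iff_notMem_atPrime y r).2 hry))

theorem prod_notMem {κ : Type*} (s : Finset κ) (f : κ → R) (h : ∀ k ∈ s, f k ∉ y.asIdeal) :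
    ∏ k ∈ s, f k ∉ y.asIdeal :=
  (Submonoid.prod_mem y.asIdeal.primeCompl h :)

variable [IsNoetherianRing R]

/-- An invertible module on a punctured neighbourhood is trivial near `y` if those on the punctured spectrum of
the local ring are. -/
theorem exists_gen_near (hpic : ParaF.PicTrivial (FEt.puncturedSpec (locR y) : Scheme.{u}))
    {L : (Spec R).Modules} {h₀ : R} (hh₀ : h₀ ∉ y.asIdeal) (hL : LocGen L (D h₀ ⊓ nonV y.asIdeal)) :
    ∃ h : R, h ∉ y.asIdeal ∧ h₀ ∣ h ∧ ∃ s : Γ(L, D h ⊓ nonV y.asIdeal), Gen (D h ⊓ nonV y.asIdeal) s := by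
  classical
  let W : (Spec R).Opens := D h₀ ⊓ nonV y.asIdeal
  have hch : ∀ z : (W : Set (Spec R)), ∃ a : R, (z.1 : PrimeSpectrum R) ∈ D a ∧ D a ≤ W ∧ ∃ e : Γ(L, D a), Gen (D a) e := by
    intro z
    obtain ⟨V, e, hzV, he⟩ := hL z.1 z.2
    obtain ⟨a, hza, hle⟩ := exists_D_le (R := R) (show z.1 ∈ W ⊓ V from ⟨z.2, hzV⟩)
    exact ⟨a, hza, hle.trans inf_le_left, _, he.res (hle.trans inf_le_right)⟩
  choose a hza haW e₀ he₀ using hch
  obtain ⟨T, hT⟩ := (NoetherianSpace.isCompact (W : Set (Spec R))).elim_finite_subcover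
    (fun z => (D (a z) : Set (Spec R))) (fun z => (D (a z)).isOpen) fun z hz => Set.mem_iUnion.2 ⟨⟨z, hz⟩, hza _⟩
  let κ := Option T
  let U : κ → (Spec R).Opens := fun i => D (i.elim 0 fun z => a z.1)
  have hbot : (D (0 : R) : (Spec R).Opens) = ⊥ := le_bot_iff.1 fun (z : PrimeSpectrum R) hz => hz z.asIdeal.zero_mem
  have hUW : ∀ i : κ, U i ≤ W := by
    rintro (_ | z)
    · exact le_of_eq_of_le hbot bot_le
    · exact haW z.1
  have he : ∀ i : κ, ∃ e : Γ(L, U i), Gen (U i) e := by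
    rintro (_ | z)
    · exact exists_gen_of_eq hbot.symm exists_gen_bot
    · exact ⟨_, he₀ z.1⟩
  choose e he using he
  have hWU : W ≤ iSup U := fun z hz => by
    obtain ⟨w, hwT, hzw⟩ := Set.mem_iUnion₂.1 (hT hz)
    exact Opens.mem_iSup.2 ⟨some ⟨w, hwT⟩, hzw⟩
  have hη : ∀ i j : κ, ∃ η : (Γ(Spec R, U i ⊓ U j))ˣ, L.presheaf.map (homOfLE inf_le_left).op (e i) =
      (η : Γ(Spec R, U i ⊓ U j)) • L.presheaf.map (homOfLE inf_le_right).op (e j) := fun i j => by
    obtain ⟨u, hu, hue⟩ := ((he i).res inf_le_left).exists_unit ((he j).res (inf_le_right : U i ⊓ U j ≤ U j))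
    exact ⟨hu.unit, hue.symm⟩
  choose η hη using hη
  have hcoc : IsCocycle U η := by
    intro i j k
    refine ((he k) _ inf_le_right).1 ?_
    show _ • _ = (_ * _) • _
    have e₁ := congrArg (L.presheaf.map (homOfLE (inf_le_inf_right (U k) inf_le_left : U i ⊓ U j ⊓ U k ≤ U i ⊓ U k)).op) (hη i k)
    have e₂ := congrArg (L.presheaf.map (homOfLE (inf_le_left : U i ⊓ U j ⊓ U k ≤ U i ⊓ U j)).op) (hη i j)
    have e₃ := congrArg (L.presheaf.map (homOfLE (inf_le_inf_right (U k) inf_le_right : U i ⊓ U j ⊓ U k ≤ U j ⊓ U k)).op) (hη j k)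
    rw [L.map_smul, res_res, res_res] at e₁ e₂ e₃
    rw [mul_smul, ← e₃, ← e₂, ← e₁]
  -- the pullback to the local ring
  let g := locMap y
  let V : κ → (Spec (locR y)).Opens := fun i => g ⁻¹ᵁ U i
  let η' : ∀ i j : κ, (Γ(Spec (locR y), V i ⊓ V j))ˣ := fun i j => Units.map (gA y (U i ⊓ U j)).toMonoidHom (η i j)
  have hcoc' : IsCocycle V η' := by
    intro i j k
    have h := congrArg (gA y (U i ⊓ U j ⊓ U k)) (hcoc i j k)
    rw [map_mul, gA_res, gA_res, gA_res] at h
    exact h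
  obtain ⟨L', s', hs', hst'⟩ := exists_module_of_cocycle V η' hcoc'
  let P : (Spec (locR y)).Opens := FEt.puncturedSpec (locR y)
  have hVP : ∀ i, V i ≤ P := fun i (z : PrimeSpectrum (locR y)) hz => (mem_punctured_iff y z).2 (hUW i hz).2
  have hPV : P ≤ iSup V := fun (z : PrimeSpectrum (locR y)) hz => by
    have hzW : g z ∈ W := ⟨fun hm => hh₀ (comap_le_prime y z hm), (mem_punctured_iff y z).1 hz⟩
    obtain ⟨i, hi⟩ := Opens.mem_iSup.1 (hWU hzW)
    exact Opens.mem_iSup.2 ⟨i, hi⟩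
  obtain ⟨φ⟩ := hpic _ (isInvertible_restrict_of_cover L' P fun z hz => by
    obtain ⟨i, hi⟩ := Opens.mem_iSup.1 (hPV hz)
    exact ⟨V i, hi, nonempty_iso_of_gen (hs' i)⟩)
  obtain ⟨σ, hσ⟩ : ∃ σ : Γ(L', P), Gen P σ := exists_gen_of_eq P.ι_image_top (exists_gen_of_iso φ)
  choose c hc hcs using fun i => (hσ.res (hVP i)).exists_unit (hs' i)
  have hrel : ∀ i j, (Spec (locR y)).presheaf.map (homOfLE (inf_le_left : V i ⊓ V j ≤ V i)).op (c i) *
      (η' i j : Γ(Spec (locR y), V i ⊓ V j)) =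
      (Spec (locR y)).presheaf.map (homOfLE (inf_le_right : V i ⊓ V j ≤ V j)).op (c j) := fun i j => by
    refine ((hs' j) _ inf_le_right).1 ?_
    show (_ * _) • _ = _ • _
    rw [mul_smul, ← hst' i j, ← L'.map_smul, ← L'.map_smul, hcs i, hcs j, res_res, res_res]
  -- spreading out
  choose h hh C hC hCc using fun i => exists_unit_lift y (i.elim 0 fun z => a z.1) (U i) rfl (c i) (hc i)
  let H := h₀ * ∏ i, h i
  have hH : H ∉ y.asIdeal := fun hm => (y.isPrime.mem_or_mem hm).elim hh₀ (prod_notMem y _ h fun i _ => hh i)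
  have hHle : ∀ i, (D H : (Spec R).Opens) ≤ D (h i) := fun i =>
    D_le_of_dvd ((Finset.dvd_prod_of_mem h (Finset.mem_univ i)).mul_left h₀)
  have hk : ∀ i j : κ, ∃ k : R, k ∉ y.asIdeal ∧ ∀ (O : (Spec R).Opens) (hi : O ≤ D (h i) ⊓ U i) (hj : O ≤ D (h j) ⊓ U j),
      O ≤ D k → (Spec R).presheaf.map (homOfLE hi).op (C i) *
        (Spec R).presheaf.map (homOfLE (le_inf (hi.trans inf_le_right) (hj.trans inf_le_right))).op (η i j : Γ(Spec R, U i ⊓ U j))
        = (Spec R).presheaf.map (homOfLE hj).op (C j) := by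
    intro i j
    have l₁ : D H ⊓ (U i ⊓ U j) ≤ D (h i) ⊓ U i := inf_le_inf (hHle i) inf_le_left
    have l₂ : D H ⊓ (U i ⊓ U j) ≤ D (h j) ⊓ U j := inf_le_inf (hHle j) inf_le_right
    obtain ⟨k, hk, hHk, hkeq⟩ := exists_eq_gB y ((i.elim 0 fun z => a z.1) * (j.elim 0 fun z => a z.1)) hH (U i ⊓ U j)
      (PrimeSpectrum.basicOpen_mul _ _).symm
      ((Spec R).presheaf.map (homOfLE l₁).op (C i) *
        (Spec R).presheaf.map (homOfLE inf_le_right).op (η i j : Γ(Spec R, U i ⊓ U j)))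
      ((Spec R).presheaf.map (homOfLE l₂).op (C j)) (by
        rw [map_mul, gB_of_res, gB_res y (hh i) hH l₁ inf_le_left, gB_res y (hh j) hH l₂ inf_le_right, hCc i, hCc j]
        exact hrel i j)
    refine ⟨k, hk, fun O hi hj hOk => ?_⟩
    have hO : O ≤ D H ⊓ (U i ⊓ U j) :=
      le_inf (hOk.trans (D_le_of_dvd hHk)) (le_inf (hi.trans inf_le_right) (hj.trans inf_le_right))
    have h1 := hkeq O hO hOk
    change ((Spec R).presheaf.map (homOfLE hO).op).hom (_ * _) = _ at h1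
    rw [map_mul] at h1
    simp only [← ConcreteCategory.comp_apply, ← Functor.map_comp] at h1
    exact h1
  choose k hk hkeq using hk
  let K := H * ∏ p : κ × κ, k p.1 p.2
  have hK : K ∉ y.asIdeal := fun hm => (y.isPrime.mem_or_mem hm).elim hH (prod_notMem y _ _ fun p _ => hk p.1 p.2)
  refine ⟨K, hK, (dvd_mul_right _ _).trans (dvd_mul_right _ _), ?_⟩
  have lK : ∀ i, D K ⊓ U i ≤ D (h i) ⊓ U i := fun i =>
    inf_le_inf_right _ ((D_le_of_dvd (dvd_mul_right H _)).trans (hHle i))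
  refine exists_gen_of_compatible (fun i => D K ⊓ U i)
    (fun i => (Spec R).presheaf.map (homOfLE (lK i)).op (C i) • L.presheaf.map (homOfLE inf_le_right).op (e i))
    (fun i => ((he i).res inf_le_right).smul ((hC i).map _)) (fun i j => ?_) _
    (fun i => inf_le_inf_left _ ((hUW i).trans inf_le_right)) (fun z hz => ?_)
  · have hO₁ : D K ⊓ U i ⊓ (D K ⊓ U j) ≤ U i ⊓ U j := inf_le_inf inf_le_right inf_le_right
    have e1 := congrArg (L.presheaf.map (homOfLE hO₁).op) (hη i j)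
    rw [L.map_smul, res_res, res_res] at e1
    rw [L.map_smul, L.map_smul, res_res, res_res, e1, ← mul_smul]
    congr 1
    simp only [← ConcreteCategory.comp_apply, ← Functor.map_comp]
    exact hkeq i j _ (inf_le_left.trans (lK i)) (inf_le_right.trans (lK j))
      (inf_le_left.trans (inf_le_left.trans (D_le_of_dvd ((Finset.dvd_prod_of_mem (fun p : κ × κ => k p.1 p.2)
        (Finset.mem_univ (i, j))).mul_left H))))
  · have hzW : z ∈ W := ⟨D_le_of_dvd ((dvd_mul_right h₀ _).trans (dvd_mul_right H _)) hz.1, hz.2⟩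
    obtain ⟨i, hi⟩ := Opens.mem_iSup.1 (hWU hzW)
    exact Opens.mem_iSup.2 ⟨i, hz.1, hi⟩

/-- The punctured spectrum of the local ring has trivial Picard group if modules on punctured neighbourhoods
are trivial near `y`. -/
theorem picTrivial_punctured_of_gen_near
    (hext : ∀ (h : R), h ∉ y.asIdeal → ∀ M : (Spec R).Modules, LocGen M (D h ⊓ nonV y.asIdeal) →
      ∃ k : R, k ∉ y.asIdeal ∧ ∃ s : Γ(M, D k ⊓ nonV y.asIdeal), Gen (D k ⊓ nonV y.asIdeal) s) :
    ParaF.PicTrivial (FEt.puncturedSpec (locR y) : Scheme.{u}) := by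
  classical
  haveI : IsNoetherianRing (locR y) := IsLocalization.isNoetherianRing y.asIdeal.primeCompl (locR y) inferInstance
  intro L₀ hL₀
  let φ := algebraMap R (locR y)
  let g := locMap y
  let P : (Spec (locR y)).Opens := FEt.puncturedSpec (locR y)
  let M' : (Spec (locR y)).Modules := (Scheme.Modules.pushforward P.ι).obj L₀
  have hM' : LocGen M' P := locGen_pushforward P hL₀
  have hch : ∀ z : (P : Set (Spec (locR y))), ∃ a : R, (g z.1 : PrimeSpectrum R) ∈ D a ∧ a ∈ y.asIdeal ∧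
      ∃ e : Γ(M', g ⁻¹ᵁ D a), Gen (g ⁻¹ᵁ D a) e := by
    intro z
    obtain ⟨V, e, hzV, he⟩ := hM' z.1 z.2
    obtain ⟨b, hzb, hle⟩ := exists_D_le (R := locR y) (show z.1 ∈ P ⊓ V from ⟨z.2, hzV⟩)
    obtain ⟨⟨r, t⟩, hrt⟩ := IsLocalization.surj y.asIdeal.primeCompl b
    have ht : IsUnit (φ t.1) := IsLocalization.map_units (locR y) t
    have hD : ∀ w : PrimeSpectrum (locR y), w ∈ (g ⁻¹ᵁ D r : (Spec (locR y)).Opens) ↔ w ∈ D (R := locR y) b := by
      intro w
      show φ r ∉ w.asIdeal ↔ b ∉ w.asIdeal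
      rw [← show _ = φ r from hrt]
      exact ⟨fun h hb => h (w.asIdeal.mul_mem_right _ hb), fun h hm => (w.isPrime.mem_or_mem hm).elim h
        fun hu => w.isPrime.ne_top (Ideal.eq_top_of_isUnit_mem _ hu ht)⟩
    have hle' : g ⁻¹ᵁ D r ≤ P ⊓ V := fun w hw => hle ((hD w).1 hw)
    refine ⟨r, (hD z.1).2 hzb, ?_, _, he.res (hle'.trans inf_le_right)⟩
    by_contra hr
    exact (hle' (show (IsLocalRing.closedPoint (locR y) : PrimeSpectrum (locR y)) ∈ g ⁻¹ᵁ D r from
      (preimage_D_eq_top y hr).ge (Opens.mem_top _))).1 rfl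
  choose a hza hay e₀ he₀ using hch
  obtain ⟨T, hT⟩ := (NoetherianSpace.isCompact (P : Set (Spec (locR y)))).elim_finite_subcover
    (fun z => ((g ⁻¹ᵁ D (a z) : (Spec (locR y)).Opens) : Set (Spec (locR y)))) (fun z => (g ⁻¹ᵁ D (a z)).isOpen)
    fun z hz => Set.mem_iUnion.2 ⟨⟨z, hz⟩, (hza ⟨z, hz⟩ : _)⟩
  let κ := Option T
  let A : κ → R := fun i => i.elim 0 fun z => a z.1
  let U : κ → (Spec R).Opens := fun i => D (A i)
  let V : κ → (Spec (locR y)).Opens := fun i => g ⁻¹ᵁ U i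
  have hA : ∀ i, A i ∈ y.asIdeal := by
    rintro (_ | z)
    · exact y.asIdeal.zero_mem
    · exact hay z.1
  have hVP : ∀ i, V i ≤ P := fun i (z : PrimeSpectrum (locR y)) hz =>
    (mem_punctured_iff y z).2 fun hle => hz (hle (hA i))
  have hPV : P ≤ iSup V := fun z hz => by
    obtain ⟨w, hwT, hzw⟩ := Set.mem_iUnion₂.1 (hT hz)
    exact Opens.mem_iSup.2 ⟨some ⟨w, hwT⟩, hzw⟩
  have he : ∀ i : κ, ∃ e : Γ(M', V i), Gen (V i) e := by
    rintro (_ | z)
    · refine exists_gen_of_eq (le_bot_iff.1 fun w hw => ?_).symm exists_gen_bot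
      exact absurd (Ideal.zero_mem _ : (0 : R) ∈ (g w : PrimeSpectrum R).asIdeal) hw
    · exact ⟨_, he₀ z.1⟩
  choose e he using he
  choose η hηu hη using fun i j =>
    ((he i).res inf_le_left).exists_unit ((he j).res (inf_le_right : V i ⊓ V j ≤ V j))
  choose h hh E hE hEη using fun i j => exists_unit_lift y (A i * A j) (U i ⊓ U j)
    (PrimeSpectrum.basicOpen_mul _ _).symm (η i j) (hηu i j)
  let H := ∏ p : κ × κ, h p.1 p.2
  have hH : H ∉ y.asIdeal := prod_notMem y _ _ fun p _ => hh p.1 p.2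
  have hHle : ∀ i j, (D H : (Spec R).Opens) ≤ D (h i j) := fun i j =>
    D_le_of_dvd (Finset.dvd_prod_of_mem (fun p : κ × κ => h p.1 p.2) (Finset.mem_univ (i, j)))
  have hk : ∀ i j l : κ, ∃ k : R, k ∉ y.asIdeal ∧ ∀ (O : (Spec R).Opens) (h₁ : O ≤ D (h i l) ⊓ (U i ⊓ U l))
      (h₂ : O ≤ D (h i j) ⊓ (U i ⊓ U j)) (h₃ : O ≤ D (h j l) ⊓ (U j ⊓ U l)), O ≤ D k →
      (Spec R).presheaf.map (homOfLE h₁).op (E i l) =
        (Spec R).presheaf.map (homOfLE h₂).op (E i j) * (Spec R).presheaf.map (homOfLE h₃).op (E j l) := by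
    intro i j l
    have l₁ : D H ⊓ (U i ⊓ U j ⊓ U l) ≤ D (h i l) ⊓ (U i ⊓ U l) :=
      inf_le_inf (hHle i l) (inf_le_inf_right _ inf_le_left)
    have l₂ : D H ⊓ (U i ⊓ U j ⊓ U l) ≤ D (h i j) ⊓ (U i ⊓ U j) := inf_le_inf (hHle i j) inf_le_left
    have l₃ : D H ⊓ (U i ⊓ U j ⊓ U l) ≤ D (h j l) ⊓ (U j ⊓ U l) :=
      inf_le_inf (hHle j l) (inf_le_inf_right _ inf_le_right)
    obtain ⟨k, hk, hHk, hkeq⟩ := exists_eq_gB y (A i * A j * A l) hH (U i ⊓ U j ⊓ U l)
      ((congrArg (· ⊓ U l) (PrimeSpectrum.basicOpen_mul (A i) (A j)).symm).trans (PrimeSpectrum.basicOpen_mul _ _).symm)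
      ((Spec R).presheaf.map (homOfLE l₁).op (E i l))
      ((Spec R).presheaf.map (homOfLE l₂).op (E i j) * (Spec R).presheaf.map (homOfLE l₃).op (E j l)) (by
        rw [map_mul, gB_res y (hh i l) hH l₁ (inf_le_inf_right _ inf_le_left), gB_res y (hh i j) hH l₂ inf_le_left,
          gB_res y (hh j l) hH l₃ (inf_le_inf_right _ inf_le_right), hEη, hEη, hEη]
        refine ((he l) (V i ⊓ V j ⊓ V l) inf_le_right).1 ?_
        show _ • _ = (_ * _) • _
        have e₁ := congrArg (M'.presheaf.map (homOfLE (inf_le_inf_right (V l) inf_le_left : V i ⊓ V j ⊓ V l ≤ V i ⊓ V l)).op) (hη i l)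
        have e₂ := congrArg (M'.presheaf.map (homOfLE (inf_le_left : V i ⊓ V j ⊓ V l ≤ V i ⊓ V j)).op) (hη i j)
        have e₃ := congrArg (M'.presheaf.map (homOfLE (inf_le_inf_right (V l) inf_le_right : V i ⊓ V j ⊓ V l ≤ V j ⊓ V l)).op) (hη j l)
        rw [M'.map_smul, res_res, res_res] at e₁ e₂ e₃
        exact e₁.trans (e₂.symm.trans ((congrArg _ e₃.symm).trans (mul_smul _ _ _).symm)))
    refine ⟨k, hk, fun O h₁ h₂ h₃ hOk => ?_⟩
    have hO : O ≤ D H ⊓ (U i ⊓ U j ⊓ U l) := le_inf (hOk.trans (D_le_of_dvd hHk))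
      (le_inf (h₂.trans inf_le_right) (h₁.trans (inf_le_right.trans inf_le_right)))
    have h1 := hkeq O hO hOk
    change _ = ((Spec R).presheaf.map (homOfLE hO).op).hom (_ * _) at h1
    rw [map_mul] at h1
    simp only [← ConcreteCategory.comp_apply, ← Functor.map_comp] at h1
    exact h1
  choose k hk hkeq using hk
  -- the cover of a punctured neighbourhood
  let J : Ideal R := Ideal.span (Set.range A)
  have hfin := Ideal.finite_minimalPrimes_of_isNoetherianRing R J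
  let outer := hfin.toFinset.filter (fun q => ¬ q ≤ y.asIdeal)
  obtain ⟨o, hoJ, hoy⟩ := SetLike.not_le_iff_exists.1 (fun hle : outer.inf id ≤ y.asIdeal => by
    obtain ⟨q, hq, hqy⟩ := (y.isPrime.inf_le' (s := outer) (f := id)).1 hle
    exact (Finset.mem_filter.1 hq).2 hqy)
  let H' := o * (H * ∏ p : κ × κ × κ, k p.1 p.2.1 p.2.2)
  have hH' : H' ∉ y.asIdeal := fun hm => (y.isPrime.mem_or_mem hm).elim hoy fun hm' =>
    (y.isPrime.mem_or_mem hm').elim hH (prod_notMem y _ _ fun p _ => hk p.1 p.2.1 p.2.2)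
  have hH'H : (D H' : (Spec R).Opens) ≤ D H := D_le_of_dvd ((dvd_mul_right H _).mul_left o)
  let G : κ → (Spec R).Opens := fun i => D H' ⊓ U i
  have lG : ∀ i j, G i ⊓ G j ≤ D (h i j) ⊓ (U i ⊓ U j) := fun i j =>
    le_inf (inf_le_left.trans (inf_le_left.trans (hH'H.trans (hHle i j)))) (inf_le_inf inf_le_right inf_le_right)
  have hEu : ∀ i j, IsUnit ((Spec R).presheaf.map (homOfLE (lG i j)).op (E i j)) := fun i j => (hE i j).map _
  have hcoc : IsCocycle G (fun i j => (hEu i j).unit) := by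
    intro i j l
    simp only [IsUnit.unit_spec, ← ConcreteCategory.comp_apply, ← Functor.map_comp]
    exact hkeq i j l _ ((inf_le_inf_right (G l) inf_le_left).trans (lG i l)) (inf_le_left.trans (lG i j))
      ((inf_le_inf_right (G l) inf_le_right).trans (lG j l))
      (inf_le_left.trans (inf_le_left.trans (inf_le_left.trans (D_le_of_dvd
        (((Finset.dvd_prod_of_mem (fun p : κ × κ × κ => k p.1 p.2.1 p.2.2)
          (Finset.mem_univ (i, j, l))).mul_left H).mul_left o)))))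
  obtain ⟨M, s, hs, hst⟩ := exists_module_of_cocycle G _ hcoc
  have hcov : D H' ⊓ nonV y.asIdeal ≤ iSup G := fun (z : PrimeSpectrum R) hz => by
    suffices hJ : ¬ J ≤ z.asIdeal by
      rw [Ideal.span_le, Set.range_subset_iff] at hJ
      push Not at hJ
      obtain ⟨i, hi⟩ := hJ
      exact Opens.mem_iSup.2 ⟨i, hz.1, hi⟩
    intro hJ
    obtain ⟨q, hq, hqz⟩ := Ideal.exists_minimalPrimes_le hJ
    by_cases hqy : q ≤ y.asIdeal
    · refine hz.2 ?_
      by_contra hyz
      haveI := hq.1.1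
      have hdisj : Disjoint (y.asIdeal.primeCompl : Set R) q := Set.disjoint_left.2 fun r hr hrq => hr (hqy hrq)
      have hP := IsLocalization.isPrime_of_isPrime_disjoint y.asIdeal.primeCompl (locR y) q hq.1.1 hdisj
      have hcm := IsLocalization.comap_map_of_isPrime_disjoint y.asIdeal.primeCompl (locR y) hq.1.1 hdisj
      let w : PrimeSpectrum (locR y) := ⟨q.map (algebraMap R (locR y)), hP⟩
      have hwP : w ∈ P := (mem_punctured_iff y w).2 fun hle => hyz ((hle.trans hcm.le).trans hqz)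
      obtain ⟨i, hi⟩ := Opens.mem_iSup.1 (hPV hwP)
      exact hi (Ideal.mem_map_of_mem _ (hq.1.2 (Ideal.subset_span ⟨i, rfl⟩)))
    · have hoq : o ∈ q := (Finset.inf_le (f := id) (Finset.mem_filter.2 ⟨hfin.mem_toFinset.2 hq, hqy⟩) :
        outer.inf id ≤ q) hoJ
      exact hz.1 (z.asIdeal.mul_mem_right _ (hqz hoq))
  obtain ⟨m, hm, σ, hσ⟩ := hext H' hH' M fun z hz => by
    obtain ⟨i, hi⟩ := Opens.mem_iSup.1 (hcov hz)
    exact ⟨G i, s i, hi, hs i⟩
  let K := m * H'
  have hK : K ∉ y.asIdeal := fun hmem => (y.isPrime.mem_or_mem hmem).elim hm hH'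
  have hKσ : ∀ i, D K ⊓ U i ≤ D m ⊓ nonV y.asIdeal := fun i =>
    inf_le_inf (D_le_of_dvd (dvd_mul_right m H')) fun (z : PrimeSpectrum R) hz hle => hz (hle (hA i))
  have hKG : ∀ i, D K ⊓ U i ≤ G i := fun i => inf_le_inf_right _ (D_le_of_dvd (dvd_mul_left H' m))
  choose C hC hCs using fun i => (hσ.res (hKσ i)).exists_unit ((hs i).res (hKG i))
  have hrel : ∀ i j, (Spec (locR y)).presheaf.map (homOfLE (inf_le_left : V i ⊓ V j ≤ V i)).op (gB y hK (U i) (C i)) * η i j
      = (Spec (locR y)).presheaf.map (homOfLE (inf_le_right : V i ⊓ V j ≤ V j)).op (gB y hK (U j) (C j)) := by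
    intro i j
    have l₁ : D K ⊓ (U i ⊓ U j) ≤ D K ⊓ U i := inf_le_inf_left _ inf_le_left
    have l₂ : D K ⊓ (U i ⊓ U j) ≤ D K ⊓ U j := inf_le_inf_left _ inf_le_right
    have l₃ : D K ⊓ (U i ⊓ U j) ≤ G i ⊓ G j := le_inf (l₁.trans (hKG i)) (l₂.trans (hKG j))
    have hR : (Spec R).presheaf.map (homOfLE l₁).op (C i) * (Spec R).presheaf.map (homOfLE (l₃.trans (lG i j))).op (E i j)
        = (Spec R).presheaf.map (homOfLE l₂).op (C j) := by
      refine (hs j _ (l₂.trans (hKG j))).1 ?_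
      show (_ * _) • _ = _ • _
      have e₁ := congrArg (M.presheaf.map (homOfLE l₁).op) (hCs i)
      have e₂ := congrArg (M.presheaf.map (homOfLE l₂).op) (hCs j)
      have e₃ := congrArg (M.presheaf.map (homOfLE l₃).op) (hst i j)
      rw [M.map_smul, res_res, res_res] at e₁ e₂ e₃
      simp only [IsUnit.unit_spec, ← ConcreteCategory.comp_apply, ← Functor.map_comp] at e₃
      rw [mul_smul]
      exact ((congrArg _ e₃).symm.trans e₁).trans e₂.symm
    have := congrArg (gB y hK (U i ⊓ U j)) hR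
    rw [map_mul, gB_res y hK hK l₁ inf_le_left, gB_res y hK hK l₂ inf_le_right,
      gB_res y (hh i j) hK (l₃.trans (lG i j)) le_rfl, hEη] at this
    refine Eq.trans (congrArg (_ * ·) ?_) this
    exact (ConcreteCategory.congr_hom ((Spec (locR y)).presheaf.map_id _) _).symm
  obtain ⟨τ, hτ⟩ := exists_gen_of_compatible V (fun i => gB y hK (U i) (C i) • e i)
    (fun i => (he i).smul ((hC i).map _)) (fun i j => by
      rw [M'.map_smul, M'.map_smul, ← hη i j, ← mul_smul, hrel]) P hVP hPV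
  obtain ⟨ψ⟩ := nonempty_iso_of_gen hτ
  exact ⟨(asIso ((Scheme.Modules.restrictAdjunction P.ι).counit.app L₀)).symm ≪≫ ψ⟩

end Groth.Agent.ParaFLib
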