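import Groth.Agent.ParaFLib.GenExt
import Groth.Agent.ParaFLib.Cocycle
import Groth.Agent.ParaFLib.Glue
import Groth.Agent.ParaFLib.Stalk

/-! Extension of invertible modules over schemes with factorial local rings. -/

set_option autoImplicit false
set_option linter.style.haveILetI false

universe u

open CategoryTheory AlgebraicGeometry TopologicalSpace Opposite

noncomputable section

namespace Groth.Agent.ParaFLib

/-- Local bases on an open. -/
def LocGen {X : Scheme.{u}} (L : X.Modules) (W : X.Opens) : Prop :=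
  ∀ x ∈ W, ∃ (V : X.Opens) (e : Γ(L, V)), x ∈ V ∧ Gen V e

theorem gen_restrict_iff {Z X : Scheme.{u}} (i : Z ⟶ X) [IsOpenImmersion i] {L : X.Modules} {W : Z.Opens}
    (s : Γ(L, i ''ᵁ W)) : Gen (L := L.restrict i) W s ↔ Gen (i ''ᵁ W) s := by
  have key : ∀ (a : Z.Opens) (ha : a ≤ W),
      (fun r : Γ(Z, a) => r • (L.restrict i).presheaf.map (homOfLE ha).op s) =
      (fun r : Γ(X, i ''ᵁ a) => r • L.presheaf.map (homOfLE (i.image_mono ha)).op s) ∘
        fun r : Γ(Z, a) => (i.appIso a).inv r := fun a ha => funext fun r => rfl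
  constructor
  · intro h O hO
    obtain ⟨a, rfl⟩ : ∃ a : Z.Opens, i ''ᵁ a = O := ⟨i ⁻¹ᵁ O, by
      rw [Scheme.Hom.image_preimage_eq_opensRange_inf, inf_eq_right.2]
      exact fun y hy => by obtain ⟨z, -, rfl⟩ := hO hy; exact ⟨z, rfl⟩⟩
    have ha : a ≤ W := fun z hz => by
      obtain ⟨z', hz', e⟩ := hO ⟨z, hz, rfl⟩
      exact i.isOpenEmbedding.injective e ▸ hz'
    have h' : Function.Bijective fun r : Γ(Z, a) => r • (L.restrict i).presheaf.map (homOfLE ha).op s := h a ha
    rw [key a ha] at h'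
    exact (Function.Bijective.of_comp_iff _ (ConcreteCategory.bijective_of_isIso (i.appIso a).inv)).1 h'
  · intro h a ha
    rw [key a ha]
    exact (h _ (i.image_mono ha)).comp (ConcreteCategory.bijective_of_isIso (i.appIso a).inv)

theorem exists_gen_of_eq {X : Scheme.{u}} {L : X.Modules} {A B : X.Opens} (e : A = B)
    (h : ∃ s : Γ(L, A), Gen A s) : ∃ s : Γ(L, B), Gen B s := e ▸ h

section Domain

variable {R : CommRingCat.{u}} [IsDomain R] [IsNoetherianRing R]

/-- Extend a basis across finitely many prime elements. -/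
theorem exists_gen_of_primes {L : (Spec R).Modules} (qs : List R) (hqs : ∀ q ∈ qs, Prime q)
    (W : (Spec R).Opens) (hL : LocGen L W) (h : ∃ s : Γ(L, W ⊓ D qs.prod), Gen (W ⊓ D qs.prod) s) :
    ∃ s : Γ(L, W), Gen W s := by
  induction qs generalizing W with
  | nil =>
    refine exists_gen_of_eq ?_ h
    rw [List.prod_nil]
    exact inf_eq_left.2 fun (z : PrimeSpectrum R) _ h1 => z.isPrime.one_notMem h1
  | cons q qs ih =>
    refine ih (fun p hp => hqs p (List.mem_cons_of_mem q hp)) W hL ?_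
    refine exists_gen_of_prime (hqs q List.mem_cons_self) _ (fun z hz => hL z hz.1) (exists_gen_of_eq ?_ h)
    rw [List.prod_cons, inf_assoc, inf_comm (D qs.prod)]
    exact congrArg (W ⊓ ·) (PrimeSpectrum.basicOpen_mul q qs.prod)

omit [IsDomain R] in
/-- Near a point with factorial local ring, the zeros of an element lie on finitely many prime elements. -/
theorem exists_primes_away [IsDomain R] (y : PrimeSpectrum R)
    (hy : UniqueFactorizationMonoid ((Spec.structureSheaf R).presheaf.stalk y)) (f : R) (hf : f ≠ 0) :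
    ∃ h : R, h ∉ y.asIdeal ∧ h ≠ 0 ∧ ∃ qs : List (Localization.Away h), (∀ q ∈ qs, Prime q) ∧
      ∀ z : PrimeSpectrum (Localization.Away h),
        algebraMap R (Localization.Away h) f ∈ z.asIdeal → ∃ q ∈ qs, q ∈ z.asIdeal := by
  classical
  have hfin := Ideal.finite_minimalPrimes_of_isNoetherianRing R (Ideal.span {f})
  let inner := hfin.toFinset.filter (fun Q => Q ≤ y.asIdeal)
  let outer := hfin.toFinset.filter (fun Q => ¬ Q ≤ y.asIdeal)
  have hsel : ∀ Q ∈ inner, ∃ g f' : R, g ∉ y.asIdeal ∧ f' ∈ Q ∧ f' ≠ 0 ∧ ∀ z ∈ Q, f' ∣ g * z :=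
    fun Q hQ => exists_local_generator f hf Q (hfin.mem_toFinset.1 (Finset.mem_filter.1 hQ).1) y hy
  choose! g f' hgy hf'Q hf'0 hdvd using hsel
  have hJ : ¬ outer.inf id ≤ y.asIdeal := fun hle => by
    obtain ⟨Q, hQ, hQy⟩ := (y.isPrime.inf_le' (s := outer) (f := id)).1 hle
    exact (Finset.mem_filter.1 hQ).2 hQy
  obtain ⟨o, hoJ, hoy⟩ := SetLike.not_le_iff_exists.1 hJ
  let h := o * ∏ Q ∈ inner, g Q
  have hhy : h ∉ y.asIdeal := fun hm => (y.isPrime.mem_or_mem hm).elim hoy
    (Submonoid.prod_mem y.asIdeal.primeCompl hgy :)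
  have hh0 : h ≠ 0 := fun h0 => hhy (h0.symm ▸ y.asIdeal.zero_mem)
  let T := Localization.Away h
  haveI : IsDomain T := IsLocalization.Away.isDomain T hh0
  have hinjT : Function.Injective (algebraMap R T) :=
    IsLocalization.injective T (powers_le_nonZeroDivisors_of_noZeroDivisors hh0)
  have hu : IsUnit (algebraMap R T h) := IsLocalization.Away.algebraMap_isUnit h
  refine ⟨h, hhy, hh0, inner.toList.map (fun Q => algebraMap R T (f' Q)), ?_, ?_⟩
  · intro q hq
    obtain ⟨Q, hQ, rfl⟩ := List.mem_map.1 hq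
    rw [Finset.mem_toList] at hQ
    have hQmem := hfin.mem_toFinset.1 (Finset.mem_filter.1 hQ).1
    have hQy := (Finset.mem_filter.1 hQ).2
    have hspan : Q.map (algebraMap R T) = Ideal.span {algebraMap R T (f' Q)} := by
      refine le_antisymm (Ideal.map_le_iff_le_comap.2 fun z hz => ?_)
        ((Ideal.span_singleton_le_iff_mem _).2 (Ideal.mem_map_of_mem _ (hf'Q Q hQ)))
      have hd := map_dvd (algebraMap R T) (hdvd Q hQ z hz)
      rw [map_mul] at hd
      have hgu : IsUnit (algebraMap R T (g Q)) := isUnit_of_dvd_unit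
        (map_dvd (algebraMap R T) (((Finset.dvd_prod_of_mem g hQ).mul_left o) : g Q ∣ h)) hu
      exact Ideal.mem_span_singleton.2 ((hgu.dvd_mul_left).1 hd)
    have hdisj : Disjoint (Submonoid.powers h : Set R) Q := Set.disjoint_left.2 fun r hr hrQ => by
      obtain ⟨n, rfl⟩ := hr
      exact hhy (hQy (hQmem.1.1.mem_of_pow_mem n hrQ))
    have hprime := IsLocalization.isPrime_of_isPrime_disjoint (Submonoid.powers h) T Q hQmem.1.1 hdisj
    exact (Ideal.span_singleton_prime ((map_ne_zero_iff _ hinjT).2 (hf'0 Q hQ))).1 (hspan ▸ hprime)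
  · intro z hz
    obtain ⟨Q, hQ, hQz⟩ := Ideal.exists_minimalPrimes_le (I := Ideal.span {f})
      (J := z.asIdeal.comap (algebraMap R T)) ((Ideal.span_singleton_le_iff_mem _).2 hz)
    by_cases hQy : Q ≤ y.asIdeal
    · have hQi : Q ∈ inner := Finset.mem_filter.2 ⟨hfin.mem_toFinset.2 hQ, hQy⟩
      exact ⟨_, List.mem_map.2 ⟨Q, Finset.mem_toList.2 hQi, rfl⟩, hQz (hf'Q Q hQi)⟩
    · have hoQ : o ∈ Q := (Finset.inf_le (f := id) (Finset.mem_filter.2 ⟨hfin.mem_toFinset.2 hQ, hQy⟩) :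
        outer.inf id ≤ Q) hoJ
      have hm : algebraMap R T h ∈ z.asIdeal := hQz (Q.mul_mem_right _ hoQ)
      exact absurd (Ideal.eq_top_of_isUnit_mem z.asIdeal hm hu) z.isPrime.ne_top

end Domain

variable {X : Scheme.{u}}

/-- An invertible module on an open becomes trivial on a neighbourhood of any point. -/
theorem exists_gen_nhd_inf [IsIntegral X] [IsLocallyNoetherian X]
    (hufd : ∀ x : X, UniqueFactorizationMonoid (X.presheaf.stalk x)) {L : X.Modules} {U : X.Opens}
    (hL : LocGen L U) (x : X) :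
    ∃ (V : X.Opens), x ∈ V ∧ ∃ s : Γ(L, U ⊓ V), Gen (U ⊓ V) s := by
  classical
  by_cases hU : U = ⊥
  · subst hU
    exact ⟨⊤, trivial, exists_gen_of_eq (bot_inf_eq _).symm exists_gen_bot⟩
  obtain ⟨_, ⟨A : X.Opens, hA, rfl⟩, hxA, -⟩ :=
    X.isBasis_affineOpens.exists_subset_of_mem_open (Set.mem_univ x) isOpen_univ
  let R : CommRingCat.{u} := Γ(X, A)
  haveI : IsNoetherianRing R := IsLocallyNoetherian.component_noetherian ⟨A, hA⟩
  haveI : Nonempty A := ⟨⟨x, hxA⟩⟩
  haveI : IsDomain R := inferInstanceAs (IsDomain Γ(X, A))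
  let i : Spec R ⟶ X := hA.fromSpec
  haveI : IsOpenImmersion i := hA.isOpenImmersion_fromSpec
  obtain ⟨y, rfl⟩ : ∃ y : PrimeSpectrum R, i y = x := hA.range_fromSpec.ge hxA
  let η : PrimeSpectrum R := ⟨⊥, Ideal.isPrime_bot⟩
  -- a basic open of `U` with a basis
  obtain ⟨z, hzU, hzA⟩ := nonempty_preirreducible_inter U.isOpen A.isOpen
    (Set.nonempty_iff_ne_empty.2 fun h => hU (SetLike.coe_injective h)) ⟨i y, hxA⟩
  obtain ⟨z', rfl⟩ : ∃ z' : PrimeSpectrum R, i z' = z := hA.range_fromSpec.ge hzA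
  obtain ⟨V₀, e₀, hzV₀, he₀⟩ := hL (i z') hzU
  obtain ⟨f, hzf, hfle⟩ := exists_D_le (R := R) (show z' ∈ (i ⁻¹ᵁ (U ⊓ V₀)) from ⟨hzU, hzV₀⟩)
  have hf0 : f ≠ 0 := fun h => hzf (h ▸ z'.asIdeal.zero_mem)
  have hstalk : UniqueFactorizationMonoid ((Spec.structureSheaf R).presheaf.stalk y) :=
    ((asIso (i.stalkMap (show ↥(Spec R) from y))).commRingCatIsoToRingEquiv.toMulEquiv).uniqueFactorizationMonoid (hufd _)
  obtain ⟨h, hhy, hh0, qs, hqs, hcov⟩ := exists_primes_away y hstalk f hf0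
  let T : CommRingCat.{u} := CommRingCat.of (Localization.Away h)
  haveI : IsDomain T := IsLocalization.Away.isDomain (Localization.Away h) hh0
  haveI : IsNoetherianRing T := IsLocalization.isNoetherianRing (Submonoid.powers h) (Localization.Away h) inferInstance
  let j : Spec T ⟶ Spec R := Spec.map (CommRingCat.ofHom (algebraMap R (Localization.Away h)))
  haveI : IsOpenImmersion j := IsOpenImmersion.of_isLocalization h
  let k : Spec T ⟶ X := j ≫ i
  obtain ⟨y', hy'⟩ : ∃ y' : PrimeSpectrum T, j y' = y :=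
    (PrimeSpectrum.localization_away_comap_range (Localization.Away h) h).ge hhy
  let W : (Spec T).Opens := k ⁻¹ᵁ U
  have hLW : LocGen (L.restrict k) W := fun w hw => by
    obtain ⟨V, e, hwV, he⟩ := hL (k w) hw
    exact ⟨k ⁻¹ᵁ V, _, hwV, (gen_restrict_iff k _).2 (he.res (k.image_preimage_le V))⟩
  have hle : k ''ᵁ (W ⊓ D (R := T) qs.prod) ≤ V₀ := by
    rintro _ ⟨w, hw, rfl⟩
    suffices hwf : j w ∈ (D f : (Spec R).Opens) from (hfle hwf).2
    intro hmem
    obtain ⟨q, hq, hqw⟩ := hcov w hmem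
    exact hw.2 (Ideal.mem_of_dvd _ (List.dvd_prod hq) hqw)
  obtain ⟨s, hs⟩ := exists_gen_of_primes (R := T) (L := L.restrict k) qs hqs W hLW
    ⟨_, (gen_restrict_iff k _).2 (he₀.res hle)⟩
  refine ⟨k.opensRange, ⟨y', ?_⟩, exists_gen_of_eq ?_ ⟨_, (gen_restrict_iff k s).1 hs⟩⟩
  · show i (j y') = i y
    rw [hy']
  · rw [Scheme.Hom.image_preimage_eq_opensRange_inf, inf_comm]

/-- Gluing a basis on an open to an invertible module on another. -/
theorem exists_glue_basis (V D' : X.Opens) (hVD : V ⊔ D' = ⊤) {L : X.Modules} (hL : LocGen L V)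
    (h : ∃ s : Γ(L, V ⊓ D'), Gen (V ⊓ D') s) :
    ∃ L' : X.Modules, PicF.IsInvertible L' ∧ Nonempty (L'.restrict V.ι ≅ L.restrict V.ι) := by
  classical
  let κ := Option {x : X // x ∈ V}
  choose Vx ex hxV hex using fun x : {x : X // x ∈ V} => hL x.1 x.2
  let U : κ → X.Opens := fun i => i.elim D' fun x => V ⊓ Vx x
  have hb : ∀ i : κ, ∃ b : Γ(L, U i ⊓ V), Gen (U i ⊓ V) b := by
    rintro (_ | x)
    · exact exists_gen_of_eq (inf_comm V D') h
    · exact ⟨_, (hex x).res (inf_le_left.trans inf_le_right)⟩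
  choose b hbG using hb
  have hsub : ∀ i j : κ, i ≠ j → U i ⊓ U j ≤ V := by
    rintro (_ | x) (_ | x') hne
    · exact absurd rfl hne
    · exact inf_le_right.trans inf_le_left
    · exact inf_le_left.trans inf_le_left
    · exact inf_le_left.trans inf_le_left
  have hη : ∀ i j : κ, ∃ η : (Γ(X, U i ⊓ U j))ˣ, (i = j → η = 1) ∧
      ∀ (O : X.Opens) (h : O ≤ U i ⊓ U j) (hOV : O ≤ V),
        L.presheaf.map (homOfLE (le_inf (h.trans inf_le_left) hOV)).op (b i) =
          X.presheaf.map (homOfLE h).op (η : Γ(X, U i ⊓ U j)) •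
            L.presheaf.map (homOfLE (le_inf (h.trans inf_le_right) hOV)).op (b j) := by
    intro i j
    by_cases hij : i = j
    · subst hij
      exact ⟨1, fun _ => rfl, fun O h hOV => by rw [Units.val_one, map_one, one_smul]⟩
    · obtain ⟨a, ha, hab⟩ := ((hbG i).res (le_inf inf_le_left (hsub i j hij) : U i ⊓ U j ≤ U i ⊓ V)).exists_unit
        ((hbG j).res (le_inf inf_le_right (hsub i j hij) : U i ⊓ U j ≤ U j ⊓ V))
      refine ⟨ha.unit, fun e => absurd e hij, fun O h hOV => ?_⟩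
      have := congrArg (L.presheaf.map (homOfLE h).op) hab
      rw [L.map_smul, res_res, res_res] at this
      rw [IsUnit.unit_spec]
      exact this.symm
  choose η hη1 hη2 using hη
  have hcoc : IsCocycle U η := by
    intro i j k
    by_cases hle : U i ⊓ U j ⊓ U k ≤ V
    · refine (hbG k _ (le_inf inf_le_right hle)).1 ?_
      show _ • _ = _ • _
      rw [mul_smul, ← hη2 i k (U i ⊓ U j ⊓ U k) (inf_le_inf_right (U k) inf_le_left) hle,
        ← hη2 j k (U i ⊓ U j ⊓ U k) (inf_le_inf_right (U k) inf_le_right) hle,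
        ← hη2 i j (U i ⊓ U j ⊓ U k) inf_le_left hle]
    · have hij : i = j := by_contra fun h => hle (inf_le_left.trans (hsub i j h))
      subst hij
      have hjk : i = k := by_contra fun h => hle ((inf_le_inf_right (U k) inf_le_left).trans (hsub i k h))
      subst hjk
      simp only [hη1 i i rfl, Units.val_one, map_one, one_mul]
  have hU : iSup U = ⊤ := top_le_iff.1 fun x _ => by
    rcases (hVD.ge (Opens.mem_top x) : x ∈ V ⊔ D') with hx | hx
    · exact Opens.mem_iSup.2 ⟨some ⟨x, hx⟩, hx, hxV _⟩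
    · exact Opens.mem_iSup.2 ⟨none, hx⟩
  obtain ⟨L', s, hL', hs, hst⟩ := exists_invertible_of_cocycle U η hU hcoc
  let N := (Scheme.Modules.pushforward V.ι).obj (L.restrict V.ι)
  let u : L ⟶ N := (Scheme.Modules.restrictAdjunction V.ι).unit.app L
  have hbij : ∀ O : X.Opens, Bij N O (O ⊓ V) := fun O => by
    have := (isClosed'_iff V.ι N).1 (isClosed'_pushforward V.ι (L.restrict V.ι)) O
    rwa [Scheme.Hom.image_preimage_eq_opensRange_inf, Scheme.Opens.opensRange_ι, inf_comm] at this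
  have ht : ∀ i, ∃ t : Γ(N, U i), N.presheaf.map (homOfLE inf_le_left).op t = u.app (U i ⊓ V) (b i) :=
    fun i => (hbij (U i) inf_le_left).2 _
  choose t ht using ht
  obtain ⟨φ, hφ⟩ := exists_hom_of_bases (L := L') (L' := N) (t := t) hU hs (fun i j => (η i j : Γ(X, U i ⊓ U j))) hst
    fun i j => by
      apply (hbij (U i ⊓ U j) inf_le_left).1
      have h1 : U i ⊓ U j ⊓ V ≤ U i ⊓ V := inf_le_inf_right V inf_le_left
      have h2 : U i ⊓ U j ⊓ V ≤ U j ⊓ V := inf_le_inf_right V inf_le_right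
      rw [res_res, N.map_smul, res_res]
      rw [← res_res (inf_le_left : U i ⊓ V ≤ U i) h1 (t i), ← res_res (inf_le_left : U j ⊓ V ≤ U j) h2 (t j),
        ht i, ht j, ← DCohLib.app_natural u h1, ← DCohLib.app_natural u h2,
        hη2 i j (U i ⊓ U j ⊓ V) inf_le_left inf_le_right, Scheme.Modules.Hom.app_smul]
  have hu : ∀ (O : X.Opens), O ≤ V → Function.Bijective (u.app O) := fun O hO => by
    have e : u.app O = L.presheaf.map (homOfLE (V.ι.image_preimage_le O)).op :=
      Scheme.Modules.restrictAdjunction_unit_app_app _ _ _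
    have hq : V.ι ''ᵁ V.ι ⁻¹ᵁ O = O := by
      rw [Scheme.Hom.image_preimage_eq_opensRange_inf, Scheme.Opens.opensRange_ι, inf_eq_right.2 hO]
    rw [e]
    have key : ∀ (O' : X.Opens) (_ : O' = O) (h : O' ≤ O),
        Function.Bijective (L.presheaf.map (homOfLE h).op) := by
      rintro O' rfl h
      rw [show (homOfLE h).op = 𝟙 _ from rfl, CategoryTheory.Functor.map_id]
      exact Function.bijective_id
    exact key _ hq _
  have hiso : IsIso ((Scheme.Modules.restrictFunctor V.ι).map φ) := by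
    refine isIso_of_locally_app _ fun z => ?_
    obtain ⟨i, hi⟩ := Opens.mem_iSup.1 (hU.ge (Opens.mem_top z.1))
    refine ⟨V.ι ⁻¹ᵁ U i, hi, fun a ha => ?_⟩
    have hOi : V.ι ''ᵁ a ≤ U i := (V.ι.image_mono ha).trans (V.ι.image_preimage_le _)
    have hOV : V.ι ''ᵁ a ≤ V := (V.ι.image_mono le_top).trans V.ι_image_top.le
    show Function.Bijective (φ.app (V.ι ''ᵁ a))
    refine (Function.Bijective.of_comp_iff (φ.app (V.ι ''ᵁ a)) (hs i _ hOi)).1 ?_
    have hf : (φ.app (V.ι ''ᵁ a) : Γ(L', V.ι ''ᵁ a) → Γ(N, V.ι ''ᵁ a)) ∘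
        (fun r : Γ(X, V.ι ''ᵁ a) => r • L'.presheaf.map (homOfLE hOi).op (s i)) =
        (u.app (V.ι ''ᵁ a) : Γ(L, V.ι ''ᵁ a) → Γ(N, V.ι ''ᵁ a)) ∘
        (fun r : Γ(X, V.ι ''ᵁ a) => r • L.presheaf.map (homOfLE (le_inf hOi hOV)).op (b i)) := funext fun r => by
      show φ.app _ (r • _) = u.app _ (r • _)
      rw [Scheme.Modules.Hom.app_smul, Scheme.Modules.Hom.app_smul, DCohLib.app_natural φ hOi, hφ i,
        DCohLib.app_natural u (le_inf hOi hOV), ← ht i, res_res]
    rw [hf]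
    exact (hu _ hOV).comp (hbG i _ (le_inf hOi hOV))
  exact ⟨L', hL', ⟨@asIso _ _ _ _ _ hiso ≪≫ asIso ((Scheme.Modules.restrictAdjunction V.ι).counit.app (L.restrict V.ι))⟩⟩

end Groth.Agent.ParaFLib
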