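import Groth.Agent.ParaFLib.Pair
import Groth.Prelude.Def_FEt

/-! Parafactorial local rings. -/

set_option autoImplicit false
set_option linter.style.haveILetI false

universe u

open CategoryTheory AlgebraicGeometry TopologicalSpace Opposite ParaF

noncomputable section

namespace Groth.Agent.ParaFLib

theorem picTrivial_of_iso {U U' : Scheme.{u}} (e : U ≅ U') (h : PicTrivial U') : PicTrivial U := by
  intro L hL
  obtain ⟨φ⟩ := h (L.restrict e.inv) (isInvertible_restrict _ hL)
  exact ⟨(Scheme.Modules.restrictFunctorId.app L).symm ≪≫ (restrictCongr e.hom_inv_id L).symm ≪≫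
    restrictComp e.hom e.inv L ≪≫ (Scheme.Modules.restrictFunctor e.hom).mapIso φ ≪≫
    DCohLib.restrictUnit e.hom⟩

variable (A : Type u) [CommRing A] [IsLocalRing A]

theorem eq_top_of_closedPoint_mem {O : (Spec (CommRingCat.of A)).Opens} (h : IsLocalRing.closedPoint A ∈ O) :
    O = ⊤ :=
  top_le_iff.1 fun x _ => (IsLocalRing.specializes_closedPoint x).mem_open O.isOpen h

/-- The closed point as a closed subset. -/
def closedPt : Closeds (Spec (CommRingCat.of A)) :=
  ⟨{IsLocalRing.closedPoint A}, IsLocalRing.isClosed_singleton_closedPoint A⟩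

theorem compl_closedPt : (closedPt A).compl = FEt.puncturedSpec A := rfl

theorem isParafactorialLocalRing_iff :
    IsParafactorialLocalRing A ↔
      (Function.Bijective ((Spec (CommRingCat.of A)).presheaf.map
          (homOfLE (le_top : FEt.puncturedSpec A ≤ ⊤)).op) ∧
        PicTrivial (FEt.puncturedSpec A : Scheme.{u})) := by
  show IsParafactorialPair _ (closedPt A) ↔ _
  rw [isParafactorialPair_iff]
  constructor
  · rintro ⟨h1, h2⟩
    refine ⟨?_, fun L₀ hL₀ => ?_⟩
    · have := h1 ⊤
      rw [top_inf_eq] at this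
      exact this le_top
    · obtain ⟨L, hL, ⟨φ⟩⟩ := h2 (𝟙 _) (FEt.puncturedSpec A).ι
        (by rw [Scheme.Opens.opensRange_ι]; rfl) L₀ hL₀
      obtain ⟨W, hW, ⟨i⟩⟩ := hL (IsLocalRing.closedPoint A)
      obtain rfl := eq_top_of_closedPoint_mem A hW
      let T := (Spec (CommRingCat.of A)).topIso
      let j := (FEt.puncturedSpec A).ι ≫ T.inv
      exact ⟨φ.symm ≪≫ (restrictCongr (show j ≫ (⊤ : (Spec (CommRingCat.of A)).Opens).ι
          = (FEt.puncturedSpec A).ι by simp [j, T]) L).symm ≪≫ restrictComp j _ L ≪≫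
        (Scheme.Modules.restrictFunctor j).mapIso i ≪≫ DCohLib.restrictUnit j⟩
  · rintro ⟨h1, h2⟩
    refine ⟨fun O => ?_, fun V U i _ j _ hr L₀ hL₀ => ?_⟩
    · by_cases hO : IsLocalRing.closedPoint A ∈ O
      · obtain rfl := eq_top_of_closedPoint_mem A hO
        rw [top_inf_eq]
        exact fun _ => h1
      · have e : O ⊓ (closedPt A).compl = O := inf_eq_left.2 fun x hx hx' => hO (hx' ▸ hx)
        rw [e]
        intro hle
        rw [show (homOfLE hle).op = 𝟙 _ from rfl, CategoryTheory.Functor.map_id]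
        exact Function.bijective_id
    · by_cases hO : IsLocalRing.closedPoint A ∈ i.opensRange
      · have hi : i.opensRange = ⊤ := eq_top_of_closedPoint_mem A hO
        have hrange : Set.range (j ≫ i) = Set.range (FEt.puncturedSpec A).ι := by
          rw [Scheme.Opens.range_ι, ← Scheme.Hom.coe_opensRange, Scheme.Hom.opensRange_comp, hr,
            Scheme.Hom.image_preimage_eq_opensRange_inf, hi, top_inf_eq]
          rfl
        have hpic : PicTrivial U := picTrivial_of_iso
          (IsOpenImmersion.isoOfRangeEq (j ≫ i) (FEt.puncturedSpec A).ι hrange) h2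
        obtain ⟨φ⟩ := hpic L₀ hL₀
        exact ⟨Coh.structureModule V, fun x => ⟨⊤, trivial, ⟨DCohLib.restrictUnit _⟩⟩,
          ⟨DCohLib.restrictUnit j ≪≫ φ.symm⟩⟩
      · have hj : j.opensRange = ⊤ := by
          rw [hr]
          refine top_le_iff.1 fun x _ hx => hO ?_
          exact ⟨x, hx⟩
        haveI : IsIso j := isIso_of_isOpenImmersion_of_opensRange_eq_top j hj
        exact ⟨L₀.restrict (inv j), isInvertible_restrict _ hL₀, ⟨(restrictComp j (inv j) L₀).symm ≪≫
          restrictCongr (IsIso.hom_inv_id j) L₀ ≪≫ Scheme.Modules.restrictFunctorId.app L₀⟩⟩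

end Groth.Agent.ParaFLib
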