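import Groth.Agent.ParaFLib.Gen
import Groth.Agent.ParaFLib.Local
import Mathlib.RingTheory.UniqueFactorizationDomain.Basic
import Mathlib.AlgebraicGeometry.FunctionField
import Mathlib.AlgebraicGeometry.Noetherian
import Mathlib.RingTheory.Ideal.Height
import Mathlib.RingTheory.Ideal.KrullsHeightTheorem

/-! Invertible modules on opens of the spectrum of a unique factorisation domain. -/

set_option autoImplicit false
set_option linter.style.haveILetI false

universe u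

open CategoryTheory AlgebraicGeometry TopologicalSpace Opposite

noncomputable section

namespace Groth.Agent.ParaFLib

variable {R : CommRingCat.{u}}

theorem res_algebraMap {W W' : (Spec R).Opens} (h : W' ≤ W) (a : R) :
    (Spec R).presheaf.map (homOfLE h).op (algebraMap R Γ(Spec R, W) a) = algebraMap R Γ(Spec R, W') a :=
  rfl

/-- A basic open. -/
abbrev D (a : R) : (Spec R).Opens := PrimeSpectrum.basicOpen a

/-- The germ map into the localisation. -/
def germR (W : (Spec R).Opens) (x : PrimeSpectrum R) (hx : x ∈ W) :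
    Γ(Spec R, W) →+* (Spec.structureSheaf R).presheaf.stalk x :=
  ((Spec R).presheaf.germ W x hx).hom

theorem germ_algebraMap (W : (Spec R).Opens) (x : PrimeSpectrum R) (hx : x ∈ W) (a : R) :
    germR W x hx (algebraMap R Γ(Spec R, W) a)
      = algebraMap R ((Spec.structureSheaf R).presheaf.stalk x) a :=
  StructureSheaf.algebraMap_germ_apply W x hx a

theorem isUnit_algebraMap_of_le {W : (Spec R).Opens} {a : R} (h : W ≤ D a) :
    IsUnit (algebraMap R Γ(Spec R, W) a) := by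
  rw [← res_algebraMap h a]
  exact (IsLocalization.Away.algebraMap_isUnit (S := Γ(Spec R, D a)) a).map
    ((Spec R).presheaf.map (homOfLE h).op).hom

theorem isUnit_stalk_iff (x : PrimeSpectrum R) (c : R) :
    IsUnit (algebraMap R ((Spec.structureSheaf R).presheaf.stalk x) c) ↔ c ∉ x.asIdeal :=
  IsLocalization.AtPrime.isUnit_to_map_iff _ x.asIdeal c

theorem notMem_iff_of_unit {W : (Spec R).Opens} {u : Γ(Spec R, W)} (hu : IsUnit u) {a b : R}
    (h : u * algebraMap R _ b = algebraMap R _ a) (x : PrimeSpectrum R) (hx : x ∈ W) :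
    a ∉ x.asIdeal ↔ b ∉ x.asIdeal := by
  have e := congrArg (germR W x hx) h
  rw [map_mul, germ_algebraMap, germ_algebraMap] at e
  have h2 : ∀ c : R, IsUnit (algebraMap R ((Spec.structureSheaf R).presheaf.stalk x) c) ↔ c ∉ x.asIdeal :=
    fun c => IsLocalization.AtPrime.isUnit_to_map_iff _ x.asIdeal c
  rw [← h2, ← h2, ← e]
  exact IsUnit.mul_iff.trans (and_iff_right (hu.map (germR W x hx)))

variable [IsDomain R] [UniqueFactorizationMonoid R]

theorem exists_fraction {W : (Spec R).Opens} (hW : (W : Set (Spec R)).Nonempty) (u : Γ(Spec R, W)) :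
    ∃ a b : R, b ≠ 0 ∧ IsRelPrime a b ∧ u * algebraMap R _ b = algebraMap R _ a := by
  obtain ⟨x, hx⟩ := hW
  obtain ⟨_, ⟨g, rfl⟩, hxg, hgW⟩ := PrimeSpectrum.isTopologicalBasis_basic_opens.exists_subset_of_mem_open hx W.isOpen
  have hg : g ≠ 0 := fun h => hxg (h ▸ x.asIdeal.zero_mem)
  obtain ⟨⟨c, d, n, hd⟩, hc⟩ := IsLocalization.surj (Submonoid.powers g)
    ((Spec R).presheaf.map (homOfLE (show D g ≤ W from hgW)).op u)
  haveI : Nonempty (D g : (Spec R).Opens) := ⟨⟨x, hxg⟩⟩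
  haveI : Nonempty W := ⟨⟨x, hx⟩⟩
  have hu : u * algebraMap R _ d = algebraMap R _ c := by
    apply map_injective_of_isIntegral (Spec R) (homOfLE (show D g ≤ W from hgW))
    rw [map_mul]
    exact hc
  have hd0 : d ≠ 0 := by
    rw [← hd]
    exact pow_ne_zero n hg
  obtain ⟨a', b', c', hrel, ha, hb⟩ := UniqueFactorizationMonoid.exists_reduced_factors' c d hd0
  refine ⟨a', b', fun h => hd0 (by rw [← hb, h, mul_zero]), hrel, ?_⟩
  have hc' : c' ≠ 0 := fun h => hd0 (by rw [← hb, h, zero_mul])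
  have hinj : Function.Injective (algebraMap R Γ(Spec R, W)) := by
    intro p q hpq
    have := congrArg ((Spec R).presheaf.map (homOfLE (show D g ≤ W from hgW)).op).hom hpq
    exact IsLocalization.injective Γ(Spec R, D g)
      (powers_le_nonZeroDivisors_of_noZeroDivisors hg) this
  rw [← hb, ← ha, map_mul, map_mul, mul_left_comm] at hu
  exact mul_left_cancel₀ ((map_ne_zero_iff _ hinj).2 hc') hu

/-- A prime element which is not a unit on `W` gives a point of `W`. -/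
theorem mem_of_prime {W : (Spec R).Opens} {q : R} (hq : Prime q) (h : ¬ W ≤ D q) :
    (⟨Ideal.span {q}, (Ideal.span_singleton_prime hq.ne_zero).2 hq⟩ : PrimeSpectrum R) ∈ W := by
  obtain ⟨x, hxW, hx⟩ := SetLike.not_le_iff_exists.1 h
  refine Specializes.mem_open ((PrimeSpectrum.le_iff_specializes _ x).1 ?_) W.isOpen hxW
  exact (Ideal.span_singleton_le_iff_mem x.asIdeal).2 (not_not.1 hx)

theorem exists_split {W₁ W₂ : (Spec R).Opens} (a : R) (ha : a ≠ 0)
    (hp : ∀ q, Prime q → q ∣ a → W₁ ≤ D q ∨ W₂ ≤ D q) :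
    ∃ a₁ a₂ : R, a = a₁ * a₂ ∧ W₁ ≤ D a₁ ∧ W₂ ≤ D a₂ := by
  induction a using UniqueFactorizationMonoid.induction_on_prime with
  | h₁ => exact absurd rfl ha
  | h₂ v hv =>
    refine ⟨v, 1, (mul_one v).symm, ?_, fun x _ => x.isPrime.one_notMem⟩
    exact fun x _ hx => x.isPrime.ne_top (Ideal.eq_top_of_isUnit_mem _ hx hv)
  | h₃ b q hb hq ih =>
    obtain ⟨b₁, b₂, rfl, h₁, h₂⟩ := ih hb fun q' hq' hd => hp q' hq' (hd.mul_left q)
    rcases hp q hq (dvd_mul_right q _) with h | h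
    · refine ⟨q * b₁, b₂, (mul_assoc q b₁ b₂).symm, ?_, h₂⟩
      refine le_of_le_of_eq ?_ (PrimeSpectrum.basicOpen_mul _ _).symm
      exact le_inf h h₁
    · refine ⟨b₁, q * b₂, by ring, h₁, ?_⟩
      refine le_of_le_of_eq ?_ (PrimeSpectrum.basicOpen_mul _ _).symm
      exact le_inf h h₂

theorem exists_gen_union {L : (Spec R).Modules} {W₁ W₂ : (Spec R).Opens} {s₁ : Γ(L, W₁)} {s₂ : Γ(L, W₂)}
    (h₁ : Gen W₁ s₁) (h₂ : Gen W₂ s₂) : ∃ s : Γ(L, W₁ ⊔ W₂), Gen (W₁ ⊔ W₂) s := by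
  obtain ⟨u, hu, hus⟩ := (h₁.res (inf_le_left : W₁ ⊓ W₂ ≤ W₁)).exists_unit (h₂.res (inf_le_right : W₁ ⊓ W₂ ≤ W₂))
  by_cases hne : ((W₁ ⊓ W₂ : (Spec R).Opens) : Set (Spec R)).Nonempty
  swap
  · refine exists_gen_sup h₁ h₂ ?_
    have hbot : W₁ ⊓ W₂ = ⊥ := SetLike.coe_injective (Set.not_nonempty_iff_eq_empty.1 hne)
    haveI : Subsingleton Γ(Spec R, W₁ ⊓ W₂) := by
      rw [hbot]
      exact CommRingCat.subsingleton_of_isTerminal (Spec R).sheaf.isTerminalOfEmpty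
    rw [← hus, Subsingleton.elim u 1, one_smul]
  obtain ⟨a, b, hb, hrel, hab⟩ := exists_fraction hne u
  have hprime : ∀ q : R, Prime q → (q ∣ a ∨ q ∣ b) →
      W₁ ≤ D q ∨ W₂ ≤ D q := by
    intro q hq hdvd
    by_contra h
    push Not at h
    let x : PrimeSpectrum R := ⟨Ideal.span {q}, (Ideal.span_singleton_prime hq.ne_zero).2 hq⟩
    have hx : x ∈ W₁ ⊓ W₂ := ⟨mem_of_prime hq h.1, mem_of_prime hq h.2⟩
    have key : q ∣ a ↔ q ∣ b := by
      rw [← Ideal.mem_span_singleton, ← Ideal.mem_span_singleton]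
      exact not_iff_not.1 (notMem_iff_of_unit hu hab x hx)
    have hboth : q ∣ a ∧ q ∣ b := hdvd.elim (fun ha => ⟨ha, key.1 ha⟩) fun hb => ⟨key.2 hb, hb⟩
    exact hq.not_isUnit (hrel hboth.1 hboth.2)
  have ha : a ≠ 0 := by
    rintro rfl
    obtain ⟨x, hx⟩ := hne
    haveI : Nonempty (W₁ ⊓ W₂ : (Spec R).Opens) := ⟨⟨x, hx⟩⟩
    have hb' := isRelPrime_zero_left.1 hrel
    rw [map_zero] at hab
    exact not_isUnit_zero (hab ▸ hu.mul (hb'.map (algebraMap R Γ(Spec R, W₁ ⊓ W₂))))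
  obtain ⟨a₁, a₂, rfl, ha₁, ha₂⟩ := exists_split a ha fun q hq h => hprime q hq (Or.inl h)
  obtain ⟨b₁, b₂, rfl, hb₁, hb₂⟩ := exists_split b hb fun q hq h => hprime q hq (Or.inr h)
  obtain ⟨c₁, hc₁⟩ := isUnit_algebraMap_of_le ha₁
  obtain ⟨d₂, hd₂⟩ := isUnit_algebraMap_of_le hb₂
  refine exists_gen_sup (h₁.smul (a := (↑c₁⁻¹ : Γ(Spec R, W₁)) * algebraMap R _ b₁)
      (c₁⁻¹.isUnit.mul (isUnit_algebraMap_of_le hb₁)))
    (h₂.smul (a := algebraMap R _ a₂ * (↑d₂⁻¹ : Γ(Spec R, W₂)))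
      ((isUnit_algebraMap_of_le ha₂).mul d₂⁻¹.isUnit)) ?_
  rw [Scheme.Modules.map_smul, Scheme.Modules.map_smul, ← hus, ← mul_smul]
  congr 1
  rw [map_mul, map_mul]
  simp only [res_algebraMap]
  have e₁ : (Spec R).presheaf.map (homOfLE (inf_le_left : W₁ ⊓ W₂ ≤ W₁)).op (↑c₁⁻¹ : Γ(Spec R, W₁))
      * algebraMap R _ a₁ = 1 := by
    rw [← res_algebraMap (inf_le_left : W₁ ⊓ W₂ ≤ W₁) a₁, ← hc₁, ← map_mul, Units.inv_mul, map_one]
  have e₂ : (Spec R).presheaf.map (homOfLE (inf_le_right : W₁ ⊓ W₂ ≤ W₂)).op (↑d₂⁻¹ : Γ(Spec R, W₂))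
      * algebraMap R _ b₂ = 1 := by
    rw [← res_algebraMap (inf_le_right : W₁ ⊓ W₂ ≤ W₂) b₂, ← hd₂, ← map_mul, Units.inv_mul, map_one]
  rw [map_mul, map_mul] at hab
  set X := (Spec R).presheaf.map (homOfLE (inf_le_left : W₁ ⊓ W₂ ≤ W₁)).op (↑c₁⁻¹ : Γ(Spec R, W₁))
  set Y := (Spec R).presheaf.map (homOfLE (inf_le_right : W₁ ⊓ W₂ ≤ W₂)).op (↑d₂⁻¹ : Γ(Spec R, W₂))
  set A₁ := algebraMap R Γ(Spec R, W₁ ⊓ W₂) a₁
  set A₂ := algebraMap R Γ(Spec R, W₁ ⊓ W₂) a₂
  set B₁ := algebraMap R Γ(Spec R, W₁ ⊓ W₂) b₁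
  set B₂ := algebraMap R Γ(Spec R, W₁ ⊓ W₂) b₂
  calc X * B₁ * u = X * (B₁ * u) * (Y * B₂) := by rw [e₂, mul_one, mul_assoc]
    _ = X * Y * (u * (B₁ * B₂)) := by ring
    _ = X * Y * (A₁ * A₂) := by rw [hab]
    _ = (X * A₁) * (A₂ * Y) := by ring
    _ = A₂ * Y := by rw [e₁, one_mul]

variable [IsNoetherianRing R]

theorem picTrivial_opens (W : (Spec R).Opens) (L : (Spec R).Modules)
    (hL : ∀ x : PrimeSpectrum R, x ∈ W → ∃ W' : (Spec R).Opens, x ∈ W' ∧
      Nonempty (L.restrict W'.ι ≅ Coh.structureModule (W' : Scheme.{u}))) :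
    Nonempty (L.restrict W.ι ≅ Coh.structureModule (W : Scheme.{u})) := by
  classical
  choose W' hxW' hiso using fun x : (W : Set (Spec R)) => hL x.1 x.2
  obtain ⟨t, ht⟩ := (NoetherianSpace.isCompact (W : Set (Spec R))).elim_finite_subcover
    (fun x : (W : Set (Spec R)) => (W' x : Set (Spec R))) (fun x => (W' x).isOpen)
    fun y hy => Set.mem_iUnion.2 ⟨⟨y, hy⟩, hxW' _⟩
  have key : ∀ t : Finset (W : Set (Spec R)), ∃ s : Γ(L, t.sup W' ⊓ W), Gen (t.sup W' ⊓ W) s := by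
    intro t
    induction t using Finset.induction with
    | empty =>
      rw [Finset.sup_empty, bot_inf_eq]
      exact exists_gen_bot
    | insert x t hx ih =>
      obtain ⟨s, hs⟩ := ih
      obtain ⟨s', hs'⟩ := exists_gen_of_iso (hiso x).some
      rw [Finset.sup_insert, inf_sup_right]
      exact exists_gen_union (hs'.res (show W' x ⊓ W ≤ (W' x).ι ''ᵁ ⊤ by rw [(W' x).ι_image_top]; exact inf_le_left)) hs
  obtain ⟨s, hs⟩ := key t
  have hW : t.sup W' ⊓ W = W := by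
    refine inf_eq_right.2 fun y hy => ?_
    obtain ⟨x, hxt, hyx⟩ := Set.mem_iUnion₂.1 (ht hy)
    exact (Finset.le_sup (f := W') hxt) hyx
  obtain ⟨s', hs'⟩ : ∃ s' : Γ(L, W), Gen W s' := hW ▸ (⟨s, hs⟩ : ∃ v, Gen _ v)
  exact nonempty_iso_of_gen hs'

theorem picTrivial_of_ufd (W : (Spec R).Opens) : ParaF.PicTrivial (W : Scheme.{u}) := by
  intro L hL
  let c : ((Scheme.Modules.pushforward W.ι).obj L).restrict W.ι ≅ L :=
    asIso ((Scheme.Modules.restrictAdjunction W.ι).counit.app L)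
  obtain ⟨φ⟩ := picTrivial_opens W ((Scheme.Modules.pushforward W.ι).obj L) fun x hx => by
    obtain ⟨W₀, hx₀, ⟨i⟩⟩ := hL ⟨x, hx⟩
    refine ⟨W.ι ''ᵁ W₀, ⟨⟨x, hx⟩, hx₀, rfl⟩, ?_⟩
    let e := W.ι.isoImage W₀
    have he : e.inv ≫ W₀.ι ≫ W.ι = (W.ι ''ᵁ W₀).ι := by
      rw [← Scheme.Hom.isoImage_hom_ι]
      simp [e]
    exact ⟨(restrictCongr he _).symm ≪≫ restrictComp e.inv (W₀.ι ≫ W.ι) _ ≪≫
      (Scheme.Modules.restrictFunctor e.inv).mapIso (restrictComp W₀.ι W.ι _ ≪≫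
        (Scheme.Modules.restrictFunctor W₀.ι).mapIso c ≪≫ i) ≪≫
      DCohLib.restrictUnit e.inv⟩
  exact ⟨c.symm ≪≫ φ⟩

theorem bijective_res_of_ufd (U : (Spec R).Opens) [Nonempty U]
    (hprime : ∀ (q : R) (hq : Prime q),
      (⟨Ideal.span {q}, (Ideal.span_singleton_prime hq.ne_zero).2 hq⟩ : PrimeSpectrum R) ∈ U) :
    Function.Bijective ((Spec R).presheaf.map (homOfLE (le_top : U ≤ ⊤)).op) := by
  haveI : Nonempty (⊤ : (Spec R).Opens) := ⟨⟨(‹Nonempty U›.some).1, trivial⟩⟩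
  refine ⟨map_injective_of_isIntegral (Spec R) _, fun x => ?_⟩
  obtain ⟨a, b, hb, hrel, hab⟩ := exists_fraction (R := R)
    (W := U) (‹Nonempty U›.elim fun y => ⟨y.1, y.2⟩) x
  have hbu : IsUnit b := by
    by_contra hbu
    obtain ⟨q, hq, hqb⟩ := WfDvdMonoid.exists_irreducible_factor hbu hb
    have hq' : Prime q := UniqueFactorizationMonoid.irreducible_iff_prime.1 hq
    let P : PrimeSpectrum R := ⟨Ideal.span {q}, (Ideal.span_singleton_prime hq'.ne_zero).2 hq'⟩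
    have e := congrArg (germR (R := R) U P (hprime q hq')) hab
    rw [map_mul, germ_algebraMap, germ_algebraMap] at e
    have hbP : ¬ IsUnit (algebraMap R ((Spec.structureSheaf R).presheaf.stalk P) b) := fun h =>
      (isUnit_stalk_iff P b).1 h (Ideal.mem_span_singleton.2 hqb)
    have haP : a ∈ P.asIdeal := by
      by_contra haP
      have hu := (isUnit_stalk_iff P a).2 haP
      rw [← e] at hu
      exact hbP (isUnit_of_mul_isUnit_right hu)
    exact hq.not_isUnit (hrel (Ideal.mem_span_singleton.1 haP) hqb)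
  obtain ⟨v, rfl⟩ := hbu
  refine ⟨algebraMap R Γ(Spec R, (⊤ : (Spec R).Opens)) (a * (↑v⁻¹ : R)), ?_⟩
  erw [res_algebraMap]
  rw [map_mul, ← hab, mul_assoc, ← map_mul, Units.mul_inv, map_one, mul_one]


theorem isParafactorialLocalRing_of_ufd (A : Type u) [CommRing A] [IsDomain A] [IsNoetherianRing A]
    [IsLocalRing A] [UniqueFactorizationMonoid A] (hdim : (2 : WithBot ℕ∞) ≤ ringKrullDim A) :
    ParaF.IsParafactorialLocalRing A := by
  refine (isParafactorialLocalRing_iff A).2 ⟨?_, picTrivial_of_ufd (R := CommRingCat.of A) _⟩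
  have hprime : ∀ (q : A) (hq : Prime q),
      (⟨Ideal.span {q}, (Ideal.span_singleton_prime hq.ne_zero).2 hq⟩ : PrimeSpectrum A) ∈ FEt.puncturedSpec A := by
    intro q hq h
    have hm : IsLocalRing.maximalIdeal A = Ideal.span {q} := (congrArg PrimeSpectrum.asIdeal h).symm
    have h1 : (IsLocalRing.maximalIdeal A).height ≤ 1 :=
      Ideal.height_le_one_of_isPrincipal_of_mem_minimalPrimes (Ideal.span {q}) _
        (by rw [← hm, Ideal.minimalPrimes_eq_subsingleton_self]; rfl)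
    rw [← IsLocalRing.maximalIdeal_height_eq_ringKrullDim] at hdim
    have h2 : (2 : ℕ∞) ≤ 1 := le_trans (WithBot.coe_le_coe.1 hdim) h1
    norm_num at h2
  let R := CommRingCat.of A
  haveI : Nonempty (FEt.puncturedSpec A) := by
    refine ⟨⟨⟨⊥, Ideal.isPrime_bot⟩, fun h => ?_⟩⟩
    have hm : IsLocalRing.maximalIdeal A = ⊥ := (congrArg PrimeSpectrum.asIdeal h).symm
    rw [← IsLocalRing.maximalIdeal_height_eq_ringKrullDim, hm, Ideal.height_bot] at hdim
    norm_num at hdim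
  haveI : Nonempty (⊤ : (Spec R).Opens) := ⟨⟨IsLocalRing.closedPoint A, trivial⟩⟩
  exact bijective_res_of_ufd (R := CommRingCat.of A) (FEt.puncturedSpec A) hprime

end Groth.Agent.ParaFLib
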