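import Groth.Agent.ParaFLib.Pair
import Groth.Agent.RatDense.Hartogs
import Groth.Agent.SerreLib.Normal

/-! Functions and sections of invertible modules across points of depth at least two. -/

set_option autoImplicit false
set_option linter.style.haveILetI false

universe u

open CategoryTheory AlgebraicGeometry TopologicalSpace Opposite

noncomputable section

namespace Groth.Agent.ParaFLib

variable {X : Scheme.{u}}

/-- Restriction of functions to an open with complement of depth at least two. -/
theorem bij_structureModule_of_depth [IsLocallyNoetherian X] {U W : X.Opens} (hUW : U ≤ W)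
    (hU : ∀ x ∈ W, x ∉ U → (2 : ℕ∞) ≤ LocCoh.depth (X.presheaf.stalk x) (X.presheaf.stalk x)) :
    Bij (Coh.structureModule X) W U := by
  intro h
  refine ⟨fun (a b : Γ(X, W)) hab => ?_, fun s => ?_⟩
  · show @Eq Γ(X, W) a b
    rw [← sub_eq_zero]
    refine RatDense.dense_of_depth_pos (U := U) (fun x hx hxU => le_trans (by norm_num) (hU x hx hxU)) _ ?_
    have hab' : RatDense.res hUW a = RatDense.res hUW b := hab
    have e : W ⊓ U ≤ U := inf_le_right
    rw [← RatDense.res_res hUW e, map_sub, hab', sub_self, map_zero]
  · obtain ⟨t, ht⟩ := RatDense.exists_extend_section hUW hU s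
    exact ⟨t, ht⟩

/-- Functions extend across a closed subset of depth at least two. -/
theorem ringClosed_of_depth [IsLocallyNoetherian X] (Y : Closeds X)
    (hY : ∀ x : X, x ∈ Y → (2 : ℕ∞) ≤ LocCoh.depth (X.presheaf.stalk x) (X.presheaf.stalk x)) :
    RingClosed X Y := fun O =>
  bij_structureModule_of_depth inf_le_left fun x hx hxU => hY x (not_not.1 fun h => hxU ⟨hx, h⟩)

/-- The open immersion of an open with complement of depth at least two has closed invertible modules. -/
theorem isClosed'_of_depth [IsLocallyNoetherian X] (U : X.Opens)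
    (hU : ∀ x : X, x ∉ U → (2 : ℕ∞) ≤ LocCoh.depth (X.presheaf.stalk x) (X.presheaf.stalk x))
    {L : X.Modules} (hL : PicF.IsInvertible L) : IsClosed' U.ι L := by
  refine isClosed'_of_invertible _ ?_ hL
  rw [isClosed'_iff]
  intro O
  rw [Scheme.Hom.image_preimage_eq_opensRange_inf, Scheme.Opens.opensRange_ι, inf_comm]
  exact bij_structureModule_of_depth inf_le_left fun x hx hxU => hU x fun h => hxU ⟨hx, h⟩

/-- The depth of a normal local ring of dimension at least two is at least two. -/
theorem two_le_depth_stalk_of_normal [IsLocallyNoetherian X] (x : X)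
    (h : IsDomain (X.presheaf.stalk x) ∧ IsIntegrallyClosed (X.presheaf.stalk x))
    (hd : 2 ≤ ringKrullDim (X.presheaf.stalk x)) :
    (2 : ℕ∞) ≤ LocCoh.depth (X.presheaf.stalk x) (X.presheaf.stalk x) :=
  haveI := h.1
  haveI := h.2
  SerreLib.two_le_depth_of_normal (lt_of_lt_of_le (by norm_num) hd)

end Groth.Agent.ParaFLib
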