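import Groth.Agent.ParaFLib.Ideal
import Groth.Agent.ParaFLib.Depth
import Groth.Agent.GeomRk.Alg
import Mathlib.RingTheory.Ideal.UFD

/-! Unique factorisation and the punctured spectrum. -/

set_option autoImplicit false
set_option linter.style.haveILetI false

universe u

open CategoryTheory AlgebraicGeometry TopologicalSpace Opposite

noncomputable section

namespace Groth.Agent.ParaFLib

variable (A : Type u) [CommRing A] [IsNoetherianRing A] [IsLocalRing A]

theorem ufd_stalk_of_ufd [IsDomain A] [UniqueFactorizationMonoid A] (y : PrimeSpectrum A) :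
    IsDomain ((Spec.structureSheaf A).presheaf.stalk y) ∧
      UniqueFactorizationMonoid ((Spec.structureSheaf A).presheaf.stalk y) := by
  haveI : IsDomain ((Spec.structureSheaf A).presheaf.stalk y) :=
    IsLocalization.isDomain_of_le_nonZeroDivisors ((Spec.structureSheaf A).presheaf.stalk y)
      (M := y.asIdeal.primeCompl) y.asIdeal.primeCompl_le_nonZeroDivisors
  exact ⟨inferInstance, UniqueFactorizationMonoid.of_isLocalization y.asIdeal.primeCompl _⟩

theorem ufd_of_punctured [IsDomain A] (hdim : (2 : WithBot ℕ∞) ≤ ringKrullDim A)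
    (hres : Function.Surjective ((Spec (CommRingCat.of A)).presheaf.map
      (homOfLE (le_top : FEt.puncturedSpec A ≤ ⊤)).op))
    (hpic : ParaF.PicTrivial (FEt.puncturedSpec A : Scheme.{u}))
    (hufd : ∀ y : PrimeSpectrum A, y ∈ FEt.puncturedSpec A →
      UniqueFactorizationMonoid ((Spec.structureSheaf A).presheaf.stalk y)) :
    UniqueFactorizationMonoid A := by
  refine ufd_of_opens (R := CommRingCat.of A) _ hres hpic (fun x Q hQ hx h => ?_) fun y hy => hufd y hy
  have hm : IsLocalRing.maximalIdeal A = Q := (congrArg PrimeSpectrum.asIdeal h).symm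
  haveI := hQ.1.1
  have h1 : (IsLocalRing.maximalIdeal A).height ≤ 1 :=
    hm ▸ Ideal.height_le_one_of_isPrincipal_of_mem_minimalPrimes (Ideal.span {x}) Q hQ
  rw [← IsLocalRing.maximalIdeal_height_eq_ringKrullDim] at hdim
  have h2 : (2 : ℕ∞) ≤ 1 := le_trans (WithBot.coe_le_coe.1 hdim) h1
  norm_num at h2

theorem two_le_depth_stalk_closedPoint (hd : (2 : ℕ∞) ≤ LocCoh.depth A A) (x : Spec (CommRingCat.of A))
    (hx : x = IsLocalRing.closedPoint A) :
    (2 : ℕ∞) ≤ LocCoh.depth ((Spec (CommRingCat.of A)).presheaf.stalk x) ((Spec (CommRingCat.of A)).presheaf.stalk x) := by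
  haveI : IsNoetherianRing (CommRingCat.of A) := inferInstanceAs (IsNoetherianRing A)
  haveI : IsLocalRing (CommRingCat.of A) := inferInstanceAs (IsLocalRing A)
  let e : (Spec (CommRingCat.of A)).presheaf.stalk x ≃+* A :=
    ((Spec (CommRingCat.of A)).presheaf.stalkCongr (Inseparable.of_eq hx) ≪≫
      stalkClosedPointIso (CommRingCat.of A)).commRingCatIsoToRingEquiv
  exact hd.trans_eq (GeomRk.depth_congr_ringEquiv e)

/-- Functions on the punctured spectrum of a local ring of depth at least two. -/
theorem bijective_res_punctured_of_depth (hd : (2 : ℕ∞) ≤ LocCoh.depth A A) :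
    Function.Bijective ((Spec (CommRingCat.of A)).presheaf.map
      (homOfLE (le_top : FEt.puncturedSpec A ≤ ⊤)).op) := by
  haveI : IsNoetherianRing (CommRingCat.of A) := inferInstanceAs (IsNoetherianRing A)
  refine (bij_structureModule_of_depth (X := Spec (CommRingCat.of A)) (U := FEt.puncturedSpec A) (W := ⊤) le_top
    fun x _ hx => ?_) le_top
  exact two_le_depth_stalk_closedPoint A hd x (not_not.1 fun h => hx h)

end Groth.Agent.ParaFLib
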