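import Groth.Agent.ParaFLib.Pair

/-! Closedness of finite locally free modules; parafactorial pairs via direct images. -/

set_option autoImplicit false
set_option linter.style.haveILetI false

universe u

open CategoryTheory CategoryTheory.Limits AlgebraicGeometry TopologicalSpace Opposite ParaF

noncomputable section

namespace Groth.Agent.ParaFLib

variable {X U V : Scheme.{u}}

theorem isClosed'_freeMod (j : U ⟶ V) [IsOpenImmersion j] (h : IsClosed' j (Coh.structureModule V)) (n : ℕ) :
    IsClosed' j (FlatMod.freeMod V n) := by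
  let F : Fin n → V.Modules := fun _ => Coh.structureModule V
  haveI : IsIso ((Scheme.Modules.restrictAdjunction j).unit.app (Coh.structureModule V)) := h
  haveI : PreservesLimitsOfSize.{0, 0} (Scheme.Modules.pushforward j) :=
    (Scheme.Modules.restrictAdjunction j).rightAdjoint_preservesLimits
  haveI : (Scheme.Modules.pushforward j).Additive := Functor.additive_of_preserves_binary_products _
  haveI : PreservesFiniteCoproducts (Scheme.Modules.pushforward j) := inferInstance
  haveI : PreservesColimitsOfShape (Discrete (Fin n)) (Scheme.Modules.pushforward j) :=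
    inferInstance
  haveI : PreservesColimitsOfSize.{0, 0} (Scheme.Modules.restrictFunctor j) :=
    (Scheme.Modules.restrictAdjunction j).leftAdjoint_preservesColimits
  let T := Scheme.Modules.restrictFunctor j ⋙ Scheme.Modules.pushforward j
  have he : (Scheme.Modules.restrictAdjunction j).unit.app (∐ F)
      = Limits.Sigma.map (fun i => (Scheme.Modules.restrictAdjunction j).unit.app (F i)) ≫
        sigmaComparison T F := by
    refine Limits.Sigma.hom_ext _ _ fun i => ?_
    rw [Limits.Sigma.ι_map_assoc, ι_comp_sigmaComparison]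
    exact (Scheme.Modules.restrictAdjunction j).unit.naturality (Limits.Sigma.ι F i)
  haveI : IsIso (sigmaComparison T F) := by
    rw [← PreservesCoproduct.inv_hom T F]
    infer_instance
  haveI : IsIso (Limits.Sigma.map (fun i => (Scheme.Modules.restrictAdjunction j).unit.app (F i))) :=
    (Limits.Sigma.mapIso fun i => @asIso _ _ _ _ ((Scheme.Modules.restrictAdjunction j).unit.app (F i)) h).isIso_hom
  show IsIso ((Scheme.Modules.restrictAdjunction j).unit.app (∐ F))
  rw [he]
  exact IsIso.comp_isIso' inferInstance inferInstance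

theorem isClosed'_of_isFinLocFree (j : U ⟶ V) [IsOpenImmersion j]
    (h : IsClosed' j (Coh.structureModule V)) {E : V.Modules} (hE : FlatMod.IsFinLocFree E) : IsClosed' j E := by
  refine isIso_of_locally_app _ fun x => ?_
  obtain ⟨W, n, hx, ⟨i⟩⟩ := hE x
  refine ⟨W, hx, fun O hO => ?_⟩
  rw [Scheme.Modules.restrictAdjunction_unit_app_app]
  exact bij_of_restrict_iso' (i ≪≫ (DCohLib.restrictFreeMod W.ι n).symm).symm hO (j.image_preimage_le O)
    ((isClosed'_iff j _).1 (isClosed'_freeMod j h n) O) _

theorem isParafactorialPair_iff_pushforward (Y : Closeds X) :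
    IsParafactorialPair X Y ↔ (RingClosed X Y ∧
      ∀ (V : X.Opens) (L : ((V ⊓ Y.compl : X.Opens) : Scheme.{u}).Modules), PicF.IsInvertible L →
        PicF.IsInvertible ((Scheme.Modules.pushforward (X.homOfLE (inf_le_left : V ⊓ Y.compl ≤ V))).obj L)) := by
  constructor
  · intro h
    obtain ⟨h1, h2⟩ := (isParafactorialPair_iff Y).1 h
    refine ⟨h1, fun V L hL => ?_⟩
    obtain ⟨L', hL', ⟨φ⟩⟩ := (h V).2 L hL
    let j := X.homOfLE (inf_le_left : V ⊓ Y.compl ≤ V)
    exact isInvertible_of_iso (isoOfRestrict j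
      (isClosed'_of_invertible j (h1.isClosed' V.ι j (opensRange_homOfLE_inf V Y.compl)) hL')
      (isClosed'_pushforward j L)
      (φ ≪≫ (asIso ((Scheme.Modules.restrictAdjunction j).counit.app L)).symm)) hL'
  · rintro ⟨h1, h2⟩ W
    exact ⟨fun L L' _ hL' => restrict_bijective _ L L'
        (isClosed'_of_invertible _ (h1.isClosed' W.ι _ (opensRange_homOfLE_inf W Y.compl)) hL'),
      fun L hL => ⟨_, h2 W L hL, ⟨asIso ((Scheme.Modules.restrictAdjunction _).counit.app L)⟩⟩⟩

theorem finLocFree_extends_iff (Uo : X.Opens)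
    (h : ∀ V : X.Opens, Function.Bijective (X.presheaf.map (homOfLE (inf_le_left : V ⊓ Uo ≤ V)).op))
    (F : (Uo : Scheme.{u}).Modules) :
    ((∃ E : X.Modules, FlatMod.IsFinLocFree E ∧ Nonempty (E.restrict Uo.ι ≅ F)) ↔
        FlatMod.IsFinLocFree ((Scheme.Modules.pushforward Uo.ι).obj F)) ∧
      (∀ E : X.Modules, FlatMod.IsFinLocFree E → Nonempty (E.restrict Uo.ι ≅ F) →
        Nonempty (E ≅ (Scheme.Modules.pushforward Uo.ι).obj F)) := by
  have hc : IsClosed' Uo.ι (Coh.structureModule X) := by
    rw [isClosed'_iff]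
    intro V
    rw [Scheme.Hom.image_preimage_eq_opensRange_inf, Scheme.Opens.opensRange_ι, inf_comm]
    exact fun _ => h V
  have key : ∀ E : X.Modules, FlatMod.IsFinLocFree E → Nonempty (E.restrict Uo.ι ≅ F) →
      Nonempty (E ≅ (Scheme.Modules.pushforward Uo.ι).obj F) := fun E hE ⟨φ⟩ =>
    ⟨isoOfRestrict Uo.ι (isClosed'_of_isFinLocFree Uo.ι hc hE) (isClosed'_pushforward Uo.ι F)
      (φ ≪≫ (asIso ((Scheme.Modules.restrictAdjunction Uo.ι).counit.app F)).symm)⟩
  refine ⟨⟨fun ⟨E, hE, hφ⟩ => ?_, fun hF => ⟨_, hF, ⟨asIso ((Scheme.Modules.restrictAdjunction Uo.ι).counit.app F)⟩⟩⟩, key⟩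
  obtain ⟨e⟩ := key E hE hφ
  exact DCohLib.isFinLocFree_iso e hE

end Groth.Agent.ParaFLib
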