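import Groth.Prelude.Def_ParaF
import Groth.Agent.DCohLib.Restrict

/-!
# Parafactorial pairs: description through closedness of the structure sheaf
-/

set_option autoImplicit false
set_option linter.style.haveILetI false

universe u

open CategoryTheory AlgebraicGeometry TopologicalSpace Opposite ParaF

noncomputable section

namespace Groth.Agent.ParaFLib

variable {X U V : Scheme.{u}}

/-- Restriction of sections of `M` from `a` to `b` is bijective. -/
def Bij (M : X.Modules) (a b : X.Opens) : Prop :=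
  ∀ h : b ≤ a, Function.Bijective (M.presheaf.map (homOfLE h).op)

theorem Bij.comp {M : X.Modules} {a b c : X.Opens} (h₁ : Bij M a b) (hba : b ≤ a) (hcb : c ≤ b)
    (h₂ : Bij M b c) : Bij M a c := fun h => by
  rw [show (homOfLE h).op = (homOfLE hba).op ≫ (homOfLE hcb).op from rfl, Functor.map_comp]
  exact (h₂ hcb).comp (h₁ hba)

theorem Bij.left {M : X.Modules} {a b c : X.Opens} (hba : b ≤ a) (hcb : c ≤ b) (h : Bij M a c)
    (h₂ : Bij M b c) : Bij M a b := fun h' => by
  have h0 := h (hcb.trans hba)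
  rw [show (homOfLE (hcb.trans hba)).op = (homOfLE h').op ≫ (homOfLE hcb).op from rfl, Functor.map_comp] at h0
  exact (Function.Bijective.of_comp_iff' (h₂ hcb) _).1 h0

/-- A morphism which is bijective on all small opens is an isomorphism. -/
theorem isIso_of_locally_app {M N : X.Modules} (φ : M ⟶ N)
    (h : ∀ x : X, ∃ W : X.Opens, x ∈ W ∧ ∀ O ≤ W, Function.Bijective (φ.app O)) : IsIso φ := by
  choose W hxW hW using h
  rw [Scheme.Modules.Hom.isIso_iff_isIso_app]
  intro O
  have hcov : O ≤ ⨆ x : X, O ⊓ W x := fun y hy => Opens.mem_iSup.2 ⟨y, hy, hxW y⟩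
  let F : TopCat.Sheaf Ab.{u} X.carrier := ⟨M.presheaf, M.isSheaf⟩
  let G : TopCat.Sheaf Ab.{u} X.carrier := ⟨N.presheaf, N.isSheaf⟩
  rw [ConcreteCategory.isIso_iff_bijective]
  constructor
  · intro s t hst
    refine F.eq_of_locally_eq' (fun x : X => O ⊓ W x) O (fun x => homOfLE inf_le_left) hcov s t fun x => ?_
    apply (hW x (O ⊓ W x) inf_le_right).1
    exact (DCohLib.app_natural φ inf_le_left s).trans
      ((congrArg _ hst).trans (DCohLib.app_natural φ inf_le_left t).symm)
  · intro t
    choose s hs using fun x => (hW x (O ⊓ W x) inf_le_right).2 (N.presheaf.map (homOfLE inf_le_left).op t)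
    have hcompat : TopCat.Presheaf.IsCompatible M.presheaf (fun x : X => O ⊓ W x) s := by
      intro x y
      apply (hW x ((O ⊓ W x) ⊓ (O ⊓ W y)) (inf_le_left.trans inf_le_right)).1
      refine (DCohLib.app_natural φ inf_le_left (s x)).trans
        (Eq.trans ?_ (DCohLib.app_natural φ inf_le_right (s y)).symm)
      rw [hs, hs, ← ConcreteCategory.comp_apply, ← ConcreteCategory.comp_apply, ← Functor.map_comp,
        ← Functor.map_comp]
      rfl
    obtain ⟨g, hg, -⟩ := F.existsUnique_gluing' (fun x : X => O ⊓ W x) O (fun x => homOfLE inf_le_left) hcov s hcompat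
    refine ⟨g, G.eq_of_locally_eq' (fun x : X => O ⊓ W x) O (fun x => homOfLE inf_le_left) hcov _ _ fun x => ?_⟩
    exact (DCohLib.app_natural φ inf_le_left g).symm.trans ((congrArg _ (hg x)).trans (hs x))

/-- `M` is the direct image of its restriction. -/
def IsClosed' (j : U ⟶ V) [IsOpenImmersion j] (M : V.Modules) : Prop :=
  IsIso ((Scheme.Modules.restrictAdjunction j).unit.app M)

theorem isClosed'_iff (j : U ⟶ V) [IsOpenImmersion j] (M : V.Modules) :
    IsClosed' j M ↔ ∀ O : V.Opens, Bij M O (j ''ᵁ (j ⁻¹ᵁ O)) := by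
  rw [IsClosed', Scheme.Modules.Hom.isIso_iff_isIso_app]
  refine forall_congr' fun O => ?_
  rw [ConcreteCategory.isIso_iff_bijective, Scheme.Modules.restrictAdjunction_unit_app_app]
  exact ⟨fun h _ => h, fun h => h _⟩

theorem isClosed'_pushforward (j : U ⟶ V) [IsOpenImmersion j] (N : U.Modules) :
    IsClosed' j ((Scheme.Modules.pushforward j).obj N) := by
  haveI : IsIso ((Scheme.Modules.restrictAdjunction j).unit.app ((Scheme.Modules.pushforward j).obj N) ≫
      (Scheme.Modules.pushforward j).map ((Scheme.Modules.restrictAdjunction j).counit.app N)) := by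
    rw [(Scheme.Modules.restrictAdjunction j).right_triangle_components]
    infer_instance
  exact IsIso.of_isIso_comp_right _
    ((Scheme.Modules.pushforward j).map ((Scheme.Modules.restrictAdjunction j).counit.app N))

theorem isClosed'_of_iso (j : U ⟶ V) [IsOpenImmersion j] {M N : V.Modules} (e : M ≅ N)
    (h : IsClosed' j M) : IsClosed' j N := by
  haveI : IsIso ((Scheme.Modules.restrictAdjunction j).unit.app M) := h
  haveI : IsIso (e.hom ≫ (Scheme.Modules.restrictAdjunction j).unit.app N) := by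
    rw [show e.hom ≫ (Scheme.Modules.restrictAdjunction j).unit.app N = _ from
      (Scheme.Modules.restrictAdjunction j).unit.naturality e.hom]
    infer_instance
  exact IsIso.of_isIso_comp_left e.hom _

/-- Transport of bijectivity along an isomorphism over an open. -/
theorem bij_of_restrict_iso {W : Scheme.{u}} (i : W ⟶ X) [IsOpenImmersion i] {M N : X.Modules}
    (e : M.restrict i ≅ N.restrict i) (a b : W.Opens) (hba : b ≤ a) (h : Bij M (i ''ᵁ a) (i ''ᵁ b)) :
    Bij N (i ''ᵁ a) (i ''ᵁ b) := by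
  intro hle
  have ha : Function.Bijective (e.hom.app a) := ConcreteCategory.bijective_of_isIso _
  have hb : Function.Bijective (e.hom.app b) := ConcreteCategory.bijective_of_isIso _
  refine (Function.Bijective.of_comp_iff _ ha).1 ?_
  have : (N.presheaf.map (homOfLE hle).op : _ → _) ∘ e.hom.app a
      = e.hom.app b ∘ (M.presheaf.map (homOfLE hle).op : _ → _) :=
    funext fun s => (DCohLib.app_natural e.hom hba s).symm
  exact Eq.mpr (congrArg Function.Bijective this) (hb.comp (h hle))

theorem bij_of_restrict_iso' {W : X.Opens} {M N : X.Modules} (e : M.restrict W.ι ≅ N.restrict W.ι)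
    {a b : X.Opens} (ha : a ≤ W) (hba : b ≤ a) (h : Bij M a b) : Bij N a b := by
  have e₁ : ∀ c : X.Opens, c ≤ W → W.ι ''ᵁ (W.ι ⁻¹ᵁ c) = c := fun c hc => by
    rw [Scheme.Hom.image_preimage_eq_opensRange_inf, Scheme.Opens.opensRange_ι, inf_eq_right.2 hc]
  have := bij_of_restrict_iso W.ι e (W.ι ⁻¹ᵁ a) (W.ι ⁻¹ᵁ b) (fun x hx => hba hx)
  rw [e₁ a ha, e₁ b (hba.trans ha)] at this
  exact this h

theorem isInvertible_of_iso {M N : X.Modules} (e : M ≅ N) (h : PicF.IsInvertible M) : PicF.IsInvertible N :=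
  fun x => by
    obtain ⟨W, hx, ⟨i⟩⟩ := h x
    exact ⟨W, hx, ⟨((Scheme.Modules.restrictFunctor W.ι).mapIso e).symm ≪≫ i⟩⟩

/-- Restriction along a composite. -/
def restrictComp {W : Scheme.{u}} (f : U ⟶ V) (g : V ⟶ W) [IsOpenImmersion f] [IsOpenImmersion g]
    (M : W.Modules) : M.restrict (f ≫ g) ≅ (M.restrict g).restrict f :=
  (Scheme.Modules.restrictFunctorComp f g).app M

/-- Restriction along equal maps. -/
def restrictCongr {f g : U ⟶ V} (h : f = g) [IsOpenImmersion f] [IsOpenImmersion g] (M : V.Modules) :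
    M.restrict f ≅ M.restrict g :=
  (Scheme.Modules.restrictFunctorCongr h).app M

theorem isInvertible_restrict (f : U ⟶ V) [IsOpenImmersion f] {L : V.Modules} (h : PicF.IsInvertible L) :
    PicF.IsInvertible (L.restrict f) := fun x => by
  obtain ⟨W, hx, ⟨i⟩⟩ := h (f x)
  refine ⟨f ⁻¹ᵁ W, hx, ⟨(restrictComp (f ⁻¹ᵁ W).ι f L).symm ≪≫
    restrictCongr (morphismRestrict_ι f W).symm L ≪≫ restrictComp (f ∣_ W) W.ι L ≪≫
    (Scheme.Modules.restrictFunctor (f ∣_ W)).mapIso i ≪≫ DCohLib.restrictUnit (f ∣_ W)⟩⟩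

theorem isInvertible_of_locally {M : X.Modules}
    (h : ∀ x : X, ∃ W : X.Opens, x ∈ W ∧ PicF.IsInvertible (M.restrict W.ι)) : PicF.IsInvertible M :=
  fun x => by
    obtain ⟨W, hx, hW⟩ := h x
    obtain ⟨W', hx', ⟨i⟩⟩ := hW ⟨x, hx⟩
    refine ⟨W.ι ''ᵁ W', ⟨⟨x, hx⟩, hx', rfl⟩, ?_⟩
    let e := W.ι.isoImage W'
    have he : e.inv ≫ W'.ι ≫ W.ι = (W.ι ''ᵁ W').ι := by
      rw [← Scheme.Hom.isoImage_hom_ι]
      simp [e]
    exact ⟨(restrictCongr he M).symm ≪≫ restrictComp e.inv (W'.ι ≫ W.ι) M ≪≫
      (Scheme.Modules.restrictFunctor e.inv).mapIso (restrictComp W'.ι W.ι M ≪≫ i) ≪≫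
      DCohLib.restrictUnit e.inv⟩

/-- If the structure sheaf is the direct image of its restriction then so is every invertible module. -/
theorem isClosed'_of_invertible (j : U ⟶ V) [IsOpenImmersion j]
    (h : IsClosed' j (Coh.structureModule V)) {L : V.Modules} (hL : PicF.IsInvertible L) : IsClosed' j L := by
  refine isIso_of_locally_app _ fun x => ?_
  obtain ⟨W, hx, ⟨i⟩⟩ := hL x
  refine ⟨W, hx, fun O hO => ?_⟩
  rw [Scheme.Modules.restrictAdjunction_unit_app_app]
  exact bij_of_restrict_iso' (i ≪≫ (DCohLib.restrictUnit W.ι).symm).symm hO (j.image_preimage_le O)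
    ((isClosed'_iff j _).1 h O) _

theorem restrict_bijective (j : U ⟶ V) [IsOpenImmersion j] (L L' : V.Modules) (h : IsClosed' j L') :
    Function.Bijective (fun φ : L ⟶ L' => (Scheme.Modules.restrictFunctor j).map φ) := by
  haveI : IsIso ((Scheme.Modules.restrictAdjunction j).unit.app L') := h
  let adj := Scheme.Modules.restrictAdjunction j
  have e : (fun φ : L ⟶ L' => (Scheme.Modules.restrictFunctor j).map φ)
      = (adj.homEquiv L ((Scheme.Modules.restrictFunctor j).obj L')).symm ∘
        fun φ : L ⟶ L' => φ ≫ adj.unit.app L' := funext fun φ => by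
    refine ((Equiv.symm_apply_eq _).2 ?_).symm
    rw [Adjunction.homEquiv_unit]
    exact adj.unit.naturality φ
  rw [e]
  exact (Equiv.bijective _).comp ((asIso (adj.unit.app L')).homToEquiv (Z := L)).bijective

/-- The isomorphism between two closed modules with isomorphic restrictions. -/
def isoOfRestrict (j : U ⟶ V) [IsOpenImmersion j] {M N : V.Modules} (hM : IsClosed' j M) (hN : IsClosed' j N)
    (e : M.restrict j ≅ N.restrict j) : M ≅ N :=
  haveI : IsIso ((Scheme.Modules.restrictAdjunction j).unit.app M) := hM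
  haveI : IsIso ((Scheme.Modules.restrictAdjunction j).unit.app N) := hN
  asIso ((Scheme.Modules.restrictAdjunction j).unit.app M) ≪≫ (Scheme.Modules.pushforward j).mapIso e ≪≫
    (asIso ((Scheme.Modules.restrictAdjunction j).unit.app N)).symm

/-- `O_X (a) → O_X (j (j⁻¹ a))` is bijective when restriction is fully faithful on the structure module. -/
theorem bij_top_of_restrict_bijective (j : U ⟶ V) [IsOpenImmersion j]
    (h : Function.Bijective (fun φ : Coh.structureModule V ⟶ Coh.structureModule V =>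
      (Scheme.Modules.restrictFunctor j).map φ)) :
    Bij (Coh.structureModule V) ⊤ (j ''ᵁ ⊤) := by
  intro hle
  have hinv : (DCohLib.restrictUnit j).inv.app ⊤ (1 : Γ(U, ⊤)) = (1 : Γ(V, j ''ᵁ ⊤)) := by
    exact map_one (j.appIso ⊤).inv.hom
  constructor
  · intro s t hst
    have e1 : DCohLib.secHom (Coh.structureModule V) s = DCohLib.secHom (Coh.structureModule V) t := by
      apply h.1
      rw [← cancel_epi (DCohLib.restrictUnit j).inv]
      refine DCohLib.hom_unit_ext ?_
      show (DCohLib.secHom _ s).app (j ''ᵁ ⊤) ((DCohLib.restrictUnit j).inv.app ⊤ (1 : Γ(U, ⊤)))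
        = (DCohLib.secHom _ t).app (j ''ᵁ ⊤) ((DCohLib.restrictUnit j).inv.app ⊤ (1 : Γ(U, ⊤)))
      erw [hinv]
      refine (DCohLib.secHom_app_one _ s _).trans (Eq.trans ?_ (DCohLib.secHom_app_one _ t _).symm)
      exact hst
    have e2 := congrArg (fun φ : Coh.structureModule V ⟶ Coh.structureModule V => φ.app ⊤ (1 : Γ(V, ⊤))) e1
    simp only [DCohLib.secHom_app_one] at e2
    simpa using e2
  · intro t
    obtain ⟨φ, hφ⟩ := h.2 ((DCohLib.restrictUnit j).hom ≫
      DCohLib.secHom ((Scheme.Modules.restrictFunctor j).obj (Coh.structureModule V)) t)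
    refine ⟨φ.app ⊤ (1 : Γ(V, ⊤)), (DCohLib.app_one_natural φ hle).trans ?_⟩
    have e3 : φ.app (j ''ᵁ ⊤) ((DCohLib.restrictUnit j).inv.app ⊤ (1 : Γ(U, ⊤)))
        = ((DCohLib.restrictUnit j).inv ≫ (Scheme.Modules.restrictFunctor j).map φ).app ⊤ (1 : Γ(U, ⊤)) := rfl
    erw [← hinv, e3]
    simp only at hφ
    rw [hφ, Iso.inv_hom_id_assoc]
    refine (DCohLib.secHom_app_one (Y := U) ((Scheme.Modules.restrictFunctor j).obj (Coh.structureModule V)) t ⊤).trans ?_
    have hid : ((Scheme.Modules.restrictFunctor j).obj (Coh.structureModule V)).presheaf.map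
        (homOfLE (le_top : (⊤ : U.Opens) ≤ ⊤)).op = 𝟙 _ := CategoryTheory.Functor.map_id _ _
    exact ConcreteCategory.congr_hom hid t

end Groth.Agent.ParaFLib
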