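import Groth.Prelude.Def_ParaF
import Groth.Agent.ParaFLib.Basic

/-!
# Parafactorial pairs: description through closedness of the structure sheaf
-/

set_option autoImplicit false
set_option linter.style.haveILetI false

universe u

open CategoryTheory AlgebraicGeometry TopologicalSpace Opposite ParaF

noncomputable section

namespace Groth.Agent.ParaFLib

variable {X U V : Scheme.{u}}

/-- Restriction of functions to the complement of `Y` is bijective. -/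
def RingClosed (X : Scheme.{u}) (Y : Closeds X) : Prop :=
  ∀ O : X.Opens, Bij (Coh.structureModule X) O (O ⊓ Y.compl)

/-- Invertible modules extend across `Y`. -/
def Extends (X : Scheme.{u}) (Y : Closeds X) : Prop :=
  ∀ ⦃V U : Scheme.{u}⦄ (i : V ⟶ X) [IsOpenImmersion i] (j : U ⟶ V) [IsOpenImmersion j],
    (j.opensRange = i ⁻¹ᵁ Y.compl) → ∀ L₀ : U.Modules, PicF.IsInvertible L₀ →
      ∃ L : V.Modules, PicF.IsInvertible L ∧ Nonempty (L.restrict j ≅ L₀)

theorem image_image_preimage (i : V ⟶ X) [IsOpenImmersion i] (j : U ⟶ V) [IsOpenImmersion j] {Y : Closeds X}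
    (hr : j.opensRange = i ⁻¹ᵁ Y.compl) (O : V.Opens) :
    i ''ᵁ (j ''ᵁ (j ⁻¹ᵁ O)) = i ''ᵁ O ⊓ Y.compl := by
  rw [Scheme.Hom.image_preimage_eq_opensRange_inf, hr]
  refine SetLike.coe_injective ?_
  simp only [Scheme.Hom.coe_image, Opens.coe_inf]
  ext x
  constructor
  · rintro ⟨y, ⟨hy₁, hy₂⟩, rfl⟩
    exact ⟨⟨y, hy₂, rfl⟩, hy₁⟩
  · rintro ⟨⟨y, hy₂, rfl⟩, hy₁⟩
    exact ⟨y, ⟨hy₁, hy₂⟩, rfl⟩

theorem RingClosed.isClosed' {Y : Closeds X} (h : RingClosed X Y) (i : V ⟶ X) [IsOpenImmersion i]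
    (j : U ⟶ V) [IsOpenImmersion j] (hr : j.opensRange = i ⁻¹ᵁ Y.compl) :
    IsClosed' j (Coh.structureModule V) := by
  refine isClosed'_of_iso j (DCohLib.restrictUnit i) ?_
  rw [isClosed'_iff]
  intro O hle
  have := h (i ''ᵁ O)
  rw [← image_image_preimage i j hr O] at this
  exact this (i.image_mono hle)

theorem opensRange_homOfLE_inf (W : X.Opens) (Z : X.Opens) :
    (X.homOfLE (inf_le_left : W ⊓ Z ≤ W)).opensRange = W.ι ⁻¹ᵁ Z := by
  rw [Scheme.opensRange_homOfLE]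
  ext x
  exact ⟨fun hx => hx.2, fun hx => ⟨x.2, hx⟩⟩

theorem isParafactorialPair_iff (Y : Closeds X) :
    IsParafactorialPair X Y ↔ RingClosed X Y ∧ Extends X Y := by
  constructor
  · intro h
    refine ⟨fun O hle => ?_, fun V U i _ j _ hr L₀ hL₀ => ?_⟩
    · have h1 := bij_top_of_restrict_bijective (X.homOfLE (inf_le_left : O ⊓ Y.compl ≤ O))
        ((h O).1 _ _ (fun x => ⟨⊤, trivial, ⟨DCohLib.restrictUnit _⟩⟩) (fun x => ⟨⊤, trivial, ⟨DCohLib.restrictUnit _⟩⟩))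
      have h2 := bij_of_restrict_iso O.ι (M := Coh.structureModule X) (N := Coh.structureModule X) (Iso.refl _)
      have h3 : Bij ((Coh.structureModule X).restrict O.ι) ⊤
          ((X.homOfLE (inf_le_left : O ⊓ Y.compl ≤ O)) ''ᵁ ⊤) := by
        refine bij_of_restrict_iso' (W := ⊤) ?_ le_top le_top h1
        exact (Scheme.Modules.restrictFunctor (⊤ : (O : Scheme.{u}).Opens).ι).mapIso
          (DCohLib.restrictUnit O.ι).symm
      have e1 : O.ι ''ᵁ ⊤ = O := O.ι_image_top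
      have e2 : O.ι ''ᵁ ((X.homOfLE (inf_le_left : O ⊓ Y.compl ≤ O)) ''ᵁ ⊤) = O ⊓ Y.compl := by
        rw [Scheme.Hom.image_top_eq_opensRange, opensRange_homOfLE_inf, Scheme.Hom.image_preimage_eq_opensRange_inf,
          Scheme.Opens.opensRange_ι]
      have h4 : Bij (Coh.structureModule X) (O.ι ''ᵁ ⊤)
          (O.ι ''ᵁ ((X.homOfLE (inf_le_left : O ⊓ Y.compl ≤ O)) ''ᵁ ⊤)) := fun _ => h3 le_top
      rw [e1, e2] at h4
      exact h4 hle
    · let W := i.opensRange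
      let j' := X.homOfLE (inf_le_left : W ⊓ Y.compl ≤ W)
      have hW : Set.range (j ≫ i) = Set.range (W ⊓ Y.compl).ι := by
        rw [Scheme.Opens.range_ι, Scheme.Hom.comp_base, TopCat.coe_comp, Set.range_comp,
          ← Scheme.Hom.coe_opensRange, hr, Opens.coe_inf]
        ext x
        exact ⟨fun ⟨y, hy, hyx⟩ => ⟨⟨y, hyx⟩, hyx ▸ hy⟩, fun ⟨⟨y, hyx⟩, hx⟩ => ⟨y, show i y ∈ Y.compl from hyx.symm ▸ hx, hyx⟩⟩
      let e : V ≅ (W : Scheme.{u}) := IsOpenImmersion.isoOfRangeEq i W.ι (by rw [Scheme.Opens.range_ι]; rfl)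
      let e' : U ≅ ((W ⊓ Y.compl : X.Opens) : Scheme.{u}) := IsOpenImmersion.isoOfRangeEq (j ≫ i) (W ⊓ Y.compl).ι hW
      have hsq : j ≫ e.hom = e'.hom ≫ j' := by
        rw [← cancel_mono W.ι]
        simp [e, e', j']
      obtain ⟨L', hL', ⟨φ⟩⟩ := (h W).2 (L₀.restrict e'.inv) (isInvertible_restrict _ hL₀)
      refine ⟨L'.restrict e.hom, isInvertible_restrict _ hL', ⟨(restrictComp j e.hom L').symm ≪≫
        restrictCongr hsq L' ≪≫ restrictComp e'.hom j' L' ≪≫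
        (Scheme.Modules.restrictFunctor e'.hom).mapIso φ ≪≫ (restrictComp e'.hom e'.inv L₀).symm ≪≫
        restrictCongr e'.hom_inv_id L₀ ≪≫ Scheme.Modules.restrictFunctorId.app L₀⟩⟩
  · rintro ⟨h1, h2⟩ W
    exact ⟨fun L L' _ hL' => restrict_bijective _ L L'
        (isClosed'_of_invertible _ (h1.isClosed' W.ι _ (opensRange_homOfLE_inf W Y.compl)) hL'),
      h2 W.ι _ (opensRange_homOfLE_inf W Y.compl)⟩

theorem isParafactorialPair_mono {Y Y' : Closeds X} (hle : Y' ≤ Y) (h : IsParafactorialPair X Y) :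
    IsParafactorialPair X Y' := by
  rw [isParafactorialPair_iff] at h ⊢
  have hc : Y.compl ≤ Y'.compl := fun x hx hx' => hx (hle hx')
  have hring : RingClosed X Y' := by
    intro O
    refine Bij.left (c := O ⊓ Y.compl) inf_le_left (inf_le_inf_left O hc) (h.1 O) ?_
    have := h.1 (O ⊓ Y'.compl)
    rwa [inf_assoc, inf_eq_right.2 hc] at this
  refine ⟨hring, fun V U i _ j _ hr L₀ hL₀ => ?_⟩
  let k : ((j ≫ i) ⁻¹ᵁ Y.compl : U.Opens).toScheme ⟶ U := ((j ≫ i) ⁻¹ᵁ Y.compl).ι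
  have hrk : (k ≫ j).opensRange = i ⁻¹ᵁ Y.compl := by
    rw [Scheme.Hom.opensRange_comp, Scheme.Opens.opensRange_ι, Scheme.Hom.comp_preimage,
      Scheme.Hom.image_preimage_eq_opensRange_inf, hr]
    exact inf_eq_right.2 fun x hx => hc hx
  obtain ⟨L, hL, ⟨φ⟩⟩ := h.2 i (k ≫ j) hrk (L₀.restrict k) (isInvertible_restrict _ hL₀)
  have hk : IsClosed' k (Coh.structureModule U) := h.1.isClosed' (j ≫ i) k (Scheme.Opens.opensRange_ι _)
  exact ⟨L, hL, ⟨isoOfRestrict k (isClosed'_of_invertible k hk (isInvertible_restrict j hL))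
    (isClosed'_of_invertible k hk hL₀) ((restrictComp k j L).symm ≪≫ φ)⟩⟩

theorem opensRange_restrict (f : U ⟶ V) [IsOpenImmersion f] (O : V.Opens) :
    (f ∣_ O).opensRange = O.ι ⁻¹ᵁ f.opensRange := by
  refine SetLike.coe_injective (Set.ext fun y => ?_)
  constructor
  · rintro ⟨x, rfl⟩
    exact ⟨x.1, (morphismRestrict_base_coe f O x).symm⟩
  · rintro ⟨x, hx⟩
    exact ⟨⟨x, show f x ∈ O from hx.symm ▸ y.2⟩, Subtype.ext ((morphismRestrict_base_coe f O _).trans hx)⟩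

theorem closedsIn_compl (W : X.Opens) (Y : Closeds X) : (closedsIn W Y).compl = W.ι ⁻¹ᵁ Y.compl := rfl

theorem isParafactorialPair_restrict (W : X.Opens) {Y : Closeds X} (h : IsParafactorialPair X Y) :
    IsParafactorialPair (W : Scheme.{u}) (closedsIn W Y) := by
  rw [isParafactorialPair_iff] at h ⊢
  refine ⟨fun O hle => ?_, fun V U i _ j _ hr => h.2 (i ≫ W.ι) j ?_⟩
  · have h1 := h.1 (W.ι ''ᵁ O)
    have e : W.ι ''ᵁ (O ⊓ (closedsIn W Y).compl) = W.ι ''ᵁ O ⊓ Y.compl := by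
      refine SetLike.coe_injective ?_
      simp only [Scheme.Hom.coe_image, Opens.coe_inf, closedsIn_compl]
      ext x
      exact ⟨fun ⟨y, ⟨hy₁, hy₂⟩, hyx⟩ => ⟨⟨y, hy₁, hyx⟩, hyx ▸ hy₂⟩,
        fun ⟨⟨y, hy₁, hyx⟩, hx⟩ => ⟨y, ⟨hy₁, show W.ι y ∈ Y.compl by rw [show W.ι y = x from hyx]; exact hx⟩, hyx⟩⟩
    rw [← e] at h1
    exact bij_of_restrict_iso' (W := (⊤ : (W : Scheme.{u}).Opens))
      (M := (Coh.structureModule X).restrict W.ι)
      ((Scheme.Modules.restrictFunctor _).mapIso (DCohLib.restrictUnit W.ι))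
      le_top inf_le_left (fun hh => h1 (Scheme.Hom.image_mono _ hh)) hle
  · rw [hr, Scheme.Hom.comp_preimage]
    rfl

theorem isParafactorialPair_of_openCover {ι : Type u} (Y : Closeds X) (W : ι → X.Opens) (hW : ⨆ i, W i = ⊤)
    (h : ∀ i, IsParafactorialPair (W i : Scheme.{u}) (closedsIn (W i) Y)) : IsParafactorialPair X Y := by
  simp only [isParafactorialPair_iff] at h ⊢
  have hring : RingClosed X Y := by
    intro O
    have h1 : IsClosed' (Scheme.Opens.ι (X := X) Y.compl) (Coh.structureModule X) := by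
      refine isIso_of_locally_app _ fun x => ?_
      obtain ⟨i, hi⟩ := Opens.mem_iSup.1 (show x ∈ ⨆ i, W i by rw [hW]; trivial)
      refine ⟨W i, hi, fun a ha => ?_⟩
      rw [Scheme.Modules.restrictAdjunction_unit_app_app]
      have e : ∀ c : X.Opens, c ≤ W i → (W i).ι ''ᵁ ((W i).ι ⁻¹ᵁ c) = c := fun c hc => by
        rw [Scheme.Hom.image_preimage_eq_opensRange_inf, Scheme.Opens.opensRange_ι, inf_eq_right.2 hc]
      have h2 : Bij ((Coh.structureModule X).restrict (W i).ι) ((W i).ι ⁻¹ᵁ a)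
          ((W i).ι ⁻¹ᵁ a ⊓ (closedsIn (W i) Y).compl) :=
        bij_of_restrict_iso' (W := ⊤)
          ((Scheme.Modules.restrictFunctor _).mapIso (DCohLib.restrictUnit (W i).ι).symm)
          le_top inf_le_left ((h i).1 _)
      have h3 : Bij (Coh.structureModule X) ((W i).ι ''ᵁ ((W i).ι ⁻¹ᵁ a))
          ((W i).ι ''ᵁ ((W i).ι ⁻¹ᵁ (a ⊓ Y.compl))) := fun _ => h2 inf_le_left
      rw [e a ha, e (a ⊓ Y.compl) (inf_le_left.trans ha)] at h3
      have e' : (Scheme.Opens.ι (X := X) Y.compl) ''ᵁ ((Scheme.Opens.ι (X := X) Y.compl) ⁻¹ᵁ a) = a ⊓ Y.compl := by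
        rw [Scheme.Hom.image_preimage_eq_opensRange_inf, Scheme.Opens.opensRange_ι, inf_comm]
      rw [← e'] at h3
      exact h3 _
    have := (isClosed'_iff _ _).1 h1 O
    rwa [Scheme.Hom.image_preimage_eq_opensRange_inf, Scheme.Opens.opensRange_ι, inf_comm] at this
  refine ⟨hring, fun V U i _ j _ hr L₀ hL₀ => ?_⟩
  let M := (Scheme.Modules.pushforward j).obj L₀
  let c : M.restrict j ≅ L₀ := asIso ((Scheme.Modules.restrictAdjunction j).counit.app L₀)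
  refine ⟨M, isInvertible_of_locally fun x => ?_, ⟨c⟩⟩
  obtain ⟨n, hn⟩ := Opens.mem_iSup.1 (show i x ∈ ⨆ n, W n by rw [hW]; trivial)
  refine ⟨i ⁻¹ᵁ W n, hn, ?_⟩
  let V' := i ⁻¹ᵁ W n
  let j' := j ∣_ V'
  have hr' : j'.opensRange = (i ∣_ W n) ⁻¹ᵁ (closedsIn (W n) Y).compl := by
    rw [opensRange_restrict, hr, closedsIn_compl, ← Scheme.Hom.comp_preimage, ← Scheme.Hom.comp_preimage,
      morphismRestrict_ι]
  obtain ⟨L, hL, ⟨φ⟩⟩ := (h n).2 (i ∣_ W n) j' hr' (L₀.restrict (j ⁻¹ᵁ V').ι) (isInvertible_restrict _ hL₀)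
  have hM : IsClosed' j' (M.restrict V'.ι) := by
    rw [isClosed'_iff]
    intro O hle
    have h1 := (isClosed'_iff j M).1 (isClosed'_pushforward j L₀) (V'.ι ''ᵁ O)
    have e : V'.ι ''ᵁ (j' ''ᵁ (j' ⁻¹ᵁ O)) = j ''ᵁ (j ⁻¹ᵁ (V'.ι ''ᵁ O)) := by
      rw [Scheme.Hom.image_preimage_eq_opensRange_inf, Scheme.Hom.image_preimage_eq_opensRange_inf,
        opensRange_restrict]
      refine SetLike.coe_injective ?_
      simp only [Scheme.Hom.coe_image, Opens.coe_inf]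
      ext x
      exact ⟨fun ⟨y, ⟨hy₁, hy₂⟩, hyx⟩ => ⟨hyx ▸ hy₁, ⟨y, hy₂, hyx⟩⟩,
        fun ⟨hx, ⟨y, hy₂, hyx⟩⟩ => ⟨y, ⟨show V'.ι y ∈ j.opensRange by rw [show V'.ι y = x from hyx]; exact hx, hy₂⟩, hyx⟩⟩
    rw [← e] at h1
    exact h1 (Scheme.Hom.image_mono _ hle)
  exact isInvertible_of_iso (isoOfRestrict j'
    (isClosed'_of_invertible j' ((h n).1.isClosed' (i ∣_ W n) j' hr') hL) hM
    (φ ≪≫ ((Scheme.Modules.restrictFunctor (j ⁻¹ᵁ V').ι).mapIso c).symm ≪≫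
      (restrictComp (j ⁻¹ᵁ V').ι j M).symm ≪≫ restrictCongr (morphismRestrict_ι j V').symm M ≪≫
      restrictComp j' V'.ι M)) hL

end Groth.Agent.ParaFLib
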