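import Groth.Agent.ParaFLib.Stalkwise
import Groth.Agent.ParaFLib.Punctured
import Groth.Agent.ParaFLib.Pair
import Groth.Agent.AssLib.Depth2
import Groth.Agent.DevLib.Closed

/-! Parafactorial pairs are detected on local rings. -/

set_option autoImplicit false
set_option linter.style.haveILetI false

universe u

open CategoryTheory AlgebraicGeometry TopologicalSpace Opposite

noncomputable section

namespace Groth.Agent.ParaFLib

variable {X : Scheme.{u}}

/-- Depth at least two where functions extend. -/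
theorem two_le_depth_of_ringClosed [IsLocallyNoetherian X] {Y : Closeds X} (h : RingClosed X Y) (x : X) (hx : x ∈ Y) :
    (2 : ℕ∞) ≤ LocCoh.depth (X.presheaf.stalk x) (X.presheaf.stalk x) := by
  haveI : Coh.IsQCoh (Coh.structureModule X) := (DevLib.isCoh_structureModule X).1
  have h2 := AssLib.two_le_depth_of_bijective (U := Y.compl) (DevLib.isCoh_structureModule X)
    (fun V => h V inf_le_left) (fun h' => h' hx)
  exact h2.trans_eq (Depth.depth_congr
    (LinearEquiv.ofBijective (LinearMap.toSpanSingleton _ _ (oneG x)) (bijective_oneG x)).symm)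

/-- A parafactorial local ring has depth at least two. -/
theorem two_le_depth_of_parafactorial (A : Type u) [CommRing A] [IsNoetherianRing A] [IsLocalRing A]
    (h : ParaF.IsParafactorialLocalRing A) : (2 : ℕ∞) ≤ LocCoh.depth A A := by
  haveI : IsNoetherianRing (CommRingCat.of A) := inferInstanceAs (IsNoetherianRing A)
  haveI : IsLocalRing (CommRingCat.of A) := inferInstanceAs (IsLocalRing A)
  let X := Spec (CommRingCat.of A)
  let x : X := IsLocalRing.closedPoint A
  have hx := two_le_depth_of_ringClosed ((isParafactorialPair_iff (closedPt A)).1 h).1 x rfl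
  haveI : IsNoetherianRing (X.presheaf.stalk x) :=
    isNoetherianRing_of_ringEquiv A (stalkClosedPointIso (CommRingCat.of A)).commRingCatIsoToRingEquiv.symm
  exact hx.trans_eq (GeomRk.depth_congr_ringEquiv
    ((stalkClosedPointIso (CommRingCat.of A)).commRingCatIsoToRingEquiv.symm : A ≃+* X.presheaf.stalk x))

/-- Trivial Picard group of punctured spectra along ring isomorphisms. -/
theorem picTrivial_punctured_of_ringEquiv {A B : Type u} [CommRing A] [IsLocalRing A] [CommRing B] [IsLocalRing B]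
    (e : A ≃+* B) (h : ParaF.PicTrivial (FEt.puncturedSpec A : Scheme.{u})) :
    ParaF.PicTrivial (FEt.puncturedSpec B : Scheme.{u}) := by
  let f : Spec (CommRingCat.of B) ⟶ Spec (CommRingCat.of A) := Spec.map (CommRingCat.ofHom e.toRingHom)
  haveI : IsIso (CommRingCat.ofHom e.toRingHom) := e.toCommRingCatIso.isIso_hom
  haveI : IsIso f := by infer_instance
  have hpre : f ⁻¹ᵁ FEt.puncturedSpec A = FEt.puncturedSpec B := by
    haveI : IsLocalHom e.toRingHom := isLocalHom_toRingHom e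
    have key : f (IsLocalRing.closedPoint B) = IsLocalRing.closedPoint A := IsLocalRing.comap_closedPoint e.toRingHom
    ext z
    show ¬ (f z = IsLocalRing.closedPoint A) ↔ ¬ (z = IsLocalRing.closedPoint B)
    rw [not_iff_not]
    exact ⟨fun hz => f.isOpenEmbedding.injective (hz.trans key.symm), fun hz => hz ▸ key⟩
  exact picTrivial_of_iso ((Spec (CommRingCat.of B)).isoOfEq hpre.symm ≪≫ asIso (f ∣_ FEt.puncturedSpec A)) h

/-- The stalk of the scheme at a point of an affine chart, as the local ring of the chart. -/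
def locEquiv {R : CommRingCat.{u}} (i : Spec R ⟶ X) [IsOpenImmersion i] (y : Spec R) :
    X.presheaf.stalk (i y) ≃+* locR (R := R) y :=
  (asIso (i.stalkMap y)).commRingCatIsoToRingEquiv.trans
    (IsLocalization.algEquiv (show PrimeSpectrum R from y).asIdeal.primeCompl
      ((Spec.structureSheaf R).presheaf.stalk y) (locR (R := R) y)).toRingEquiv

/-- A basis on the trace of an open across which sections extend uniquely gives a basis. -/
theorem exists_gen_of_bij {M : X.Modules} {W U : X.Opens}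
    (hR : ∀ O : X.Opens, O ≤ W → Bij (Coh.structureModule X) O (O ⊓ U))
    (hM : ∀ O : X.Opens, O ≤ W → Bij M O (O ⊓ U))
    (h : ∃ s : Γ(M, W ⊓ U), Gen (W ⊓ U) s) : ∃ s : Γ(M, W), Gen W s := by
  obtain ⟨s, hs⟩ := h
  obtain ⟨s', hs'⟩ := (hM W le_rfl inf_le_left).2 s
  refine ⟨s', fun O hO => ?_⟩
  have h1 := (hM O hO) inf_le_left
  refine (Function.Bijective.of_comp_iff' h1 _).1 ?_
  have e : (M.presheaf.map (homOfLE (inf_le_left : O ⊓ U ≤ O)).op : _ → _) ∘ (fun r : Γ(X, O) => r • M.presheaf.map (homOfLE hO).op s')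
      = (fun r : Γ(X, O ⊓ U) => r • M.presheaf.map (homOfLE (inf_le_inf_right U hO)).op s) ∘
        fun r : Γ(X, O) => X.presheaf.map (homOfLE (inf_le_left : O ⊓ U ≤ O)).op r := funext fun r => by
    show M.presheaf.map _ (r • _) = _ • _
    rw [M.map_smul, res_res, ← hs', res_res]
  rw [e]
  exact (hs _ (inf_le_inf_right U hO)).comp (hR O hO inf_le_left)

theorem isParafactorialLocalRing_stalk_of_pair [IsLocallyNoetherian X] {Y : Closeds X}
    (h : ParaF.IsParafactorialPair X Y) (x : X) (hx : x ∈ Y) : ParaF.IsParafactorialLocalRing (X.presheaf.stalk x) := by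
  classical
  have hd := two_le_depth_of_ringClosed ((isParafactorialPair_iff Y).1 h).1 x hx
  refine (isParafactorialLocalRing_iff _).2 ⟨bijective_res_punctured_of_depth _ hd, ?_⟩
  obtain ⟨_, ⟨A : X.Opens, hA, rfl⟩, hxA, -⟩ :=
    X.isBasis_affineOpens.exists_subset_of_mem_open (Set.mem_univ x) isOpen_univ
  let R : CommRingCat.{u} := Γ(X, A)
  haveI : IsNoetherianRing R := IsLocallyNoetherian.component_noetherian ⟨A, hA⟩
  let i : Spec R ⟶ X := hA.fromSpec
  haveI : IsOpenImmersion i := hA.isOpenImmersion_fromSpec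
  obtain ⟨y, rfl⟩ : ∃ y : Spec R, i y = x := hA.range_fromSpec.ge hxA
  refine picTrivial_punctured_of_ringEquiv (locEquiv i y).symm ?_
  refine picTrivial_punctured_of_gen_near (R := R) y fun g hg M hM => ?_
  let Y' : Closeds X := ⟨closure {i y}, isClosed_closure⟩
  have hY' : ParaF.IsParafactorialPair X Y' :=
    isParafactorialPair_mono (fun z hz => closure_minimal (Set.singleton_subset_iff.2 hx) Y.isClosed hz) h
  have hpre : i ⁻¹ᵁ Y'.compl = nonV (R := R) (show PrimeSpectrum R from y).asIdeal := by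
    ext z
    show ¬ (i z ∈ closure {i y}) ↔ ¬ _ ≤ (show PrimeSpectrum R from z).asIdeal
    rw [not_iff_not, ← specializes_iff_mem_closure, i.isOpenEmbedding.isInducing.specializes_iff]
    exact (PrimeSpectrum.le_iff_specializes (show PrimeSpectrum R from y) (show PrimeSpectrum R from z)).symm
  let W : (Spec R).Opens := D (R := R) g
  let N : (Spec R).Opens := nonV (R := R) (show PrimeSpectrum R from y).asIdeal
  let P : (W : Scheme.{u}).Opens := W.ι ⁻¹ᵁ N
  have hP : P.ι.opensRange = (W.ι ≫ i) ⁻¹ᵁ Y'.compl := by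
    rw [Scheme.Opens.opensRange_ι, Scheme.Hom.comp_preimage, hpre]
  have hinv : PicF.IsInvertible ((M.restrict W.ι).restrict P.ι) := by
    refine isInvertible_restrict_of_cover _ P fun z hz => ?_
    obtain ⟨V, e, hzV, he⟩ := hM z.1 ⟨z.2, hz⟩
    exact ⟨W.ι ⁻¹ᵁ V, hzV, nonempty_iso_of_gen ((gen_restrict_iff W.ι _).2 (he.res (W.ι.image_preimage_le V)))⟩
  obtain ⟨L, hL, ⟨φ⟩⟩ := ((isParafactorialPair_iff Y').1 hY').2 (W.ι ≫ i) P.ι hP _ hinv
  obtain ⟨V, s, hyV, hs⟩ := exists_gen_nhd hL ⟨y, hg⟩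
  let V' := V ⊓ P
  obtain ⟨e⟩ := nonempty_iso_of_gen (hs.res (inf_le_left : V' ≤ V))
  let k := (W : Scheme.{u}).homOfLE (inf_le_right : V' ≤ P)
  have hk : k ≫ P.ι = V'.ι := Scheme.homOfLE_ι _ _
  obtain ⟨s', hs'⟩ := exists_gen_of_iso ((restrictCongr hk (M.restrict W.ι)).symm ≪≫ restrictComp k P.ι (M.restrict W.ι) ≪≫
    (Scheme.Modules.restrictFunctor k).mapIso φ.symm ≪≫ (restrictComp k P.ι L).symm ≪≫ restrictCongr hk L ≪≫ e)
  have hG := (gen_restrict_iff W.ι _).1 hs'
  obtain ⟨m, hym, hmle⟩ := exists_D_le (R := R) (show y ∈ W.ι ''ᵁ V from ⟨⟨y, hg⟩, hyV, rfl⟩)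
  refine ⟨m, hym, _, hG.res (fun z hz => ?_)⟩
  obtain ⟨w, hw, rfl⟩ := hmle hz.1
  exact ⟨w, V'.ι_image_top.ge ⟨hw, hz.2⟩, rfl⟩

theorem isParafactorialPair_of_stalks [IsLocallyNoetherian X] {Y : Closeds X}
    (h : ∀ x : X, x ∈ Y → ParaF.IsParafactorialLocalRing (X.presheaf.stalk x)) : ParaF.IsParafactorialPair X Y := by
  classical
  have hRC : RingClosed X Y := ringClosed_of_depth Y fun x hx => two_le_depth_of_parafactorial _ (h x hx)
  refine (isParafactorialPair_iff Y).2 ⟨hRC, fun V U i _ j _ hr L₀ hL₀ => ?_⟩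
  let M := (Scheme.Modules.pushforward j).obj L₀
  refine ⟨M, ?_, ⟨asIso ((Scheme.Modules.restrictAdjunction j).counit.app L₀)⟩⟩
  haveI : IsLocallyNoetherian V := isLocallyNoetherian_of_isOpenImmersion i
  suffices hall : ∀ v : V, ∃ (W : V.Opens) (s : Γ(M, W)), v ∈ W ∧ Gen W s by
    intro v
    obtain ⟨W, s, hvW, hs⟩ := hall v
    exact ⟨W, hvW, nonempty_iso_of_gen hs⟩
  intro v₀
  obtain ⟨_, ⟨A : V.Opens, hA, rfl⟩, hvA, -⟩ :=
    V.isBasis_affineOpens.exists_subset_of_mem_open (Set.mem_univ v₀) isOpen_univ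
  let R : CommRingCat.{u} := Γ(V, A)
  haveI : IsNoetherianRing R := IsLocallyNoetherian.component_noetherian ⟨A, hA⟩
  let c : Spec R ⟶ V := hA.fromSpec
  haveI : IsOpenImmersion c := hA.isOpenImmersion_fromSpec
  obtain ⟨z₀, rfl⟩ : ∃ z₀ : Spec R, c z₀ = v₀ := hA.range_fromSpec.ge hvA
  let MR := M.restrict c
  suffices hR : ∀ z : PrimeSpectrum R, ∃ (W : (Spec R).Opens) (s : Γ(MR, W)), z ∈ W ∧ Gen W s by
    obtain ⟨W, s, hzW, hs⟩ := hR z₀
    exact ⟨c ''ᵁ W, s, ⟨z₀, hzW, rfl⟩, (gen_restrict_iff c s).1 hs⟩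
  let G : (Spec R).Opens := ⨆ W : {W : (Spec R).Opens // ∃ s : Γ(MR, W), Gen W s}, W.1
  have hmemG : ∀ z : PrimeSpectrum R, z ∈ G → ∃ (W : (Spec R).Opens) (s : Γ(MR, W)), z ∈ W ∧ Gen W s := fun z hz => by
    obtain ⟨⟨W, s, hs⟩, hzW⟩ := Opens.mem_iSup.1 hz
    exact ⟨W, s, hzW, hs⟩
  suffices hG : ∀ z : PrimeSpectrum R, z ∈ G from fun z => hmemG z (hG z)
  obtain ⟨I, hI⟩ : ∃ I : Ideal R, (SetLike.coe G : Set (PrimeSpectrum R))ᶜ = PrimeSpectrum.zeroLocus (I : Set R) :=
    (PrimeSpectrum.isClosed_iff_zeroLocus_ideal _).1 G.isOpen.isClosed_compl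
  have hnot : ∀ z : PrimeSpectrum R, z ∉ G ↔ I ≤ z.asIdeal := fun z => by
    show z ∈ (SetLike.coe G : Set (PrimeSpectrum R))ᶜ ↔ _
    rw [hI]
    rfl
  intro z
  by_contra hz
  have hfin := Ideal.finite_minimalPrimes_of_isNoetherianRing R I
  obtain ⟨q, hq, -⟩ := Ideal.exists_minimalPrimes_le ((hnot z).1 hz)
  let y : PrimeSpectrum R := ⟨q, hq.1.1⟩
  have hyG : y ∉ G := (hnot y).2 hq.1.2
  let U' : (Spec R).Opens := c ⁻¹ᵁ j.opensRange
  have hU'G : U' ≤ G := fun w hw => by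
    obtain ⟨u₀, hu₀⟩ := (hw : c w ∈ j.opensRange)
    obtain ⟨W, s, huW, hs⟩ := exists_gen_nhd hL₀ u₀
    have hs' := (gen_restrict_iff j _).1
      (gen_of_modIso (asIso ((Scheme.Modules.restrictAdjunction j).counit.app L₀)).symm hs)
    refine Opens.mem_iSup.2 ⟨⟨c ⁻¹ᵁ (j ''ᵁ W), _, (gen_restrict_iff c _).2 (hs'.res (c.image_preimage_le _))⟩, ?_⟩
    exact ⟨u₀, huW, hu₀⟩
  have hyY : i (c y) ∈ Y := by
    by_contra hmem
    exact hyG (hU'G (show c y ∈ j.opensRange from hr.symm ▸ hmem))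
  let outer := hfin.toFinset.erase q
  obtain ⟨h₀, hh₀J, hh₀y⟩ := SetLike.not_le_iff_exists.1 (fun hle : outer.inf id ≤ q => by
    obtain ⟨p, hp, hpq⟩ := (hq.1.1.inf_le' (s := outer) (f := id)).1 hle
    rw [Finset.mem_erase, Set.Finite.mem_toFinset] at hp
    exact hp.1 (le_antisymm hpq (hq.2 hp.2.1 hpq)))
  have hloc : LocGen MR (D (R := R) h₀ ⊓ nonV q) := fun w hw => by
    have hwG : w ∈ G := by
      by_contra hwG
      obtain ⟨p, hp, hpw⟩ := Ideal.exists_minimalPrimes_le ((hnot w).1 hwG)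
      by_cases hpq : p = q
      · exact hw.2 (hpq ▸ hpw)
      · exact hw.1 (hpw ((Finset.inf_le (f := id) (Finset.mem_erase.2 ⟨hpq, hfin.mem_toFinset.2 hp⟩) :
          outer.inf id ≤ p) hh₀J))
    obtain ⟨W, s, hwW, hs⟩ := hmemG w hwG
    exact ⟨W, s, hwW, hs⟩
  have hpic : ParaF.PicTrivial (FEt.puncturedSpec (locR (R := R) y) : Scheme.{u}) :=
    picTrivial_punctured_of_ringEquiv (locEquiv (c ≫ i) y) ((isParafactorialLocalRing_iff _).1 (h _ hyY)).2
  obtain ⟨g, hgy, -, hs⟩ := exists_gen_near (R := R) y hpic hh₀y hloc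
  have hbij : ∀ (N : V.Modules), IsClosed' j N → ∀ O : (Spec R).Opens, Bij (N.restrict c) O (O ⊓ U') := by
    intro N hN O hle
    have h1 := (isClosed'_iff j N).1 hN (c ''ᵁ O)
    have e : j ''ᵁ (j ⁻¹ᵁ (c ''ᵁ O)) = c ''ᵁ (O ⊓ U') := by
      rw [Scheme.Hom.image_preimage_eq_opensRange_inf]
      refine SetLike.coe_injective ?_
      simp only [Scheme.Hom.coe_image, Opens.coe_inf]
      ext w
      exact ⟨fun ⟨hw₁, a, ha, haw⟩ => ⟨a, ⟨ha, show c a ∈ j.opensRange from (show c a = w from haw).symm ▸ hw₁⟩, haw⟩,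
        fun ⟨a, ⟨ha₁, ha₂⟩, haw⟩ => ⟨haw ▸ ha₂, a, ha₁, haw⟩⟩
    rw [e] at h1
    exact h1 (c.image_mono hle)
  have hO : ∀ O : (Spec R).Opens, Bij (Coh.structureModule (Spec R)) O (O ⊓ U') := fun O =>
    bij_of_restrict_iso' (W := ⊤) ((Scheme.Modules.restrictFunctor _).mapIso (DCohLib.restrictUnit c)) le_top
      inf_le_left (hbij _ (hRC.isClosed' i j hr) O)
  obtain ⟨s, hs⟩ := hs
  have hU'N : U' ≤ nonV (R := R) q := fun w hw hle => hyG (hU'G (mem_of_le (p := y) hle hw))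
  obtain ⟨s', hs'⟩ := exists_gen_of_bij (W := D (R := R) g) (U := U') (fun O _ => hO O)
    (fun O _ => hbij M (isClosed'_pushforward j L₀) O) ⟨_, hs.res (inf_le_inf_left _ hU'N)⟩
  exact hyG (Opens.mem_iSup.2 ⟨⟨D (R := R) g, s', hs'⟩, hgy⟩)

end Groth.Agent.ParaFLib
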