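import Groth.Agent.ParaFLib.Stalk
import Groth.Agent.DCohLib.StalkTensor
import Groth.Prelude.Def_CohB1

/-! Tensor powers of invertible modules and of their sections, on stalks. -/

set_option autoImplicit false
set_option linter.style.haveILetI false

universe u

open CategoryTheory AlgebraicGeometry TopologicalSpace Opposite
open Groth.Agent.PullbackMod Groth.Agent.DCohLib
open scoped TensorProduct

noncomputable section

namespace Groth.Agent.ParaFLib

variable {X : Scheme.{u}} {L : X.Modules}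

/-- The `n`-th power of a global section. -/
def powSec (σ : Γ(L, ⊤)) : ∀ n : ℕ, Γ(CohB1.tensorPow L n, ⊤)
  | 0 => (1 : Γ(X, ⊤))
  | n + 1 => pairS (CohB1.tensorPow L n) L (powSec σ n) σ

theorem bijective_smul_tmul {R : Type*} [CommRing R] {M N : Type*} [AddCommGroup M] [Module R M]
    [AddCommGroup N] [Module R N] {e : M} {e' : N} (h : Function.Bijective fun r : R => r • e)
    (h' : Function.Bijective fun r : R => r • e') :
    Function.Bijective fun r : R => r • (e ⊗ₜ[R] e') := by
  let f : R ≃ₗ[R] M := LinearEquiv.ofBijective (LinearMap.toSpanSingleton R M e) h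
  let g : R ≃ₗ[R] N := LinearEquiv.ofBijective (LinearMap.toSpanSingleton R N e') h'
  let c : R ≃ₗ[R] M ⊗[R] N := (TensorProduct.lid R R).symm ≪≫ₗ TensorProduct.congr f g
  have : (fun r : R => r • (e ⊗ₜ[R] e')) = c := funext fun r => by
    show r • (e ⊗ₜ[R] e') = ((1 : R) • e) ⊗ₜ[R] (r • e')
    rw [one_smul, TensorProduct.tmul_smul]
  rw [this]
  exact c.bijective

theorem exists_basis_powSec (σ : Γ(L, ⊤)) (x : X) {e : L.presheaf.stalk x}
    (he : Function.Bijective fun r : X.presheaf.stalk x => r • e) {a : X.presheaf.stalk x}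
    (ha : a • e = L.presheaf.germ ⊤ x trivial σ) :
    ∀ n : ℕ, ∃ en : (CohB1.tensorPow L n).presheaf.stalk x,
      (Function.Bijective fun r : X.presheaf.stalk x => r • en) ∧
      (a ^ n) • en = (CohB1.tensorPow L n).presheaf.germ ⊤ x trivial (powSec σ n)
  | 0 => ⟨oneG x, bijective_oneG x, ((congrArg (· • (oneG x : (Coh.structureModule X).presheaf.stalk x)) (pow_zero a)).trans (one_smul _ _) :)⟩
  | n + 1 => by
    obtain ⟨en, hen, hn⟩ := exists_basis_powSec σ x he ha n
    let T := stalkTensor x (CohB1.tensorPow L n) L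
    refine ⟨T (en ⊗ₜ e), ?_, ?_⟩
    · have : (fun r : X.presheaf.stalk x => r • T (en ⊗ₜ e)) = T ∘ fun r : X.presheaf.stalk x => r • (en ⊗ₜ[X.presheaf.stalk x] e) :=
        funext fun r => (T.map_smul r _).symm
      exact Eq.mpr (congrArg Function.Bijective this) (T.bijective.comp (bijective_smul_tmul hen he))
    · show a ^ (n + 1) • T (en ⊗ₜ e) = (tmod (CohB1.tensorPow L n) L).presheaf.germ ⊤ x trivial (pairS _ _ (powSec σ n) σ)
      refine Eq.trans ?_ (stalkTensorHom_tmul (U := ⊤) x trivial (powSec σ n) σ)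
      rw [← hn, ← ha, ← map_smul]
      refine congrArg T ?_
      rw [TensorProduct.tmul_smul, TensorProduct.smul_tmul', TensorProduct.smul_tmul', smul_smul, pow_succ']

/-- A section with a nonzero power in a trivial module is a trivialisation, if global functions form a field. -/
theorem isIso_of_tensorPow_trivial [IsIntegral X] (hfield : IsField Γ(X, ⊤)) (hL : PicF.IsInvertible L)
    (s : Coh.structureModule X ⟶ L) (hs : s ≠ 0) (d : ℕ) (hd : 0 < d)
    (φ : CohB1.tensorPow L d ≅ Coh.structureModule X) : IsIso s := by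
  let σ : Γ(L, ⊤) := s.app ⊤ (1 : Γ(X, ⊤))
  have hσ : ∀ x : X, stalkLin s x (oneG x) = L.presheaf.germ ⊤ x trivial σ :=
    fun x => stalkLin_germ s (U := ⊤) x trivial _
  let f : Γ(X, ⊤) := φ.hom.app ⊤ (powSec σ d)
  have key : ∀ (x : X) (e : L.presheaf.stalk x), (Function.Bijective fun r : X.presheaf.stalk x => r • e) →
      ∀ a : X.presheaf.stalk x, a • e = L.presheaf.germ ⊤ x trivial σ →
        ∃ v : X.presheaf.stalk x, IsUnit v ∧ a ^ d * v = X.presheaf.germ ⊤ x trivial f := by
    intro x e he a ha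
    obtain ⟨ed, hed, hd'⟩ := exists_basis_powSec σ x he ha d
    obtain ⟨v, hv⟩ := (bijective_oneG x).2 (stalkLin φ.hom x ed)
    change v • oneG x = _ at hv
    have hbij : Function.Bijective (stalkLin φ.hom x) := (isIso_iff_stalk φ.hom).1 inferInstance x
    refine ⟨v, ?_, (bijective_oneG x).1 ?_⟩
    · obtain ⟨z, hz⟩ := hbij.2 (oneG x)
      obtain ⟨r, rfl⟩ := hed.2 z
      change stalkLin φ.hom x (r • ed) = _ at hz
      rw [map_smul, ← hv, ← mul_smul] at hz
      exact IsUnit.of_mul_eq_one r ((mul_comm v r).trans ((bijective_oneG x).1 (hz.trans (one_smul _ _).symm)))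
    · show (a ^ d * v) • oneG x = _
      rw [mul_smul, hv, ← map_smul, hd']
      refine (stalkLin_germ φ.hom (U := ⊤) x trivial _).trans (Eq.trans ?_ (germ_smul' (U := ⊤) x trivial _ _))
      exact congrArg _ (smul_one_eq _).symm
  have hf : f ≠ 0 := fun h => by
    obtain ⟨e, he⟩ := exists_stalk_gen hL (genericPoint X)
    obtain ⟨a, ha⟩ := he.2 (L.presheaf.germ ⊤ (genericPoint X) trivial σ)
    obtain ⟨v, hv, hav⟩ := key _ e he a ha
    rw [h, map_zero] at hav
    have ha0 : a = 0 := pow_eq_zero_iff hd.ne' |>.1 ((hv.mul_left_eq_zero).1 hav)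
    refine stalkLin_generic_ne_zero hL hs (stalkLin_eq_zero_of_one s _ ?_)
    rw [hσ, ← show a • e = _ from ha, ha0, zero_smul]
  have hu : IsUnit f := by
    obtain ⟨g, hg⟩ := hfield.mul_inv_cancel hf
    exact IsUnit.of_mul_eq_one g hg
  rw [isIso_iff_stalk]
  intro x
  obtain ⟨e, he⟩ := exists_stalk_gen hL x
  obtain ⟨a, ha⟩ := he.2 (L.presheaf.germ ⊤ x trivial σ)
  refine bijective_stalkLin_of_unit s x he (ha.trans (hσ x).symm) ?_
  obtain ⟨v, -, hav⟩ := key x e he a ha
  have : IsUnit (a ^ d * v) := hav ▸ hu.map (X.presheaf.germ ⊤ x trivial).hom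
  exact (isUnit_pow_iff hd.ne').1 (isUnit_of_mul_isUnit_left this)

end Groth.Agent.ParaFLib
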