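import Groth.Agent.ParaFLib.Cocycle

/-! Modules with given transition functions over the union of a family of opens. -/

set_option autoImplicit false
set_option linter.style.haveILetI false

universe u

open CategoryTheory AlgebraicGeometry TopologicalSpace Opposite

noncomputable section

namespace Groth.Agent.ParaFLib

variable {X : Scheme.{u}} {ι : Type u} (U : ι → X.Opens) (c : X → ι)
  (η : ∀ i j : ι, (Γ(X, U i ⊓ U j))ˣ)

/-- The functions `x ↦ η_{i, c x}(x)` at covered points. -/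
def eFunO (hc : ∀ x, (∃ i, x ∈ U i) → x ∈ U (c x)) (i : ι) (x : X) (hx : x ∈ U i) : X.presheaf.stalk x :=
  X.presheaf.germ (U i ⊓ U (c x)) x ⟨hx, hc x ⟨i, hx⟩⟩ (η i (c x) : Γ(X, U i ⊓ U (c x)))

/-- The predicate: locally a multiple of the local bases, on the union. -/
def cocyclePredO (hc : ∀ x, (∃ i, x ∈ U i) → x ∈ U (c x)) :
    TopCat.LocalPredicate (fun x : X => (X.presheaf.stalk x : Type u)) where
  pred {V} f := ∀ (i : ι) (x : V), x.1 ∈ U i → ∃ (W : X.Opens) (_ : x.1 ∈ W) (hV : W ≤ V) (hi : W ≤ U i)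
    (r : Γ(X, W)), ∀ y : W, f ⟨y.1, hV y.2⟩ = X.presheaf.germ W y.1 y.2 r * eFunO U c η hc i y.1 (hi y.2)
  res {V V'} j f hf i x hx := by
    obtain ⟨W, hW, hV, hi, r, hr⟩ := hf i ⟨x.1, j.le x.2⟩ hx
    refine ⟨W ⊓ V, ⟨hW, x.2⟩, inf_le_right, inf_le_left.trans hi, X.presheaf.map (homOfLE inf_le_left).op r, fun y => ?_⟩
    rw [TopCat.Presheaf.germ_res_apply]
    exact hr ⟨y.1, y.2.1⟩
  locality {V} f h i x hx := by
    obtain ⟨V', hxV', j, hf⟩ := h x
    obtain ⟨W, hW, hV, hi, r, hr⟩ := hf i ⟨x.1, hxV'⟩ hx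
    exact ⟨W, hW, hV.trans j.le, hi, r, hr⟩

variable (hc : ∀ x, (∃ i, x ∈ U i) → x ∈ U (c x))

theorem eFunO_eq {η} (hη : IsCocycle U η) (i j : ι) (x : X) (hi : x ∈ U i) (hj : x ∈ U j) :
    eFunO U c η hc i x hi =
      X.presheaf.germ (U i ⊓ U j) x ⟨hi, hj⟩ (η i j : Γ(X, U i ⊓ U j)) * eFunO U c η hc j x hj := by
  have hx : x ∈ U i ⊓ U j ⊓ U (c x) := ⟨⟨hi, hj⟩, hc x ⟨i, hi⟩⟩
  have h := congrArg (X.presheaf.germ (U i ⊓ U j ⊓ U (c x)) x hx).hom (hη i j (c x))
  erw [map_mul, TopCat.Presheaf.germ_res_apply, TopCat.Presheaf.germ_res_apply,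
    TopCat.Presheaf.germ_res_apply] at h
  exact h

theorem isModPred_cocycleO {η} : Mero.IsModPred (cocyclePredO U c η hc) where
  zero V i x hx := ⟨V ⊓ U i, ⟨x.2, hx⟩, inf_le_left, inf_le_right, 0, fun y => by rw [map_zero, zero_mul]; rfl⟩
  add V f g hf hg i x hx := by
    obtain ⟨W, hW, hV, hi, r, hr⟩ := hf i x hx
    obtain ⟨W', hW', hV', hi', r', hr'⟩ := hg i x hx
    refine ⟨W ⊓ W', ⟨hW, hW'⟩, inf_le_left.trans hV, inf_le_left.trans hi,
      X.presheaf.map (homOfLE inf_le_left).op r + X.presheaf.map (homOfLE inf_le_right).op r', fun y => ?_⟩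
    rw [map_add, TopCat.Presheaf.germ_res_apply, TopCat.Presheaf.germ_res_apply, add_mul]
    exact congrArg₂ (· + ·) (hr ⟨y.1, y.2.1⟩) (hr' ⟨y.1, y.2.2⟩)
  smul V r f hf i x hx := by
    obtain ⟨W, hW, hV, hi, r', hr'⟩ := hf i x hx
    refine ⟨W, hW, hV, hi, X.presheaf.map (homOfLE hV).op r * r', fun y => ?_⟩
    show X.presheaf.germ V _ _ r • f _ = _
    rw [map_mul, TopCat.Presheaf.germ_res_apply, mul_assoc, hr' y]
    rfl

/-- A module with bases on a family of opens with given transition functions. -/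
theorem exists_module_of_cocycle [Nonempty ι] (hη : IsCocycle U η) :
    ∃ (L : X.Modules) (s : ∀ i : ι, Γ(L, U i)), (∀ i, Gen (U i) (s i)) ∧
      ∀ i j : ι, L.presheaf.map (homOfLE (inf_le_left : U i ⊓ U j ≤ U i)).op (s i) =
        (η i j : Γ(X, U i ⊓ U j)) • L.presheaf.map (homOfLE (inf_le_right : U i ⊓ U j ≤ U j)).op (s j) := by
  classical
  let c : X → ι := fun x => if h : ∃ i, x ∈ U i then h.choose else Classical.arbitrary ι
  have hc : ∀ x, (∃ i, x ∈ U i) → x ∈ U (c x) := fun x h => by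
    simp only [c, dif_pos h]
    exact h.choose_spec
  haveI := isModPred_cocycleO U c hc (η := η)
  let P := cocyclePredO U c η hc
  let s : ∀ i, Γ(Mero.modOf P, U i) := fun i =>
    ⟨fun x => eFunO U c η hc i x.1 x.2, fun j x hx => by
      refine ⟨U i ⊓ U j, ⟨x.2, hx⟩, inf_le_left, inf_le_right, (η i j : Γ(X, U i ⊓ U j)), fun y => ?_⟩
      exact eFunO_eq U c hc hη i j y.1 y.2.1 y.2.2⟩
  have hgen : ∀ i, Gen (U i) (s i) := by
    intro i V hV
    have hu : ∀ (x : X) (hx : x ∈ U i), IsUnit (eFunO U c η hc i x hx) := fun x hx =>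
      (η i (c x)).isUnit.map _
    constructor
    · intro r r' h
      refine TopCat.Presheaf.section_ext X.sheaf V r r' fun x hx => (hu x (hV hx)).mul_left_injective ?_
      exact congrFun (congrArg Subtype.val h) ⟨x, hx⟩
    · intro f
      choose W hxW hWV hWi r hr using fun x : V => f.2 i x (hV x.2)
      obtain ⟨g, hg, -⟩ := X.sheaf.existsUnique_gluing' W V (fun x => homOfLE (hWV x))
        (fun x hx => Opens.mem_iSup.2 ⟨⟨x, hx⟩, hxW _⟩) r (fun x x' =>
          TopCat.Presheaf.section_ext X.sheaf _ _ _ fun y hy => by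
            erw [TopCat.Presheaf.germ_res_apply, TopCat.Presheaf.germ_res_apply]
            exact (hu y (hV (hWV x hy.1))).mul_left_injective ((hr x ⟨y, hy.1⟩).symm.trans (hr x' ⟨y, hy.2⟩)))
      refine ⟨g, Subtype.ext (funext fun x => ?_)⟩
      show X.presheaf.germ V x.1 x.2 g * eFunO U c η hc i x.1 (hV x.2) = f.1 x
      refine Eq.trans ?_ (hr x ⟨x.1, hxW x⟩).symm
      exact congrArg (· * _) ((TopCat.Presheaf.germ_res_apply X.presheaf (homOfLE (hWV x)) x.1 (hxW x) g).symm.trans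
        (congrArg _ (hg x)))
  refine ⟨Mero.modOf P, s, hgen, fun i j => Subtype.ext (funext fun x => ?_)⟩
  show eFunO U c η hc i x.1 x.2.1 = X.presheaf.germ _ x.1 x.2 (η i j : Γ(X, U i ⊓ U j)) * eFunO U c η hc j x.1 x.2.2
  exact eFunO_eq U c hc hη i j x.1 x.2.1 x.2.2

end Groth.Agent.ParaFLib
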