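import Groth.Agent.ParaFLib.CocycleOpen
import Groth.Agent.ParaFLib.Extend
import Groth.Agent.ParaFLib.Ideal
import Groth.Agent.ParaFLib.Local

/-! Spreading sections from the spectrum of a local ring to basic opens. -/

set_option autoImplicit false
set_option linter.style.haveILetI false

universe u

open CategoryTheory AlgebraicGeometry TopologicalSpace Opposite

noncomputable section

namespace Groth.Agent.ParaFLib

variable {R : CommRingCat.{u}} (y : PrimeSpectrum R)

/-- The local ring at `y`, as an object of `CommRingCat`. -/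
def locR : CommRingCat.{u} := CommRingCat.of (Localization.AtPrime y.asIdeal)

instance : Algebra R (locR y) := inferInstanceAs (Algebra R (Localization.AtPrime y.asIdeal))

instance : IsLocalization.AtPrime (locR y) y.asIdeal :=
  inferInstanceAs (IsLocalization.AtPrime (Localization.AtPrime y.asIdeal) y.asIdeal)

instance : IsLocalRing (locR y) := inferInstanceAs (IsLocalRing (Localization.AtPrime y.asIdeal))

/-- The map from the spectrum of the local ring. -/
def locMap : Spec (locR y) ⟶ Spec R := Spec.map (CommRingCat.ofHom (algebraMap R (locR y)))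

/-- Pulling back functions. -/
def gA (O : (Spec R).Opens) : Γ(Spec R, O) →+* Γ(Spec (locR y), locMap y ⁻¹ᵁ O) := ((locMap y).app O).hom

theorem gA_res {O O' : (Spec R).Opens} (h : O' ≤ O) (x : Γ(Spec R, O)) :
    gA y O' ((Spec R).presheaf.map (homOfLE h).op x) =
      (Spec (locR y)).presheaf.map (homOfLE ((locMap y).preimage_mono h)).op (gA y O x) :=
  ConcreteCategory.congr_hom ((locMap y).naturality (homOfLE h).op) x

theorem gA_algebraMap (O : (Spec R).Opens) (r : R) :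
    gA y O (algebraMap R Γ(Spec R, O) r) =
      algebraMap (locR y) Γ(Spec (locR y), locMap y ⁻¹ᵁ O) (algebraMap R (locR y) r) := by
  rw [← res_algebraMap (le_top : O ≤ ⊤) r, gA_res, ← res_algebraMap (R := locR y) (le_top : locMap y ⁻¹ᵁ O ≤ ⊤)]
  refine congrArg _ ?_
  exact (ConcreteCategory.congr_hom
    (Scheme.ΓSpecIso_inv_naturality (CommRingCat.ofHom (algebraMap R (locR y)))) r).symm

theorem preimage_D (a : R) :
    locMap y ⁻¹ᵁ D a = D (R := locR y) (algebraMap R (locR y) a) := rfl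

theorem preimage_D_eq_top {h : R} (hh : h ∉ y.asIdeal) : locMap y ⁻¹ᵁ D h = ⊤ := by
  rw [preimage_D]
  exact top_le_iff.1 fun (z : PrimeSpectrum (locR y)) _ hz => z.isPrime.ne_top (Ideal.eq_top_of_isUnit_mem _ hz ((isUnit_iff_notMem_atPrime y h).2 hh))
where
  isUnit_iff_notMem_atPrime (y : PrimeSpectrum R) (h : R) :
      IsUnit (algebraMap R (locR y) h) ↔ h ∉ y.asIdeal :=
    IsLocalization.AtPrime.isUnit_to_map_iff (locR y) y.asIdeal h

theorem le_preimage_inf {h : R} (hh : h ∉ y.asIdeal) (O : (Spec R).Opens) :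
    locMap y ⁻¹ᵁ O ≤ locMap y ⁻¹ᵁ (D h ⊓ O) := fun z hz =>
  ⟨(preimage_D_eq_top y hh).ge (Opens.mem_top z), hz⟩

/-- Pullback of functions on `D h ⊓ O`, as functions on the preimage of `O`. -/
def gB {h : R} (hh : h ∉ y.asIdeal) (O : (Spec R).Opens) :
    Γ(Spec R, D h ⊓ O) →+* Γ(Spec (locR y), locMap y ⁻¹ᵁ O) :=
  ((Spec (locR y)).presheaf.map (homOfLE (le_preimage_inf y hh O)).op).hom.comp (gA y (D h ⊓ O))

theorem gB_res {h h' : R} (hh : h ∉ y.asIdeal) (hh' : h' ∉ y.asIdeal) {O O' : (Spec R).Opens}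
    (hle : D h' ⊓ O' ≤ D h ⊓ O) (hO : O' ≤ O) (x : Γ(Spec R, D h ⊓ O)) :
    gB y hh' O' ((Spec R).presheaf.map (homOfLE hle).op x) =
      (Spec (locR y)).presheaf.map (homOfLE ((locMap y).preimage_mono hO)).op (gB y hh O x) := by
  show (Spec (locR y)).presheaf.map _ (gA y _ _) = (Spec (locR y)).presheaf.map _ ((Spec (locR y)).presheaf.map _ _)
  rw [gA_res, ← ConcreteCategory.comp_apply, ← ConcreteCategory.comp_apply, ← Functor.map_comp, ← Functor.map_comp]
  rfl

theorem gB_of_res {h : R} (hh : h ∉ y.asIdeal) {O : (Spec R).Opens} (x : Γ(Spec R, O)) :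
    gB y hh O ((Spec R).presheaf.map (homOfLE (inf_le_right : D h ⊓ O ≤ O)).op x) = gA y O x := by
  show (Spec (locR y)).presheaf.map _ (gA y _ _) = _
  rw [gA_res, ← ConcreteCategory.comp_apply, ← Functor.map_comp]
  exact ConcreteCategory.congr_hom ((Spec (locR y)).presheaf.map_id _) _

theorem exists_lift_gA (a : R) (O : (Spec R).Opens) (hO : O = D a) (c : Γ(Spec (locR y), locMap y ⁻¹ᵁ O)) :
    ∃ (h : R) (hh : h ∉ y.asIdeal) (C : Γ(Spec R, D h ⊓ O)), gB y hh O C = c := by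
  subst hO
  let φ := algebraMap R (locR y)
  obtain ⟨⟨s, _, n, rfl⟩, hs⟩ := IsLocalization.surj (Submonoid.powers (φ a))
    (S := Γ(Spec (locR y), D (R := locR y) (φ a))) c
  obtain ⟨⟨r, t⟩, ht⟩ := IsLocalization.surj y.asIdeal.primeCompl (s : locR y)
  have htp : t.1 ∉ y.asIdeal := t.property
  have hu : IsUnit (algebraMap R Γ(Spec R, D t.1 ⊓ D a) (t.1 * a ^ n)) := by
    rw [map_mul, map_pow]
    exact (isUnit_algebraMap_of_le inf_le_left).mul ((isUnit_algebraMap_of_le inf_le_right).pow n)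
  refine ⟨t.1, htp, algebraMap R _ r * (↑hu.unit⁻¹ : Γ(Spec R, D t.1 ⊓ D a)), ?_⟩
  have hu' := hu.map (gB y htp (D a))
  refine hu'.mul_left_injective ?_
  show _ * gB y htp (D a) _ = c * gB y htp (D a) _
  rw [← map_mul, mul_assoc, IsUnit.val_inv_mul, mul_one]
  have e : ∀ q : R, gB y htp (D a) (algebraMap R _ q) = algebraMap (locR y) _ (φ q) := fun q => by
    rw [← res_algebraMap (inf_le_right : D t.1 ⊓ D a ≤ D a) q, gB_of_res, gA_algebraMap]
  rw [e, e, map_mul φ, map_pow φ, map_mul, mul_left_comm,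
    show c * algebraMap (locR y) _ (φ a ^ n) = algebraMap (locR y) _ s from hs, ← map_mul,
    mul_comm, ← show s * φ t.1 = φ r from ht]

theorem exists_zero_gA (a : R) (O : (Spec R).Opens) (hO : O = D a) (x : Γ(Spec R, O)) (hx : gA y O x = 0) :
    ∃ h : R, h ∉ y.asIdeal ∧ (Spec R).presheaf.map (homOfLE (inf_le_right : D h ⊓ O ≤ O)).op x = 0 := by
  subst hO
  let φ := algebraMap R (locR y)
  obtain ⟨⟨r, _, n, rfl⟩, hr⟩ := IsLocalization.surj (Submonoid.powers a) (x : Γ(Spec R, D a))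
  change x * algebraMap R _ (a ^ n) = algebraMap R _ r at hr
  have h0 : algebraMap (locR y) Γ(Spec (locR y), D (R := locR y) (φ a)) (φ r) = 0 := by
    have := congrArg (gA y (D a)) hr
    rw [map_mul, hx, zero_mul, gA_algebraMap] at this
    exact this.symm
  obtain ⟨⟨_, m, rfl⟩, hm⟩ := (IsLocalization.map_eq_zero_iff (Submonoid.powers (φ a)) _ _).1 h0
  change φ a ^ m * φ r = 0 at hm
  rw [← map_pow, ← map_mul] at hm
  obtain ⟨t, ht⟩ := (IsLocalization.map_eq_zero_iff y.asIdeal.primeCompl (locR y) _).1 hm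
  refine ⟨t.1, t.2, ?_⟩
  have h1 := congrArg ((Spec R).presheaf.map (homOfLE (inf_le_right : D t.1 ⊓ D a ≤ D a)).op).hom hr
  have h2 := congrArg (algebraMap R Γ(Spec R, D t.1 ⊓ D a)) ht
  rw [map_mul, map_mul, map_zero, (isUnit_algebraMap_of_le (W := D t.1 ⊓ D a) (a := t.1) inf_le_left).mul_right_eq_zero,
    map_pow, ((isUnit_algebraMap_of_le (W := D t.1 ⊓ D a) (a := a) inf_le_right).pow m).mul_right_eq_zero] at h2
  rw [map_mul] at h1
  erw [res_algebraMap inf_le_right, h2] at h1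
  refine ((IsUnit.mul_left_eq_zero ?_).1 h1)
  rw [map_pow]
  exact (isUnit_algebraMap_of_le inf_le_right).pow n

theorem D_le_of_dvd {h h' : R} (hd : h ∣ h') : (D h' : (Spec R).Opens) ≤ D h :=
  fun (z : PrimeSpectrum R) hz hm => hz (Ideal.mem_of_dvd _ hd hm)

/-- Two functions with the same pullback agree after shrinking. -/
theorem exists_eq_gB (a : R) {h : R} (hh : h ∉ y.asIdeal) (O : (Spec R).Opens) (hO : O = D a)
    (x x' : Γ(Spec R, D h ⊓ O)) (hx : gB y hh O x = gB y hh O x') :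
    ∃ k : R, k ∉ y.asIdeal ∧ h ∣ k ∧ ∀ (W : (Spec R).Opens) (hW : W ≤ D h ⊓ O), W ≤ D k →
      (Spec R).presheaf.map (homOfLE hW).op x = (Spec R).presheaf.map (homOfLE hW).op x' := by
  have hO' : D h ⊓ O = D (h * a) := by
    rw [hO]
    exact (PrimeSpectrum.basicOpen_mul h a).symm
  obtain ⟨k, hk, hk0⟩ := exists_zero_gA y (h * a) (D h ⊓ O) hO' (x - x') (by
    have h1 : (Spec (locR y)).presheaf.map (homOfLE (le_preimage_inf y hh O)).op (gA y (D h ⊓ O) (x - x')) = 0 :=
      (map_sub (gB y hh O) x x').trans (sub_eq_zero.2 hx)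
    have hiso : IsIso (homOfLE (le_preimage_inf y hh O)) := by
      have e : locMap y ⁻¹ᵁ O = locMap y ⁻¹ᵁ (D h ⊓ O) :=
        le_antisymm (le_preimage_inf y hh O) ((locMap y).preimage_mono inf_le_right)
      rw [show homOfLE (le_preimage_inf y hh O) = eqToHom e from rfl]
      infer_instance
    exact (ConcreteCategory.bijective_of_isIso ((Spec (locR y)).presheaf.map (homOfLE (le_preimage_inf y hh O)).op)).1
      (h1.trans (map_zero _).symm))
  refine ⟨h * k, fun hm => (y.isPrime.mem_or_mem hm).elim hh hk, dvd_mul_right h k, fun W hW hWk => ?_⟩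
  have hWk' : W ≤ D k ⊓ (D h ⊓ O) := le_inf (hWk.trans (D_le_of_dvd (dvd_mul_left k h))) hW
  have h3 := congrArg ((Spec R).presheaf.map (homOfLE hWk').op).hom hk0
  rw [map_zero] at h3
  rw [← sub_eq_zero]
  refine Eq.trans ?_ h3
  rw [← map_sub ((Spec R).presheaf.map (homOfLE hW).op).hom]
  show _ = ((Spec R).presheaf.map _ ≫ (Spec R).presheaf.map _) (x - x')
  rw [← Functor.map_comp]
  rfl

/-- Units spread out. -/
theorem exists_unit_lift (a : R) (O : (Spec R).Opens) (hO : O = D a) (c : Γ(Spec (locR y), locMap y ⁻¹ᵁ O))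
    (hc : IsUnit c) :
    ∃ (h : R) (hh : h ∉ y.asIdeal) (C : Γ(Spec R, D h ⊓ O)), IsUnit C ∧ gB y hh O C = c := by
  obtain ⟨h₁, hh₁, C₁, hC₁⟩ := exists_lift_gA y a O hO c
  obtain ⟨h₂, hh₂, C₂, hC₂⟩ := exists_lift_gA y a O hO (↑hc.unit⁻¹ : Γ(Spec (locR y), locMap y ⁻¹ᵁ O))
  have h12 : h₁ * h₂ ∉ y.asIdeal := fun hm => (y.isPrime.mem_or_mem hm).elim hh₁ hh₂
  have l₁ : D (h₁ * h₂) ⊓ O ≤ D h₁ ⊓ O := inf_le_inf_right O (D_le_of_dvd (dvd_mul_right h₁ h₂))
  have l₂ : D (h₁ * h₂) ⊓ O ≤ D h₂ ⊓ O := inf_le_inf_right O (D_le_of_dvd (dvd_mul_left h₂ h₁))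
  let P := (Spec R).presheaf.map (homOfLE l₁).op C₁ * (Spec R).presheaf.map (homOfLE l₂).op C₂
  obtain ⟨k, hk, hdk, hkP⟩ := exists_eq_gB y a h12 O hO P 1 (by
    have e₁ := gB_res y hh₁ h12 l₁ le_rfl C₁
    have e₂ := gB_res y hh₂ h12 l₂ le_rfl C₂
    rw [hC₁] at e₁
    rw [hC₂] at e₂
    show gB y h12 O (_ * _) = _
    rw [map_mul, map_one, e₁, e₂]
    exact (map_mul ((Spec (locR y)).presheaf.map _).hom _ _).symm.trans
      ((congrArg _ (IsUnit.mul_val_inv hc)).trans (map_one _)))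
  have lk : D k ⊓ O ≤ D (h₁ * h₂) ⊓ O := inf_le_inf_right O (D_le_of_dvd hdk)
  refine ⟨k, hk, (Spec R).presheaf.map (homOfLE (lk.trans l₁)).op C₁, ?_, ?_⟩
  · have hP := hkP (D k ⊓ O) lk inf_le_left
    have hP' : ((Spec R).presheaf.map (homOfLE lk).op).hom P = 1 := hP.trans (map_one _)
    rw [show P = _ * _ from rfl, map_mul] at hP'
    refine IsUnit.of_mul_eq_one _ (Eq.trans (congrArg (· * _) ?_) hP')
    show _ = ((Spec R).presheaf.map _ ≫ (Spec R).presheaf.map _) C₁
    rw [← Functor.map_comp]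
    rfl
  · rw [gB_res y hh₁ hk (lk.trans l₁) le_rfl, hC₁]
    exact ConcreteCategory.congr_hom ((Spec (locR y)).presheaf.map_id _) c

end Groth.Agent.ParaFLib
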